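import Cfsg.Agent.H765.Fin

/-!
# The configuration with `|E / K| = p²` and three generators (helper765)
-/

set_option autoImplicit false
set_option linter.unusedSectionVars false
set_option linter.unusedSimpArgs false
set_option linter.unusedVariables false

namespace Cfsg.Agent.H765

open Module Subgroup

universe u

variable {X : Type u} [Group X]

section

variable {p : ℕ} [Fact p.Prime] [Finite X] {N E H H0 K D : Subgroup X}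

/-- `τ s τ⁻¹ s` centralizes `D`. -/
theorem PC.cen_inv (q : PC p N E H H0 K) (hp2 : p ≠ 2) {τ : X} (hτ0 : τ ∈ H0) (i : IT p E K τ) (hDE : D ≤ E)
    (hDm : ∀ x, x ∈ D ↔ x ∈ N ∧ ∀ n ∈ N, n * x * n⁻¹ * x⁻¹ ∈ K) :
    ∀ s ∈ N, τ * s * τ⁻¹ * s ∈ N ∧ ∀ x ∈ D, (τ * s * τ⁻¹ * s) * x = x * (τ * s * τ⁻¹ * s) := by
  intro s hs
  have hKc := q.cenK hp2
  have hDN := hDE.trans q.h.EN
  have ht : τ * s * τ⁻¹ ∈ N := conj_mem_of_norm (q.h.H0N hτ0) hs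
  refine ⟨mul_mem ht hs, fun x hx => ?_⟩
  obtain ⟨t, htdef⟩ : ∃ t, t = τ * s * τ⁻¹ := ⟨_, rfl⟩
  obtain ⟨z, hz⟩ : ∃ z, z = s * x * s⁻¹ * x⁻¹ := ⟨_, rfl⟩
  obtain ⟨κ, hκ⟩ : ∃ κ, κ = τ * x * τ⁻¹ * x := ⟨_, rfl⟩
  have hzK : z ∈ K := hz ▸ ((hDm x).1 hx).2 s hs
  have hκK : κ ∈ K := hκ ▸ i.inv x (hDE hx)
  have hxN := hDN hx
  rw [← htdef] at ht ⊢
  have e1 : τ * z * τ⁻¹ = z := by rw [i.tK z hzK, mul_inv_cancel_right]
  have e2 : τ * z * τ⁻¹ = t * (κ * x⁻¹) * t⁻¹ * (κ * x⁻¹)⁻¹ := by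
    rw [hz, htdef, hκ]; group
  have e3 : t * (κ * x⁻¹) * t⁻¹ * (κ * x⁻¹)⁻¹ = t * x⁻¹ * t⁻¹ * x := by
    have h1 : t * κ = κ * t := hKc κ hκK t ht
    have h2 : (t * x⁻¹ * t⁻¹ * x) * κ = κ * (t * x⁻¹ * t⁻¹ * x) :=
      hKc κ hκK _ (mul_mem (mul_mem (mul_mem ht (inv_mem hxN)) (inv_mem ht)) hxN)
    calc t * (κ * x⁻¹) * t⁻¹ * (κ * x⁻¹)⁻¹ = (t * κ) * x⁻¹ * t⁻¹ * x * κ⁻¹ := by group
      _ = κ * (t * x⁻¹ * t⁻¹ * x) * κ⁻¹ := by rw [h1]; group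
      _ = _ := by rw [← h2, mul_inv_cancel_right]
  have e4 : t * x⁻¹ * t⁻¹ = z * x⁻¹ := by
    rw [e2, e3] at e1
    rw [← e1]; group
  have e5 : t * x * t⁻¹ = x * z⁻¹ := by
    have : t * x * t⁻¹ = (t * x⁻¹ * t⁻¹)⁻¹ := by group
    rw [this, e4]; group
  have e6 : s * x * s⁻¹ = z * x := by rw [hz]; group
  have h3 : t * z = z * t := hKc z hzK t ht
  have h4 : x * z = z * x := hKc z hzK x hxN
  have e7 : t * s * x * (t * s)⁻¹ = x := by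
    calc t * s * x * (t * s)⁻¹ = t * (s * x * s⁻¹) * t⁻¹ := by group
      _ = (t * z) * x * t⁻¹ := by rw [e6]; group
      _ = z * (t * x * t⁻¹) := by rw [h3]; group
      _ = (z * x) * z⁻¹ := by rw [e5]; group
      _ = x := by rw [← h4, mul_inv_cancel_right]
  rwa [mul_inv_eq_iff_eq_mul] at e7

/-- `[N, D] ≤ Φ(E)` and `Φ(E)` is `H0`-invariant. -/
theorem PC.phi (q : PC p N E H H0 K) (hp2 : p ≠ 2) (hKD : K ≤ D) (hDE : D ≤ E) (hDc : K.relIndex D = p)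
    (hDcs : N ≤ cs E D) (hDm : ∀ x, x ∈ D ↔ x ∈ N ∧ ∀ n ∈ N, n * x * n⁻¹ * x⁻¹ ∈ K)
    (nD : H0 ≤ normalizer (D : Set X)) :
    N ≤ cs D (Fr p E) ∧ H0 ≤ normalizer (Fr p E : Set X) := by
  have hpp : p.Prime := Fact.out
  have hKc := q.cenK hp2
  obtain ⟨τ, hτ0, hτL, i, hτN⟩ := q.exists_tau hp2
  obtain ⟨a, haD, b, haK, hbD, hat, hbt, d, hDg⟩ := i.exists_DD hp2 q.hcomm q.hc2 hKD hDE hDc
  obtain ⟨g, hg, y, hy, hyN, hyE⟩ := q.exists_g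
  have hDN := hDE.trans q.h.EN
  have nΦN : N ≤ normalizer (Fr p E : Set X) := norm_Fr q.h.NE
  have h1 : N ≤ cs D (Fr p E) := by
    obtain ⟨hs1, hs2⟩ := q.cen_inv hp2 hτ0 i hDE hDm y hyN
    refine q.h.le_of_not_mem hs1 ?_ (fun e he => ⟨nΦN (q.h.EN he), fun r hr => comm_mem_Fr he (hDE hr)⟩) ?_
    · intro hE
      have h2 := hτN.2 y hyN
      have e : y ^ 2 = (τ * y * τ⁻¹ * y⁻¹)⁻¹ * (τ * y * τ⁻¹ * y) := by rw [pow_two]; group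
      have h3 : y ^ 2 ∈ E := by rw [e]; exact mul_mem (inv_mem h2) hE
      exact hyE (mem_of_sq_mem hp2 q.h.pN hyN h3)
    · refine ⟨nΦN hs1, fun r hr => ?_⟩
      rw [hs2 r hr, mul_inv_cancel_right, mul_inv_cancel]
      exact one_mem _
  refine ⟨h1, ?_⟩
  obtain ⟨Ψ, hΨ⟩ : ∃ Ψ, Ψ = cc N D ⊔ Fr p K := ⟨_, rfl⟩
  have nΨ : H0 ≤ normalizer (Ψ : Set X) := hΨ ▸ norm_sup (norm_cc q.h.H0N nD) (norm_Fr q.c.n0)
  have hE0 : E ≤ H0 := q.h.EN.trans q.h.N0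
  have h2 : Ψ ≤ Fr p E := by
    rw [hΨ]
    refine sup_le (cc_le_iff.2 fun n hn r hr => (h1 hn).2 r hr) ?_
    rw [Fr_le_iff]
    exact ⟨fun x hx y hy => comm_mem_Fr (q.c.le hx) (q.c.le hy), fun x hx => pow_mem_Fr (q.c.le hx)⟩
  have h3 : Fr p E ≤ Ψ := by
    rw [Fr_le_iff]
    have hab : b * a * b⁻¹ * a⁻¹ ∈ Ψ := hΨ ▸ mem_sup_left (mem_cc (q.h.EN d.be) haD)
    have hab' : a * b * a⁻¹ * b⁻¹ ∈ Ψ := by
      have := inv_mem hab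
      have e : (b * a * b⁻¹ * a⁻¹)⁻¹ = a * b * a⁻¹ * b⁻¹ := by group
      rwa [e] at this
    have hone : ∀ s t : X, s * t = t * s → s * t * s⁻¹ * t⁻¹ ∈ Ψ := by
      intro s t hst
      rw [hst, mul_inv_cancel_right, mul_inv_cancel]
      exact one_mem _
    have h4 := EA_mod (p := p) (B := Ψ) (T := {a, b} ∪ (K : Set X)) (by
      rintro x ((rfl | rfl) | hx)
      · exact nΨ (hE0 d.ae)
      · exact nΨ (hE0 d.be)
      · exact nΨ (hE0 (q.c.le hx))) (by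
      rintro s ((rfl | rfl) | hs) t ((rfl | rfl) | ht)
      · exact hone _ _ rfl
      · exact hab'
      · exact hone _ _ (d.ak t ht)
      · exact hab
      · exact hone _ _ rfl
      · exact hone _ _ (d.bk t ht)
      · exact hone _ _ (d.ak s hs).symm
      · exact hone _ _ (d.bk s hs).symm
      · exact hone _ _ (hKc t ht s (q.h.EN (q.c.le hs)))) (by
      rintro t ((rfl | rfl) | ht)
      · rw [d.ap]; exact one_mem _
      · rw [d.bp]; exact one_mem _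
      · exact hΨ ▸ mem_sup_right (pow_mem_Fr ht))
    exact ⟨fun x hx y hy => h4.1 x (d.gen hx) y (d.gen hy), fun x hx => h4.2 x (d.gen hx)⟩
  rw [le_antisymm h3 h2]
  exact nΨ

end

end Cfsg.Agent.H765
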