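import Cfsg.Agent.H765.A1a

/-!
# The configuration with `|E / K| = p²` and three generators: structure (helper765)
-/

set_option autoImplicit false
set_option linter.unusedSectionVars false
set_option linter.unusedSimpArgs false
set_option linter.unusedVariables false

namespace Cfsg.Agent.H765

open Module Subgroup

universe u

variable {X : Type u} [Group X]

section

variable {p : ℕ} [Fact p.Prime] [Finite X] {N E H H0 K D Φ Z : Subgroup X}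

/-- The structure of `N` modulo `Φ = Φ(E)`. -/
structure A1 (p : ℕ) (N E H H0 K D Φ Z : Subgroup X) : Prop where
  ΦK : Φ ≤ K
  KD : K ≤ D
  DE : D ≤ E
  ΦZ : Φ ≤ Z
  ZD : Z ≤ D
  nΦ : H0 ≤ normalizer (Φ : Set X)
  nD : H0 ≤ normalizer (D : Set X)
  nZ : H0 ≤ normalizer (Z : Set X)
  cDE : D.relIndex E = p
  cΦZ : Φ.relIndex Z = p
  cΦD : Φ.relIndex D = p ^ 2
  NDΦ : N ≤ cs D Φ
  NNZ : ∀ a ∈ N, ∀ b ∈ N, a * b * a⁻¹ * b⁻¹ ∈ Z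
  exp : ∀ n ∈ N, n ^ p ∈ Φ
  DKZ : ∀ d ∈ D, ∃ k ∈ K, ∃ z ∈ Z, d = k * z
  self : ∀ x ∈ N, (∀ n ∈ N, n * x * n⁻¹ * x⁻¹ ∈ Φ) → x ∈ D
  tor : ∀ c c' : ℕ, (c : ZMod p) * (c' : ZMod p) = 1 → ∃ t ∈ H0, t ∈ H ∧ t ∈ cs K Φ ∧
    (∀ v ∈ Z, t * v * t⁻¹ * (v ^ c)⁻¹ ∈ Φ) ∧ (∀ v ∈ E, t * v * t⁻¹ * (v ^ c')⁻¹ ∈ D) ∧
    (∀ n ∈ N, t * n * t⁻¹ * (n ^ (c * c))⁻¹ ∈ E)

theorem PC.exists_A1 (q : PC p N E H H0 K) (hp2 : p ≠ 2) (hΦ : (Fr p E).relIndex K = p) :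
    ∃ D Z, A1 p N E H H0 K D (Fr p E) Z := by
  have hpp : p.Prime := Fact.out
  have h := q.h
  have hKc := q.cenK hp2
  obtain ⟨D, hKD, hDE, hDc, hDcs, hDm, nD, hND⟩ := q.exists_D
  obtain ⟨hNDΦ, nΦ⟩ := q.phi hp2 hKD hDE hDc hDcs hDm nD
  obtain ⟨g, hg, y, hy, hyN, hyE⟩ := q.exists_g
  obtain ⟨Φ, hΦd⟩ : ∃ Φ, Φ = Fr p E := ⟨_, rfl⟩
  have hΦcomm : ∀ a ∈ E, ∀ b ∈ E, a * b * a⁻¹ * b⁻¹ ∈ Φ := fun a ha b hb => hΦd ▸ comm_mem_Fr ha hb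
  have hΦpow : ∀ a ∈ E, a ^ p ∈ Φ := fun a ha => hΦd ▸ pow_mem_Fr ha
  have nΦH : H ≤ normalizer (Φ : Set X) := hΦd ▸ norm_Fr h.HE
  have hΦK : Φ ≤ K := hΦd ▸ Fr_le_iff.2 ⟨q.hcomm, q.hpow⟩
  rw [← hΦd] at hΦ hNDΦ nΦ
  have hKE := q.c.le
  have hΦE : Φ ≤ E := hΦK.trans hKE
  have hΦD : Φ ≤ D := hΦK.trans hKD
  have hDN := hDE.trans h.EN
  have hEΦ : E ≤ normalizer (Φ : Set X) := h.EH.trans nΦH
  have hNΦ : N ≤ normalizer (Φ : Set X) := h.NH.trans nΦH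
  have hDE' : D.relIndex E = p := by
    have h3 : K.relIndex D * D.relIndex E = K.relIndex E := relIndex_mul_relIndex _ _ _ hKD hDE
    rw [hDc, q.hc2, pow_two] at h3
    exact Nat.eq_of_mul_eq_mul_left hpp.pos h3
  have hΦD' : Φ.relIndex D = p ^ 2 := by
    rw [← relIndex_mul_relIndex _ _ _ hΦK hKD, hΦ, hDc, pow_two]
  have hc3 : Φ.relIndex E = p ^ 3 := by
    rw [← relIndex_mul_relIndex _ _ _ hΦD hDE, hΦD', hDE']
    ring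
  have hs : Sct p H E Φ := ⟨hΦE, h.HE, nΦH, hEΦ, hΦcomm, hΦpow⟩
  have hEcs : E ≤ cs E Φ := fun e he => ⟨hEΦ he, fun r hr => hΦcomm e he r hr⟩
  have npt : ¬ PT p (Lc N H) E Φ := fun hh => q.npt (hh.section le_rfl hΦK (h.LH.trans q.c.n))
  obtain ⟨Z, hΦZ, hZE, hZc, hNZ⟩ := h.exists_Z' hs le_rfl hEcs npt hΦD hDE hDE'.le hNDΦ
  obtain ⟨V₁, V₂, dec, htor⟩ := h.exists_torus hs le_rfl hEcs hc3.le npt hΦZ hZE hZc hNZ
  have hNnZ : N ≤ normalizer (Z : Set X) := fun n hn => (hNZ hn).1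
  have hNNZ : ∀ a ∈ N, ∀ b ∈ N, a * b * a⁻¹ * b⁻¹ ∈ Z := by
    intro a ha b hb
    by_cases haE : a ∈ E
    · have h2 := inv_mem ((hNZ hb).2 a haE)
      have e : (b * a * b⁻¹ * a⁻¹)⁻¹ = a * b * a⁻¹ * b⁻¹ := by group
      rwa [e] at h2
    · have h2 : N ≤ sc a Z := by
        refine h.le_of_not_mem ha haE (fun e he => ⟨hNnZ (h.EN he), (hNZ ha).2 e he⟩) ⟨hNnZ ha, ?_⟩
        rw [mul_inv_cancel_right, mul_inv_cancel]
        exact one_mem _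
      exact (h2 hb).2
  -- elements central modulo `Φ`
  have hself : ∀ x ∈ N, (∀ n ∈ N, n * x * n⁻¹ * x⁻¹ ∈ Φ) → x ∈ D := fun x hx hx' =>
    (hDm x).2 ⟨hx, fun n hn => hΦK (hx' n hn)⟩
  -- `Z ≤ D`
  have hNcsZ : N ≤ cs Z Φ := N_le_cs h.pN hΦZ (hZE.trans hEΦ) hNnZ hNΦ (h.pE.to_le hZE) hZc.le
  have hZD : Z ≤ D := fun z hz => hself z (h.EN (hZE hz)) fun n hn => (hNcsZ hn).2 z hz
  have hDne : ¬ E ≤ D := by
    intro hh
    rw [relIndex_eq_one.2 hh] at hDE'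
    exact hpp.one_lt.ne hDE'
  have nZ : H0 ≤ normalizer (Z : Set X) := by
    obtain ⟨Z', hZ'⟩ : ∃ Z', Z' = cc N N ⊔ Φ := ⟨_, rfl⟩
    have nZ' : H0 ≤ normalizer (Z' : Set X) := hZ' ▸ norm_sup (norm_cc h.H0N h.H0N) nΦ
    have h1 : Z' ≤ Z := hZ' ▸ sup_le (cc_le_iff.2 hNNZ) hΦZ
    have h2 : Z ≤ Z' := by
      have h3 : ¬ Z' ≤ Φ := by
        intro hh
        apply hDne
        intro e he
        exact hself e (h.EN he) fun n hn => hh (hZ' ▸ mem_sup_left (mem_cc hn (h.EN he)))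
      obtain ⟨w, hw, hwK⟩ := SetLike.not_le_iff_exists.1 h3
      have h4 := card_mul_relIndex' hΦZ
      rw [hZc] at h4
      exact le_of_card_p (h.pE.to_le hZE) hΦZ h4.ge (hZ' ▸ le_sup_right) (h1 hw) hwK hw
    rw [le_antisymm h2 h1]
    exact nZ'
  -- `V₁ = K`
  have hV1Φ : ¬ V₁ ≤ Φ := by
    intro hh
    have h1 : E ≤ V₂ := by
      intro e he
      obtain ⟨a, ha, b, hb, rfl⟩ := dec.sup e he
      exact mul_mem (dec.le2 (hh ha)) hb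
    have h2 : V₂ = E := le_antisymm dec.le2' h1
    have h3 := dec.card2
    rw [h2, hc3] at h3
    exact absurd ((Nat.pow_right_injective hpp.two_le) h3) (by norm_num)
  have hKV : K ≤ V₁ := by
    intro k hk
    obtain ⟨a, ha, b, hb, hab⟩ := dec.sup k (hKE hk)
    by_contra hkV
    have hbΦ : b ∉ Φ := fun hh => hkV (by rw [← hab]; exact mul_mem ha (dec.le1 hh))
    -- `b` is fixed by `L` modulo `Φ`
    have hLK : Lc N H ≤ cs K Φ := Lc_le_cs' q.c.n nΦH fun n hn => ⟨hNΦ hn, fun r hr => by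
      rw [hKc r hr n hn, mul_inv_cancel_right, mul_inv_cancel]; exact one_mem _⟩
    have hLb : ∀ l ∈ Lc N H, l * b * l⁻¹ * b⁻¹ ∈ Φ := by
      intro l hl
      have h1 := (hLK hl).2 k hk
      have h2 := (dec.L1 hl).2 a ha
      have hbE := dec.le2' hb
      have haE := dec.le1' ha
      have haΦ : a ∈ normalizer (Φ : Set X) := hEΦ haE
      rw [← hab] at h1
      have e : l * b * l⁻¹ * b⁻¹ = a⁻¹ * ((l * a * l⁻¹ * a⁻¹)⁻¹ * (l * (a * b) * l⁻¹ * (a * b)⁻¹)) * a⁻¹⁻¹ := by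
        group
      have h3 := conj_mem_of_norm (inv_mem haΦ) (mul_mem (inv_mem h2) h1)
      have e2 : l * b * l⁻¹ * b⁻¹ = (a⁻¹ * ((l * a * l⁻¹ * a⁻¹)⁻¹ * (l * (a * b) * l⁻¹ * (a * b)⁻¹)) * a⁻¹⁻¹) := e
      rw [e2]
      exact h3
    obtain ⟨W, hW⟩ : ∃ W, W = fx (Lc N H) V₂ Φ := ⟨_, rfl⟩
    have hΦW : Φ ≤ W := hW ▸ le_fx dec.le2 (h.LH.trans nΦH)
    have hWV : W ≤ V₂ := hW ▸ fx_le
    have hbW : b ∈ W := by
      rw [hW, mem_fx]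
      exact ⟨hb, hEΦ (dec.le2' hb), hLb⟩
    have hV₂p := h.pE.to_le dec.le2'
    have hWc : Nat.card Φ * p ≤ Nat.card W :=
      card_mul_p_le (hV₂p.to_le hWV) hΦW fun hh => hbΦ (hh hbW)
    have hWc' : W.relIndex V₂ ≤ p := by
      have h1 := card_mul_relIndex' hWV
      have h2 := card_mul_relIndex' dec.le2
      rw [dec.card2] at h2
      by_contra hno
      push Not at hno
      have h3 : Nat.card W * W.relIndex V₂ ≤ Nat.card Φ * p ^ 2 := by rw [h1, h2]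
      have h4 : Nat.card Φ * p * W.relIndex V₂ ≤ Nat.card Φ * p ^ 2 := (Nat.mul_le_mul_right _ hWc).trans h3
      rw [pow_two, ← mul_assoc] at h4
      exact absurd (Nat.le_of_mul_le_mul_left h4 (Nat.mul_pos Nat.card_pos hpp.pos)) (not_le.2 hno)
    have nW : H ≤ normalizer (W : Set X) := hW ▸ norm_fx (norm_Lc N H) dec.n2 nΦH
    apply dec.npt
    have h5 : PT p (Lc N H) W Φ := PT.of_cs (hW ▸ le_cs_fx (h.LH.trans nΦH))
    have h6 : Lc N H ≤ cs V₂ W := Lc_le_cs h.pN hWV (dec.le2'.trans (h.EH.trans nW)) (h.LH.trans dec.n2) (h.LH.trans nW)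
      hV₂p hWc'
    exact (PT.of_cs h6).trans (hV₂p.to_le hWV) h5
  have hDKZ : ∀ x ∈ D, ∃ k ∈ K, ∃ z ∈ Z, x = k * z := by
    have h1 : D ≤ K ⊔ Z := by
      have h2 : ¬ Z ≤ K := by
        intro hh
        have h3 : Z ≤ Φ := fun z hz => dec.inf z (hKV (hh hz)) (dec.ZV hz)
        rw [relIndex_eq_one.2 h3] at hZc
        exact hpp.one_lt.ne hZc
      obtain ⟨z, hz, hzK⟩ := SetLike.not_le_iff_exists.1 h2
      have h4 := card_mul_relIndex' hKD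
      rw [hDc] at h4
      exact le_of_card_p (h.pE.to_le hDE) hKD h4.ge le_sup_left (hZD hz) hzK (mem_sup_right hz)
    intro x hx
    obtain ⟨k, hk, z, hz, rfl⟩ := (mem_sup_iff ((hKE.trans (h.EN.trans hNnZ)))).1 (h1 hx)
    exact ⟨k, hk, z, hz, rfl⟩
  -- exponent
  have hNcsE : N ≤ cs D Φ := hNDΦ
  have hexp : ∀ n ∈ N, n ^ p ∈ Φ := by
    have hyp : y ^ p ∈ Φ := by
      obtain ⟨e, he, hey⟩ := hy
      have hey' : y = g * e * g⁻¹ := hey.symm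
      rw [hey', conj_pow]
      exact conj_mem_of_norm (nΦ hg) (hΦpow e he)
    have key : ∀ u ∈ N, ∀ v ∈ N, u ^ p ∈ Φ → v ^ p ∈ Φ → (u * v) ^ p ∈ Φ := by
      intro u hu v hv hup hvp
      have hun := hNΦ hu
      have hvn := hNΦ hv
      obtain ⟨u', hu'⟩ : ∃ u' : normalizer (Φ : Set X), u' = ⟨u, hun⟩ := ⟨_, rfl⟩
      obtain ⟨v', hv'⟩ : ∃ v' : normalizer (Φ : Set X), v' = ⟨v, hvn⟩ := ⟨_, rfl⟩
      have hcD : v⁻¹ * u⁻¹ * v⁻¹⁻¹ * u⁻¹⁻¹ ∈ D := hZD (hNNZ _ (inv_mem hv) _ (inv_mem hu))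
      obtain ⟨c', hc'⟩ : ∃ c' : normalizer (Φ : Set X), c' = v'⁻¹ * u'⁻¹ * v'⁻¹⁻¹ * u'⁻¹⁻¹ := ⟨_, rfl⟩
      have hc'X : (c' : X) = v⁻¹ * u⁻¹ * v⁻¹⁻¹ * u⁻¹⁻¹ := by rw [hc', hu', hv']; rfl
      have hcomm' : ∀ w (hw : w ∈ N), qf Φ c' * qf Φ ⟨w, hNΦ hw⟩ = qf Φ ⟨w, hNΦ hw⟩ * qf Φ c' := by
        intro w hw
        have h1 := (hNDΦ hw).2 _ hcD
        have h2 : qf Φ (⟨w, hNΦ hw⟩ * c' * ⟨w, hNΦ hw⟩⁻¹ * c'⁻¹) = 1 := by
          rw [qf_eq_one]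
          show w * (c' : X) * w⁻¹ * (c' : X)⁻¹ ∈ Φ
          rw [hc'X]
          exact h1
        rw [map_mul, map_mul, map_mul, map_inv, map_inv, mul_inv_eq_one, mul_inv_eq_iff_eq_mul] at h2
        exact h2.symm
      have hcp : qf Φ c' ^ p = 1 := by
        rw [← map_pow, qf_eq_one]
        show (c' : X) ^ p ∈ Φ
        rw [hc'X]
        exact hΦpow _ (hDE hcD)
      have h3 : (qf Φ u' * qf Φ v') ^ p = qf Φ u' ^ p * qf Φ v' ^ p := by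
        refine Cfsg.Agent.Transfer.PGroupNormal.mul_pow_prime hpp hp2 (c := qf Φ c') ?_ ?_ ?_ hcp
        · rw [hc', ← map_mul, ← map_mul, ← map_mul]
          congr 1
          group
        · rw [hu']; exact hcomm' u hu
        · rw [hv']; exact hcomm' v hv
      have h4 : qf Φ ((u' * v') ^ p) = 1 := by
        rw [map_pow, map_mul, h3, ← map_pow, ← map_pow, qf_eq_one.2 (by rw [hu']; exact hup),
          qf_eq_one.2 (by rw [hv']; exact hvp), one_mul]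
      rw [qf_eq_one, hu', hv'] at h4
      exact h4
    let T : Subgroup X :=
      { carrier := {u | u ∈ N ∧ u ^ p ∈ Φ}
        one_mem' := ⟨one_mem _, by rw [one_pow]; exact one_mem _⟩
        mul_mem' := fun {u v} hu hv => ⟨mul_mem hu.1 hv.1, key u hu.1 v hv.1 hu.2 hv.2⟩
        inv_mem' := fun {u} hu => ⟨inv_mem hu.1, by rw [inv_pow]; exact inv_mem hu.2⟩ }
    have hT : N ≤ T := h.le_of_not_mem hyN hyE (fun e he => ⟨h.EN he, hΦpow e he⟩) ⟨hyN, hyp⟩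
    exact fun n hn => (hT hn).2
  refine ⟨D, Z, ?_⟩
  rw [← hΦd]
  refine ⟨hΦK, hKD, hDE, hΦZ, hZD, nΦ, nD, nZ, hDE', hZc, hΦD', hNDΦ, hNNZ, hexp, hDKZ, hself, ?_⟩
  intro c c' hcc
  obtain ⟨t, ht⟩ := htor c c' hcc
  refine ⟨t, ht.t0, ht.tH, ⟨nΦ ht.t0, fun k hk => ht.t1.2 k (hKV hk)⟩, ht.tZ, ?_, ht.tN⟩
  intro r hr
  obtain ⟨a, ha, b', hb', rfl⟩ := dec.sup r hr
  have hV1D : V₁ ≤ D := fun v hv => hself v (h.EN (dec.le1' hv)) fun n hn => (dec.L1 (le_Lc N H hn)).2 v hv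
  have haD := hV1D ha
  have hbN := h.EN (dec.le2' hb')
  have h1 : t * a * t⁻¹ ∈ D := conj_mem_of_norm (nD ht.t0) haD
  have h2 : t * b' * t⁻¹ * (b' ^ c')⁻¹ ∈ D := hZD (ht.t2 b' hb')
  have h3 := pow_mod haD ((h.N0.trans nD) hbN) c'
  have e : t * (a * b') * t⁻¹ * ((a * b') ^ c')⁻¹ =
      (t * a * t⁻¹) * (t * b' * t⁻¹ * (b' ^ c')⁻¹) * ((a * b') ^ c' * (b' ^ c')⁻¹)⁻¹ := by
    group
  rw [e]
  exact mul_mem (mul_mem h1 h2) (inv_mem h3)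

end

end Cfsg.Agent.H765
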