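import Cfsg.Agent.H765.A1b

/-!
# The weight argument modulo `Φ` (helper765)
-/

set_option autoImplicit false
set_option linter.unusedSectionVars false
set_option linter.unusedSimpArgs false
set_option linter.unusedVariables false

namespace Cfsg.Agent.H765

open Module Subgroup

universe u

variable {X : Type u} [Group X]

theorem qf_cong {Φ : Subgroup X} {a b : normalizer (Φ : Set X)} (h : (a : X) * (b : X)⁻¹ ∈ Φ) : qf Φ a = qf Φ b := by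
  have h1 : qf Φ (a * b⁻¹) = 1 := qf_eq_one.2 h
  rwa [map_mul, map_inv, mul_inv_eq_one] at h1

theorem qf_cong' {Φ : Subgroup X} {a b : normalizer (Φ : Set X)} (h : qf Φ a = qf Φ b) : (a : X) * (b : X)⁻¹ ∈ Φ := by
  have h1 : qf Φ (a * b⁻¹) = 1 := by rw [map_mul, map_inv, h, mul_inv_cancel]
  exact qf_eq_one.1 h1

theorem mem_im_elim {Φ A : Subgroup X} {y : Qt Φ} (h : y ∈ im Φ A) :
    ∃ a, ∃ (ha : a ∈ normalizer (Φ : Set X)), a ∈ A ∧ y = qf Φ ⟨a, ha⟩ := by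
  obtain ⟨⟨a, ha⟩, hA, rfl⟩ := h
  exact ⟨a, ha, hA, rfl⟩

theorem mem_im_intro {Φ A : Subgroup X} {a : X} (ha : a ∈ normalizer (Φ : Set X)) (hA : a ∈ A) :
    qf Φ ⟨a, ha⟩ ∈ im Φ A := ⟨⟨a, ha⟩, hA, rfl⟩

/-- **The weight argument** modulo a normal subgroup. -/
theorem fin_mod {p : ℕ} [hp : Fact p.Prime] {D M N Z Φ : Subgroup X} {γ x h : X} {c : ℕ} (hDM : D ≤ M) (hMN : M ≤ N)
    (hZD : Z ≤ D) (hΦZ : Φ ≤ Z) (nΦN : N ≤ normalizer (Φ : Set X)) (xΦ : x ∈ normalizer (Φ : Set X))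
    (hΦ : h ∈ normalizer (Φ : Set X)) (nN : x ∈ normalizer (N : Set X)) (xp : x ^ p ∈ N)
    (cen : ∀ d ∈ D, ∀ n ∈ N, n * d * n⁻¹ * d⁻¹ ∈ Φ) (xD : ∀ d ∈ D, x * d * x⁻¹ * d⁻¹ ∈ Φ) (exp : ∀ n ∈ N, n ^ p ∈ Φ)
    (γM : γ ∈ M) (γgen : ∀ m ∈ M, ∃ d ∈ D, ∃ i : ℕ, m = d * γ ^ i)
    (comm : ∀ a ∈ N, ∀ b ∈ N, a * b * a⁻¹ * b⁻¹ ∈ Z) (sur : ∀ w ∈ Z, ∃ n ∈ N, n * γ * n⁻¹ * (w * γ)⁻¹ ∈ Φ)
    (self : ∀ n ∈ N, n * γ * n⁻¹ * γ⁻¹ ∈ Φ → n ∈ M) (hγ : x * γ * x⁻¹ * γ⁻¹ ∈ D)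
    (hD : ∀ d ∈ D, h * d * h⁻¹ * d⁻¹ ∈ Z) (hM : ∀ m ∈ M, h * m * h⁻¹ * (m ^ (c * c))⁻¹ ∈ D)
    (hZ : ∀ w ∈ Z, h * w * h⁻¹ * (w ^ c)⁻¹ ∈ Φ) (hN : h ∈ normalizer (N : Set X))
    (hx : h * x * h⁻¹ * (x ^ (c * c * c))⁻¹ ∈ N) (c0 : (c : ZMod p) ≠ 0) (c1 : (c : ZMod p) ≠ 1)
    (c2 : (c : ZMod p) * c ≠ 1) (c3 : (c : ZMod p) * c * c ≠ 1) (c5 : (c : ZMod p) * c * c * c * c ≠ 1) :
    ∃ n ∈ N, (n * x) ^ p ∈ Φ ∧ ∀ m ∈ M, (n * x) * m * (n * x)⁻¹ * m⁻¹ ∈ Φ := by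
  have hDN := hDM.trans hMN
  have hΦD := hΦZ.trans hZD
  have hΦM := hΦD.trans hDM
  have hΦN := hΦM.trans hMN
  have hγN := hMN γM
  have hγΦ := nΦN hγN
  obtain ⟨n, hn, hnp, hnm⟩ := fin_lemma (p := p) (Y := Qt Φ) (D := im Φ D) (M := im Φ M) (N := im Φ N) (Z := im Φ Z)
    (γ := qf Φ ⟨γ, hγΦ⟩) (x := qf Φ ⟨x, xΦ⟩) (h := qf Φ ⟨h, hΦ⟩) (c := c) (im_mono hDM) (im_mono hMN) (im_mono hZD)
    (norm_im (K := Φ) (le_refl (normalizer (N : Set X))) (mem_im_intro xΦ nN))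
    (by rw [← map_pow]; exact mem_im_intro (pow_mem xΦ p) xp)
    (by
      intro d' hd' n' hn'
      obtain ⟨d, hdΦ, hd, rfl⟩ := mem_im_elim hd'
      obtain ⟨n, hnΦ, hn, rfl⟩ := mem_im_elim hn'
      rw [← map_mul, ← map_mul]
      refine qf_cong ?_
      show n * d * (d * n)⁻¹ ∈ Φ
      have e : n * d * (d * n)⁻¹ = n * d * n⁻¹ * d⁻¹ := by group
      rw [e]
      exact cen d hd n hn)
    (by
      intro d' hd'
      obtain ⟨d, hdΦ, hd, rfl⟩ := mem_im_elim hd'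
      rw [← map_mul, ← map_mul]
      refine qf_cong ?_
      show x * d * (d * x)⁻¹ ∈ Φ
      have e : x * d * (d * x)⁻¹ = x * d * x⁻¹ * d⁻¹ := by group
      rw [e]
      exact xD d hd)
    (by
      intro n' hn'
      obtain ⟨n, hnΦ, hn, rfl⟩ := mem_im_elim hn'
      rw [← map_pow, qf_eq_one]
      exact exp n hn)
    (mem_im_intro hγΦ γM)
    (by
      intro m' hm'
      obtain ⟨m, hmΦ, hm, rfl⟩ := mem_im_elim hm'
      obtain ⟨d, hd, i, rfl⟩ := γgen m hm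
      refine ⟨qf Φ ⟨d, nΦN (hDN hd)⟩, mem_im_intro _ hd, i, ?_⟩
      rw [← map_pow, ← map_mul]
      rfl)
    (by
      intro a' ha' b' hb'
      obtain ⟨a, haΦ, ha, rfl⟩ := mem_im_elim ha'
      obtain ⟨b, hbΦ, hb, rfl⟩ := mem_im_elim hb'
      rw [← map_mul, ← map_inv, ← map_mul, ← map_inv, ← map_mul]
      exact mem_im_intro (mul_mem (mul_mem (mul_mem haΦ hbΦ) (inv_mem haΦ)) (inv_mem hbΦ)) (comm a ha b hb))
    (by
      intro w' hw'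
      obtain ⟨w, hwΦ, hw, rfl⟩ := mem_im_elim hw'
      obtain ⟨n, hn, hnw⟩ := sur w hw
      refine ⟨qf Φ ⟨n, nΦN hn⟩, mem_im_intro _ hn, ?_⟩
      rw [← map_mul, ← map_inv, ← map_mul, ← map_mul]
      exact qf_cong hnw)
    (by
      intro n' hn' hc
      obtain ⟨n, hnΦ, hn, rfl⟩ := mem_im_elim hn'
      rw [← map_mul, ← map_mul] at hc
      have h1 := qf_cong' hc
      refine mem_im_intro hnΦ (self n hn ?_)
      have e : n * γ * n⁻¹ * γ⁻¹ = n * γ * (γ * n)⁻¹ := by group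
      rw [e]
      exact h1)
    (by
      rw [← map_mul, ← map_inv, ← map_mul, ← map_inv, ← map_mul]
      exact mem_im_intro (mul_mem (mul_mem (mul_mem xΦ hγΦ) (inv_mem xΦ)) (inv_mem hγΦ)) hγ)
    (by
      intro d' hd'
      obtain ⟨d, hdΦ, hd, rfl⟩ := mem_im_elim hd'
      rw [← map_mul, ← map_inv, ← map_mul, ← map_inv, ← map_mul]
      exact mem_im_intro (mul_mem (mul_mem (mul_mem hΦ hdΦ) (inv_mem hΦ)) (inv_mem hdΦ)) (hD d hd))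
    (by
      intro d' hd'
      obtain ⟨d, hdΦ, hd, rfl⟩ := mem_im_elim hd'
      rw [← map_mul, ← map_inv, ← map_mul, ← map_pow, ← map_inv, ← map_mul]
      exact mem_im_intro (mul_mem (mul_mem (mul_mem hΦ hdΦ) (inv_mem hΦ)) (inv_mem (pow_mem hdΦ _))) (hM d hd))
    (by
      intro d' hd'
      obtain ⟨d, hdΦ, hd, rfl⟩ := mem_im_elim hd'
      rw [← map_mul, ← map_inv, ← map_mul, ← map_pow, ← map_inv, ← map_mul, qf_eq_one]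
      exact hZ d hd)
    (norm_im (K := Φ) (le_refl (normalizer (N : Set X))) (mem_im_intro hΦ hN))
    (by
      rw [← map_mul, ← map_inv, ← map_mul, ← map_pow, ← map_inv, ← map_mul]
      exact mem_im_intro (mul_mem (mul_mem (mul_mem hΦ xΦ) (inv_mem hΦ)) (inv_mem (pow_mem xΦ _))) hx)
    c0 c1 c2 c3 c5
  obtain ⟨n, hnΦ, hn1, rfl⟩ := mem_im_elim hn
  refine ⟨n, hn1, ?_, ?_⟩
  · rw [← map_mul, ← map_pow, qf_eq_one] at hnp
    exact hnp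
  · intro m hm
    have h1 := hnm _ (mem_im_intro (nΦN (hMN hm)) hm)
    rw [← map_mul, ← map_mul, ← map_mul] at h1
    have h2 := qf_cong' h1
    have e : n * x * m * (n * x)⁻¹ * m⁻¹ = (n * x * m) * (m * (n * x))⁻¹ := by group
    rw [e]
    exact h2

end Cfsg.Agent.H765
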