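import Cfsg.Agent.H765.LemX

/-!
# One moved centre: Claim 1 (helper765)
-/

set_option autoImplicit false
set_option linter.unusedSectionVars false
set_option linter.unusedSimpArgs false
set_option linter.unusedVariables false

namespace Cfsg.Agent.H765

open Module Subgroup

universe u

variable {X : Type u} [Group X]

section

variable {p : ℕ} [Fact p.Prime] [Finite X] {N E₁ E₂ H₁ H₂ H0 : Subgroup X}

/-- `L₂` centralizes the `H₂`-invariant centre. -/
theorem Two.L2Z (t : Two p N E₁ H₁ E₂ H₂ H0) (hZ2 : H₂ ≤ normalizer (Om p N : Set X)) :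
    Lc N H₂ ≤ cs (Om p N) ⊥ := Lc_le_cs' hZ2 (norm_bot H₂) (N_cs_Om p N)

/-- An `H₁`-invariant subgroup of the centre is trivial. -/
theorem Two.Z_sub (t : Two p N E₁ H₁ E₂ H₂ H0) (hZ2 : H₂ ≤ normalizer (Om p N : Set X)) {R : Subgroup X}
    (hR : R ≤ Om p N) (n1 : H₁ ≤ normalizer (R : Set X)) : R = ⊥ := by
  have hR2 := hR.trans (t.h2.Om_le_E t.np2)
  refine t.K1 R (hR.trans (t.h1.Om_le_E t.np1)) hR2 n1 (t.h2.le_norm hR2 (inf_le_right.trans (t.le1.trans n1)) ?_)
  refine le_norm_of fun x hx a ha => ?_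
  have h1 := mem_cs_bot.1 (t.L2Z hZ2 hx) a (hR ha)
  rw [h1, mul_inv_cancel_right]
  exact ha

/-- **Claim 1**. -/
theorem Two.claim1 (hp2 : p ≠ 2) (t : Two p N E₁ H₁ E₂ H₂ H0) (hZ2 : H₂ ≤ normalizer (Om p N : Set X))
    (hZ1 : ¬ H₁ ≤ normalizer (Om p N : Set X)) : ¬ Lc (Om p N) H₁ ≤ E₂ := by
  have hpp : p.Prime := Fact.out
  intro hM2
  have c := t.h1.cm_Om t.np1 hZ1
  obtain ⟨Z, hZ⟩ : ∃ Z, Z = Om p N := ⟨_, rfl⟩
  obtain ⟨M, hM⟩ : ∃ M, M = Lc (Om p N) H₁ := ⟨_, rfl⟩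
  rw [← hM] at c hM2
  have hZM : Z ≤ M := by rw [hM, hZ]; exact le_Lc _ _
  have nZ : H₂ ≤ normalizer (Z : Set X) := hZ ▸ hZ2
  have hNZ : N ≤ cs Z ⊥ := hZ ▸ N_cs_Om p N
  have hZcen : ∀ m ∈ Z, ∀ e ∈ N, e * m = m * e := fun m hm e he => mem_cs_bot.1 (hNZ he) m hm
  have hLZ : Lc N H₂ ≤ cs Z ⊥ := hZ ▸ t.L2Z hZ2
  have hEM : EA p M := ⟨fun a ha b hb => c.cen b hb a (c.ME ha), c.pow⟩
  have nM0 : H0 ≤ normalizer (M : Set X) := t.le1.trans c.nM
  have nMN : N ≤ normalizer (M : Set X) := t.h1.NH.trans c.nM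
  have hMN : M ≤ N := c.ME.trans t.h1.EN
  have hMbot : M ≠ ⊥ := by
    rintro h0
    apply c.npt
    rw [h0]
    exact PT.of_cs fun x hx => mem_cs_bot.2 fun r hr => by rw [mem_bot] at hr; rw [hr]; group
  have hM2n : ¬ H₂ ≤ normalizer (M : Set X) := fun hn => hMbot (t.K1 M c.ME hM2 c.nM hn)
  obtain ⟨R, hR⟩ : ∃ R, R = Lc M H₂ := ⟨_, rfl⟩
  have hMR : M ≤ R := hR ▸ le_Lc M H₂
  have hRE : R ≤ E₂ := by rw [hR]; exact Lc_le.2 fun x hx a ha => conj_mem_of_norm (t.h2.HE hx) (hM2 ha)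
  have nR : H₂ ≤ normalizer (R : Set X) := hR ▸ norm_Lc M H₂
  have hRN := hRE.trans t.h2.EN
  have hRp : IsPGroup p R := t.h2.pE.to_le hRE
  have hMp : IsPGroup p M := hRp.to_le hMR
  have hMne : ¬ R ≤ M := fun hle => hM2n (by rw [le_antisymm hMR hle]; exact nR)
  by_cases hRE1 : R ≤ E₁
  · -- (1a)
    have hRab : EA p R := by
      have h1 : ∀ a ∈ M, ∀ b ∈ R, b * a = a * b := fun a ha b hb => c.cen a ha b (hRE1 hb)
      have h2 : R ≤ centralizer (R : Set X) := by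
        conv_lhs => rw [hR]
        rw [Lc_le]
        intro x hx a ha
        refine conj_mem_of_norm (norm_centralizer nR hx) (mem_centralizer_iff.2 fun b hb => h1 a ha b hb)
      have hab : ∀ a ∈ R, ∀ b ∈ R, a * b = b * a := fun a ha b hb => mem_centralizer_iff.1 (h2 hb) a ha
      refine ⟨hab, ?_⟩
      let T : Subgroup X :=
        { carrier := {u | u ∈ R ∧ u ^ p = 1}
          one_mem' := ⟨one_mem _, one_pow p⟩
          mul_mem' := by
            rintro a b ⟨ha, ha'⟩ ⟨hb, hb'⟩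
            have e : Commute a b := hab a ha b hb
            exact ⟨mul_mem ha hb, by rw [e.mul_pow, ha', hb', one_mul]⟩
          inv_mem' := by
            rintro a ⟨ha, ha'⟩
            exact ⟨inv_mem ha, by rw [inv_pow, ha', inv_one]⟩ }
      have h3 : R ≤ T := by
        conv_lhs => rw [hR]
        rw [Lc_le]
        intro x hx a ha
        refine ⟨hR ▸ conj_mem_Lc hx ha, ?_⟩
        rw [conj_pow, c.pow a ha]
        group
      exact fun u hu => (h3 hu).2
    have hRc := t.sr.card_EA hRN hRab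
    have g1 := card_mul_p_le hRp hMR hMne
    have hMc : Nat.card M = p ^ 2 := by
      rcases c.card_eq t.h1 t.sr with h1 | h1
      · exact h1
      · rw [h1, ← pow_succ] at g1
        exact absurd ((Nat.pow_le_pow_iff_right hpp.one_lt).1 (g1.trans hRc)) (by norm_num)
    have hRc' : Nat.card R = p ^ 3 := by
      refine le_antisymm hRc ?_
      rw [hMc] at g1
      calc p ^ 3 = p ^ 2 * p := by ring
        _ ≤ _ := g1
    have n1 := t.h1.lemU hp2 t.sr c hMc hMR hRE1 hRab hRc' (t.h2.NH.trans nR)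
    have h0 := t.K1 R hRE1 hRE n1 nR
    exact hMbot (le_bot_iff.1 (h0 ▸ hMR))
  · -- (1b)
    have hex : ∃ x ∈ H₂, ∃ m ∈ M, x * m * x⁻¹ ∉ E₁ := by
      by_contra hno
      push Not at hno
      exact hRE1 (by rw [hR, Lc_le]; exact hno)
    obtain ⟨x, hx, m₀, hm₀, hr⟩ := hex
    obtain ⟨r, hrdef⟩ : ∃ r, r = x * m₀ * x⁻¹ := ⟨_, rfl⟩
    rw [← hrdef] at hr
    have hrR : r ∈ R := by rw [hR, hrdef]; exact conj_mem_Lc hx hm₀
    have hrN : r ∈ N := hRN hrR
    -- `C_M(r) = Z`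
    have hMr : ∀ m ∈ M, r * m = m * r → m ∈ Z := by
      intro m hm hrm
      have h1 : N ≤ centralizer {m} := by
        refine t.h1.le_of_not_mem hrN hr ?_ ?_
        · intro e he
          rw [mem_centralizer_singleton_iff]
          exact c.cen m hm e he
        · rw [mem_centralizer_singleton_iff]
          exact hrm
      rw [hZ]
      refine ⟨hMN hm, c.pow m hm, fun n hn => ?_⟩
      have := h1 hn
      rw [mem_centralizer_singleton_iff] at this
      exact this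
    have hZi : Z.relIndex M ≤ p := by
      -- `M ∩ x E₁ x⁻¹ ≤ Z`
      have h1 : M ⊓ E₁.map (MulAut.conj x).toMonoidHom ≤ Z := by
        rintro m ⟨hm, e, he, hem⟩
        have hem' : x * e * x⁻¹ = m := hem
        refine hMr m hm ?_
        rw [hrdef, ← hem']
        have h2 := c.cen m₀ hm₀ e he
        calc x * m₀ * x⁻¹ * (x * e * x⁻¹) = x * (m₀ * e) * x⁻¹ := by group
          _ = x * (e * m₀) * x⁻¹ := by rw [h2]
          _ = _ := by group
      have h2 : (M ⊓ E₁.map (MulAut.conj x).toMonoidHom).relIndex M ≤ p := by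
        rw [inf_relIndex_left]
        have h3 : M ≤ N.map (MulAut.conj x).toMonoidHom := by
          have h4 : E₂.map (MulAut.conj x).toMonoidHom = E₂ := by
            apply le_antisymm
            · rintro _ ⟨e, he, rfl⟩
              exact conj_mem_of_norm (t.h2.HE hx) he
            · intro e he
              refine ⟨x⁻¹ * e * x, ?_, ?_⟩
              · have := conj_mem_of_norm (t.h2.HE (inv_mem hx)) he
                rwa [inv_inv] at this
              · show x * (x⁻¹ * e * x) * x⁻¹ = e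
                group
          refine hM2.trans ?_
          conv_lhs => rw [← h4]
          exact map_mono t.h2.EN
        have h5 : (E₁.map (MulAut.conj x).toMonoidHom).relIndex (N.map (MulAut.conj x).toMonoidHom) = p := by
          rw [Subgroup.relIndex_map_map_of_injective _ _ (MulAut.conj x).injective]
          exact t.h1.ix
        calc _ ≤ (E₁.map (MulAut.conj x).toMonoidHom).relIndex (N.map (MulAut.conj x).toMonoidHom) :=
              relIndex_le_of_le_right h3 (by rw [h5]; exact hpp.ne_zero)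
          _ = p := h5
      exact (relIndex_le_of_le_left h1 (Subgroup.index_ne_zero_of_finite
        (H := (M ⊓ E₁.map (MulAut.conj x).toMonoidHom).subgroupOf M))).trans h2
    have hZMn : ¬ M ≤ Z := by
      intro hle
      apply c.npt
      refine PT.of_cs (Lc_le_cs' c.nM (norm_bot H₁) fun n hn => mem_cs_bot.2 fun m hm => hZcen m (hle hm) n hn)
    have hMZc : Nat.card M = Nat.card Z * p := by
      have h1 := card_mul_relIndex' hZM
      have h2 := card_mul_p_le hMp hZM hZMn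
      refine le_antisymm ?_ h2
      rw [← h1]
      exact Nat.mul_le_mul_left _ hZi
    have hMZn : M ≤ normalizer (Z : Set X) := (hMN.trans t.h2.NH).trans nZ
    have hNMZ : N ≤ cs M Z := N_le_cs t.h1.pN hZM hMZn nMN (t.h2.NH.trans nZ) hMp hZi
    have hZp : ∀ m ∈ Z, m ^ p = 1 := fun m hm => c.pow m (hZM hm)
    -- `R / Z`
    have hEcs : E₂ ≤ cs R Z := by
      rw [hR]
      exact Lc_cs t.h2.HE nZ t.h2.EH hMZn (t.h2.EN.trans hNMZ)
    have hRcomm : ∀ a ∈ R, ∀ b ∈ R, a * b * a⁻¹ * b⁻¹ ∈ Z := fun a ha b hb => (hEcs (hRE ha)).2 b hb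
    have hRpow : ∀ u ∈ R, u ^ p = 1 := by
      rw [hR]
      exact pow_eq_one_of_gen hp2 (E := E₂) (by rw [← hR]; exact hRE) (by rw [← hR]; exact hEcs)
        (fun m hm e he => hZcen m hm e (t.h2.EN he)) hZp c.pow
    have hZR := hZM.trans hMR
    have hnpt : ¬ PT p (Lc N H₂) R Z := by
      intro hpt
      apply hM2n
      exact t.h2.le_norm_of_pt hRE hZR nR nZ hpt hZM hMR nMN (inf_le_right.trans nM0)
    have hnab : ∃ a ∈ R, ∃ b ∈ R, a * b ≠ b * a := by
      by_contra hno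
      push Not at hno
      exact hr (c.mem_E t.h1 hrN (mem_cs_bot.2 fun m hm => hno r hrR m (hMR hm)))
    have hs1 : Sct p H₁ M ⊥ := c.sct
    -- `|Z| = p`
    have hZc : Nat.card Z = p := by
      rcases c.card_eq t.h1 t.sr with h1 | h1
      · rw [h1, pow_two] at hMZc
        exact (Nat.eq_of_mul_eq_mul_right hpp.pos hMZc).symm
      · exfalso
        obtain ⟨Z', -, hZ'1, hZ'c, hZ'N⟩ := t.h1.exists_Z' hs1 c.ME c.E_le c.npt bot_le hZM hZi hNZ
        obtain ⟨V₁, V₂, τ, ht⟩ := t.h1.exists_tau hp2 hs1 c.ME c.E_le (by rw [relIndex_bot_left, h1]) c.npt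
          bot_le hZ'1 hZ'c hZ'N
        have h2 := ht.card_V1 hEM.comm h1
        have h3 : V₁ = ⊥ := by
          refine t.Z_sub hZ2 ?_ ht.n1
          intro v hv
          exact ⟨hMN (ht.le1' hv), c.pow v (ht.le1' hv), fun n hn => mem_cs_bot.1 (ht.L1 (le_Lc _ _ hn)) v hv⟩
        rw [h3, card_bot] at h2
        exact hpp.one_lt.ne h2
    have hMc : Nat.card M = p ^ 2 := by rw [hMZc, hZc, pow_two]
    obtain ⟨τ₂, lx⟩ := t.h2.lemX hp2 t.sr nZ hNZ hZc hZM hM2 hMc hNMZ c.pow nM0 (by rw [← hR]; exact hnab)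
      (by rw [← hR]; exact hnpt)
    rw [← hR] at lx
    have hRc : Nat.card R = p ^ 3 := lx.card
    -- `R ∩ E₁ = M`
    have hRE1M : ∀ s ∈ R, s ∈ E₁ → s ∈ M := by
      have h1 := card_mul_p_le hRp (inf_le_left : R ⊓ E₁ ≤ R) (fun hh => hRE1 (hh.trans inf_le_right))
      rw [hRc, pow_succ] at h1
      have h2 := Nat.le_of_mul_le_mul_right h1 hpp.pos
      have h3 : M = R ⊓ E₁ := Subgroup.eq_of_le_of_card_ge (le_inf hMR c.ME) (by rw [hMc]; exact h2)
      intro s hs hsE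
      rw [h3]
      exact ⟨hs, hsE⟩
    have hNRM : N ≤ cs R M := by
      refine N_le_cs t.h1.pN hMR ?_ (t.h2.NH.trans nR) nMN hRp ?_
      · exact hRN.trans nMN
      · refine relIndex_le_of_card hMR ?_
        rw [hRc, hMc]; exact (by ring : p ^ 3 = p * p ^ 2).le
    -- the Frattini subgroup of `E₁` centralizes `R`
    have hyr : ∀ y ∈ E₁, ∀ s ∈ R, ∃ m ∈ M, y * s * y⁻¹ = m * s := fun y hy s hs =>
      ⟨_, (hNRM (t.h1.EN hy)).2 s hs, by group⟩
    have hFr : Fr p E₁ ≤ centralizer (R : Set X) := by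
      rw [Fr_le_iff]
      constructor
      · intro a ha b hb
        rw [mem_centralizer_iff]
        intro s hs
        obtain ⟨m, hm, e1⟩ := hyr a ha s hs
        obtain ⟨m', hm', e2⟩ := hyr b hb s hs
        have k1 : a * b * s * (a * b)⁻¹ = m * m' * s := by
          calc a * b * s * (a * b)⁻¹ = a * (b * s * b⁻¹) * a⁻¹ := by group
            _ = (a * m') * s * a⁻¹ := by rw [e2]; group
            _ = (m' * a) * s * a⁻¹ := by rw [c.cen m' hm' a ha]
            _ = m' * (a * s * a⁻¹) := by group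
            _ = m' * (m * s) := by rw [e1]
            _ = (m' * m) * s := by group
            _ = m * m' * s := by rw [hEM.comm m' hm' m hm]
        have k2 : b * a * s * (b * a)⁻¹ = m * m' * s := by
          calc b * a * s * (b * a)⁻¹ = b * (a * s * a⁻¹) * b⁻¹ := by group
            _ = (b * m) * s * b⁻¹ := by rw [e1]; group
            _ = (m * b) * s * b⁻¹ := by rw [c.cen m hm b hb]
            _ = m * (b * s * b⁻¹) := by group
            _ = m * (m' * s) := by rw [e2]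
            _ = m * m' * s := by group
        rw [← k2] at k1
        have k3 : a * b * a⁻¹ * b⁻¹ * (b * a * s * (b * a)⁻¹) = (a * b * s * (a * b)⁻¹) * (a * b * a⁻¹ * b⁻¹) := by
          group
        have k4 : ∀ w : X, w = b * a * s * (b * a)⁻¹ → w = a * b * s * (a * b)⁻¹ →
            a * b * a⁻¹ * b⁻¹ * w = w * (a * b * a⁻¹ * b⁻¹) := by
          intro w h1 h2
          conv_lhs => rw [h1]
          conv_rhs => rw [h2]
          exact k3
        have k5 := k4 (m * m' * s) k2.symm (by rw [k1, k2])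
        -- the commutator centralizes `m m' s`, hence `s`
        have k6 : ∀ w ∈ M, a * b * a⁻¹ * b⁻¹ * w = w * (a * b * a⁻¹ * b⁻¹) := fun w hw =>
          c.cen w hw _ (mul_mem (mul_mem (mul_mem ha hb) (inv_mem ha)) (inv_mem hb))
        have k7 := k6 (m * m') (mul_mem hm hm')
        have k8 : Commute (a * b * a⁻¹ * b⁻¹) s := by
          have h1 : Commute (a * b * a⁻¹ * b⁻¹) (m * m') := k7
          have h2 : Commute (a * b * a⁻¹ * b⁻¹) (m * m' * s) := k5
          have h3 := h1.inv_right.mul_right h2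
          rwa [inv_mul_cancel_left] at h3
        exact k8.symm.eq
      · intro a ha
        rw [mem_centralizer_iff]
        intro s hs
        obtain ⟨m, hm, e1⟩ := hyr a ha s hs
        have key : ∀ k : ℕ, a ^ k * s * (a ^ k)⁻¹ = m ^ k * s := by
          intro k
          induction k with
          | zero => simp
          | succ k ih =>
            calc a ^ (k + 1) * s * (a ^ (k + 1))⁻¹ = a * (a ^ k * s * (a ^ k)⁻¹) * a⁻¹ := by
                  rw [pow_succ' a k]; group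
              _ = (a * m ^ k) * s * a⁻¹ := by rw [ih]; group
              _ = (m ^ k * a) * s * a⁻¹ := by rw [c.cen _ (pow_mem hm k) a ha]
              _ = m ^ k * (a * s * a⁻¹) := by group
              _ = m ^ k * (m * s) := by rw [e1]
              _ = m ^ (k + 1) * s := by rw [pow_succ]; group
        have := key p
        rw [c.pow m hm, one_mul, mul_inv_eq_iff_eq_mul] at this
        exact this.symm
    have hMFr : M ⊓ Fr p E₁ = ⊥ := by
      refine t.Z_sub hZ2 ?_ (norm_inf c.nM (norm_Fr t.h1.HE))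
      rintro m ⟨hm, hmF⟩
      have h1 : m ∈ Z := hMr m hm (mem_centralizer_iff.1 (hFr hmF) r hrR)
      rwa [hZ] at h1
    -- `E₁ / M Fr(E₁)` has order at most `p`
    obtain ⟨F, hF⟩ : ∃ F, F = M ⊔ Fr p E₁ := ⟨_, rfl⟩
    have hFE : F ≤ E₁ := by rw [hF]; exact sup_le c.ME (Fr_le p E₁)
    have nF : H₁ ≤ normalizer (F : Set X) := by rw [hF]; exact norm_sup c.nM (norm_Fr t.h1.HE)
    have hFrF : Fr p E₁ ≤ F := hF ▸ le_sup_right
    have hFc : Nat.card F = p ^ 2 * Nat.card (Fr p E₁) := by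
      have hn : M ≤ normalizer (Fr p E₁ : Set X) := (c.ME.trans t.h1.EH).trans (norm_Fr t.h1.HE)
      let g : M × Fr p E₁ → F := fun x => ⟨(x.1 : X) * x.2, by
        rw [hF]; exact mul_mem (mem_sup_left x.1.2) (mem_sup_right x.2.2)⟩
      have hg : Function.Bijective g := by
        constructor
        · rintro ⟨a, b⟩ ⟨c', d⟩ hab
          have h2 : (a : X) * b = c' * d := congrArg Subtype.val hab
          have h3 : (c' : X)⁻¹ * a = d * (b : X)⁻¹ := by
            rw [eq_mul_inv_iff_mul_eq, mul_assoc, h2, inv_mul_cancel_left]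
          have h4 : (c' : X)⁻¹ * a ∈ M ⊓ Fr p E₁ := Subgroup.mem_inf.2 ⟨mul_mem (inv_mem c'.2) a.2,
            by rw [h3]; exact mul_mem d.2 (inv_mem b.2)⟩
          rw [hMFr] at h4
          have h5 : (d : X) * (b : X)⁻¹ = 1 := by rw [← h3]; exact mem_bot.1 h4
          rw [mem_bot, inv_mul_eq_one] at h4
          rw [mul_inv_eq_one] at h5
          exact Prod.ext (Subtype.ext h4.symm) (Subtype.ext h5.symm)
        · rintro ⟨v, hv⟩
          have hv' := hv
          rw [hF] at hv'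
          obtain ⟨a, ha, b, hb, rfl⟩ := (mem_sup_iff hn).1 hv'
          exact ⟨(⟨a, ha⟩, ⟨b, hb⟩), rfl⟩
      have h2 := Nat.card_congr (Equiv.ofBijective g hg)
      rw [Nat.card_prod, hMc] at h2
      exact h2.symm
    have hEc : Nat.card E₁ ≤ Nat.card (Fr p E₁) * p ^ 3 :=
      t.sr.card (Fr_le p E₁) t.h1.EN (fun a ha b hb => comm_mem_Fr ha hb) (fun a ha => pow_mem_Fr ha)
    have hFi : F.relIndex E₁ ≤ p := by
      refine relIndex_le_of_card hFE ?_
      rw [hFc]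
      calc Nat.card E₁ ≤ Nat.card (Fr p E₁) * p ^ 3 := hEc
        _ = _ := by ring
    have hE1F : E₁ ≤ normalizer (F : Set X) := t.h1.EH.trans nF
    have hLF : Lc N H₁ ≤ cs E₁ F := Lc_le_cs t.h1.pN hFE hE1F (t.h1.LH.trans t.h1.HE) (t.h1.LH.trans nF)
      t.h1.pE hFi
    -- `τ₁`
    obtain ⟨Z', hZ'2, hZ'1, hZ'c, hZ'N⟩ := t.h1.exists_Z hs1 c.ME (by rw [relIndex_bot_left, hMc])
    obtain ⟨V₁, V₂, τ, ht⟩ := t.h1.exists_tau hp2 hs1 c.ME c.E_le
      (by rw [relIndex_bot_left, hMc]; exact Nat.pow_le_pow_right hpp.pos (by norm_num)) c.npt hZ'2 hZ'1 hZ'c hZ'N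
    have hV2 : V₂ = M := by
      refine Subgroup.eq_of_le_of_card_ge ht.le2' ?_
      have h1 := ht.card2
      rw [relIndex_bot_left] at h1
      rw [hMc, h1]
    have hτM : ∀ m ∈ M, τ * m * τ⁻¹ = m⁻¹ := by
      intro m hm
      have := ht.t2 m (hV2 ▸ hm)
      rwa [mem_bot, mul_eq_one_iff_eq_inv] at this
    have hτF : τ ∈ cs E₁ F := t.h1.tau_mem_cs ht.tL ht.tp le_rfl hFE t.h1.HE nF (PT.of_cs hLF)
    have hτ2 : τ ∈ H₂ := t.le2 ht.t0
    have hτZ : τ ∈ normalizer (Z : Set X) := nZ hτ2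
    -- `[y, s] ∈ Z` for `y ∈ E₁`, `s ∈ R`
    have hkey : ∀ y ∈ E₁, ∀ s ∈ R, y * s * y⁻¹ * s⁻¹ ∈ Z := by
      intro y hy s hs
      have hm : y * s * y⁻¹ * s⁻¹ ∈ M := (hNRM (t.h1.EN hy)).2 s hs
      -- `τ y τ⁻¹ = u y`, `u = m₂ f`
      have hu := hτF.2 y hy
      have hn : M ≤ normalizer (Fr p E₁ : Set X) := (c.ME.trans t.h1.EH).trans (norm_Fr t.h1.HE)
      rw [hF] at hu
      obtain ⟨m₂, hm₂, f, hf, huf⟩ := (mem_sup_iff hn).1 hu
      have hτy : τ * y * τ⁻¹ = m₂ * f * y := by rw [huf]; group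
      -- `τ s τ⁻¹ = m₁ s`
      have hsτ : τ * s * τ⁻¹ * s⁻¹ ∈ M := hRE1M _ (mul_mem (conj_mem_of_norm (nR hτ2) hs) (inv_mem hs))
        (ht.tN.2 s (hRN hs))
      obtain ⟨m₁, hm₁⟩ : ∃ m₁, m₁ = τ * s * τ⁻¹ * s⁻¹ := ⟨_, rfl⟩
      rw [← hm₁] at hsτ
      have hτs : τ * s * τ⁻¹ = m₁ * s := by rw [hm₁]; group
      have h1 : τ * (y * s * y⁻¹ * s⁻¹) * τ⁻¹ = (y * s * y⁻¹ * s⁻¹)⁻¹ := hτM _ hm
      have h2 : τ * (y * s * y⁻¹ * s⁻¹) * τ⁻¹ =
          (m₂ * f * y) * (m₁ * s) * (m₂ * f * y)⁻¹ * (m₁ * s)⁻¹ := by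
        rw [← hτy, ← hτs]; group
      obtain ⟨m, hmdef⟩ : ∃ m, m = y * s * y⁻¹ * s⁻¹ := ⟨_, rfl⟩
      rw [← hmdef] at h1 h2 hm ⊢
      have hys : y * s * y⁻¹ = m * s := by rw [hmdef]; group
      have hfE : f ∈ E₁ := Fr_le p E₁ hf
      have hfs : f * s = s * f := (mem_centralizer_iff.1 (hFr hf) s hs).symm
      have hcm : ∀ w ∈ M, ∀ e ∈ E₁, e * w = w * e := c.cen
      -- compute
      have h3 : (m₂ * f * y) * (m₁ * s) * (m₂ * f * y)⁻¹ * (m₁ * s)⁻¹ = m * (m₂ * s * m₂⁻¹ * s⁻¹) := by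
        have e1 : (m₂ * f * y) * (m₁ * s) * (m₂ * f * y)⁻¹ = m₁ * (m * (m₂ * s * m₂⁻¹)) := by
          have hu1 : m₂ * f * y * m₁ = m₁ * (m₂ * f * y) :=
            hcm m₁ hsτ _ (mul_mem (mul_mem (c.ME hm₂) hfE) hy)
          calc (m₂ * f * y) * (m₁ * s) * (m₂ * f * y)⁻¹ = (m₂ * f * y * m₁) * s * (m₂ * f * y)⁻¹ := by group
            _ = m₁ * (m₂ * (f * (y * s * y⁻¹) * f⁻¹) * m₂⁻¹) := by rw [hu1]; group
            _ = m₁ * (m₂ * ((f * m) * s * f⁻¹) * m₂⁻¹) := by rw [hys]; group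
            _ = m₁ * (m₂ * ((m * f) * s * f⁻¹) * m₂⁻¹) := by rw [hcm m hm f hfE]
            _ = m₁ * (m₂ * (m * (f * s) * f⁻¹) * m₂⁻¹) := by group
            _ = m₁ * (m₂ * (m * (s * f) * f⁻¹) * m₂⁻¹) := by rw [hfs]
            _ = m₁ * ((m₂ * m) * s * m₂⁻¹) := by group
            _ = m₁ * ((m * m₂) * s * m₂⁻¹) := by rw [hEM.comm m₂ hm₂ m hm]
            _ = m₁ * (m * (m₂ * s * m₂⁻¹)) := by group
        rw [e1]
        have hz : m₂ * s * m₂⁻¹ * s⁻¹ ∈ Z := hRcomm _ (hMR hm₂) s hs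
        have hzm : m * (m₂ * s * m₂⁻¹ * s⁻¹) ∈ M := mul_mem hm (hZM hz)
        calc m₁ * (m * (m₂ * s * m₂⁻¹)) * (m₁ * s)⁻¹
            = (m₁ * (m * (m₂ * s * m₂⁻¹ * s⁻¹))) * m₁⁻¹ := by group
          _ = ((m * (m₂ * s * m₂⁻¹ * s⁻¹)) * m₁) * m₁⁻¹ := by rw [hEM.comm m₁ hsτ _ hzm]
          _ = _ := by group
      have h4 : m * (m₂ * s * m₂⁻¹ * s⁻¹) = m⁻¹ := by rw [← h3, ← h2, h1]
      have h5 : m * m ∈ Z := by
        have hz : m₂ * s * m₂⁻¹ * s⁻¹ ∈ Z := hRcomm _ (hMR hm₂) s hs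
        have h6 : m * m = (m₂ * s * m₂⁻¹ * s⁻¹)⁻¹ := by
          have h7 : m * (m * (m₂ * s * m₂⁻¹ * s⁻¹)) = 1 := by rw [h4]; group
          calc m * m = m * (m * (m₂ * s * m₂⁻¹ * s⁻¹)) * (m₂ * s * m₂⁻¹ * s⁻¹)⁻¹ := by group
            _ = _ := by rw [h7, one_mul]
        rw [h6]
        exact inv_mem hz
      obtain ⟨k, hk⟩ := hpp.odd_of_ne_two hp2
      have h6 : (m * m) ^ (k + 1) = m := by
        rw [← pow_two, ← pow_mul]
        have : 2 * (k + 1) = p + 1 := by omega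
        rw [this, pow_succ, c.pow m hm, one_mul]
      rw [← h6]
      exact pow_mem h5 _
    -- contradiction: `N` acts trivially on `R / Z`
    apply hnpt
    refine PT.of_cs (Lc_le_cs' nR nZ ?_)
    obtain ⟨y, hy, hyE⟩ := exists_y' t.h2 t.h1 t.ne.symm
    refine t.h2.le_of_not_mem (t.h1.EN hy) hyE hEcs ⟨nZ (t.h2.NH (t.h1.EN hy)), fun s hs => hkey y hy s hs⟩

end

end Cfsg.Agent.H765
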