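import Cfsg.Agent.H765.Torus

/-!
# The axis of a `p`-element of `H0` moving `E` (helper765)
-/

set_option autoImplicit false
set_option linter.unusedSectionVars false
set_option linter.unusedSimpArgs false
set_option linter.unusedVariables false

namespace Cfsg.Agent.H765

open Module Subgroup

universe u

variable {X : Type u} [Group X]

section

variable {p : ℕ} [Fact p.Prime] [Finite X] {N E H H0 D M : Subgroup X}

/-- Additional properties of the configuration. -/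
structure Ad (p : ℕ) (N E H H0 : Subgroup X) : Prop where
  hEH : H0 ⊓ normalizer (E : Set X) ≤ H
  uniq : ∀ c ∈ H0, c ∈ centralizer (E : Set X) → c ∈ E ⊔ CE H0 N

theorem normCEN (h : Par p N E H H0) : H0 ≤ normalizer (CE H0 N : Set X) :=
  norm_inf (norm_self H0) (norm_centralizer h.H0N)

/-- The `p`-elements of `H0` normalizing `E` act on `N` as elements of `N`. -/
theorem Ad.mem (ad : Ad p N E H H0) (h : Par p N E H H0) {u : X} (hu : u ∈ H0) {k : ℕ} (hk : u ^ p ^ k ∈ CE H0 N)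
    (hn : u ∈ normalizer (E : Set X)) : u ∈ N ⊔ CE H0 N := by
  have huH : u ∈ H := ad.hEH (Subgroup.mem_inf.2 ⟨hu, hn⟩)
  obtain ⟨D', hD'⟩ : ∃ D', D' = N ⊔ CE H E := ⟨_, rfl⟩
  have nD' : H0 ⊓ normalizer (E : Set X) ≤ normalizer (D' : Set X) := by
    rw [hD']
    exact norm_sup (inf_le_left.trans h.H0N) (ad.hEH.trans h.normC)
  obtain ⟨B, hB⟩ : ∃ B, B = H ⊓ normalizer (D' : Set X) := ⟨_, rfl⟩
  have hD'B : D' ≤ B := by
    rw [hB]
    exact le_inf (hD' ▸ sup_le h.NH h.CH) le_normalizer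
  have huB : u ∈ B := by
    rw [hB]
    exact ⟨huH, nD' (Subgroup.mem_inf.2 ⟨hu, hn⟩)⟩
  have hidx : ¬ p ∣ (⊥ ⊔ D').relIndex B := by
    rw [bot_sup_eq, hD']
    exact h.syl_of (D := CE H E) le_rfl (hD' ▸ hD'B) (hB ▸ inf_le_left)
  obtain ⟨b, hb, hbu⟩ := exists_conj (N := ⊥) (D := D') (B := B) (Q := zpowers u) (IsPGroup.of_bot) bot_le hD'B
    (hB ▸ inf_le_right) hidx (by rwa [zpowers_le]) (by
    rintro _ ⟨n, rfl⟩
    refine ⟨k, ?_⟩
    show (u ^ n) ^ p ^ k ∈ D'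
    have e : (u ^ n) ^ p ^ k = (u ^ p ^ k) ^ n := by
      rw [← zpow_natCast, ← zpow_natCast, ← zpow_mul, ← zpow_mul, mul_comm]
    rw [e]
    refine zpow_mem ?_ n
    rw [hD']
    refine mem_sup_right (Subgroup.mem_inf.2 ⟨pow_mem huH _, ?_⟩)
    rw [mem_centralizer_iff]
    exact fun r hr => mem_centralizer_iff.1 hk.2 r (h.EN hr))
  have h1 := hbu u (mem_zpowers u)
  rw [bot_sup_eq] at h1
  have hbn : b ∈ normalizer (D' : Set X) := (hB ▸ hb : b ∈ H ⊓ normalizer (D' : Set X)).2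
  have h2 := conj_mem_of_norm (inv_mem hbn) h1
  have e : b⁻¹ * (b * u * b⁻¹) * b⁻¹⁻¹ = u := by group
  rw [e, hD'] at h2
  obtain ⟨n, hn', c, hc, hnc⟩ := (mem_sup_iff (h.NH.trans h.normC)).1 h2
  have hc0 : c ∈ H0 := by
    have : c = n⁻¹ * u := by rw [← hnc]; group
    rw [this]
    exact mul_mem (inv_mem (h.N0 hn')) hu
  have h3 := ad.uniq c hc0 hc.2
  rw [← hnc]
  exact mul_mem (mem_sup_left hn') ((sup_le_sup_right h.EN _ : E ⊔ CE H0 N ≤ N ⊔ CE H0 N) h3)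

/-- **The axis**. -/
theorem axis (hs : Sct p H0 N D) (hDE : D ≤ E) (hEN : E ≤ N) (hc : D.relIndex N = p ^ 2) (hDc : D.relIndex E = p)
    (hNp : IsPGroup p N) {u h : X} (hu : u ∈ H0) (hh : h ∈ H0)
    (hDM : D ≤ M) (hMN : M ≤ N) (hMc : D.relIndex M = p) (hu1 : u ∈ cs N M) (hu2 : u ∈ cs M D)
    (huE : u ∉ normalizer (E : Set X)) (hhE : h ∈ normalizer (E : Set X)) {c c' : ℕ}
    (hcc : (c : ZMod p) * (c' : ZMod p) = 1) (hh1 : ∀ v ∈ E, h * v * h⁻¹ * (v ^ c')⁻¹ ∈ D)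
    (hh2 : ∀ n ∈ N, h * n * h⁻¹ * (n ^ (c * c))⁻¹ ∈ E) :
    (∃ w ∈ H0, w * u * w⁻¹ ∈ cs E D) ∨ (h ∈ normalizer (M : Set X) ∧ h * u * h⁻¹ * (u ^ (c * c * c))⁻¹ ∈ cs N D) := by
  have hpp : p.Prime := Fact.out
  obtain ⟨V, i1, i2, ⟨s⟩⟩ := hs.exists_rep
  have hfin : Module.Finite (ZMod p) V := s.finite
  have hρ1 : ∀ x : H0, (x : X) ∈ cs N D ↔ s.ρ x = 1 := fun x => s.mem_cs_iff hs.n1 hs.n2 x
  -- the lines
  have hEr : finrank (ZMod p) (s.push E hEN) = 1 := by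
    have h1 := s.relIndex_pull hs.le (s.push E hEN)
    rw [s.pull_push hEN hDE, hDc] at h1
    exact (Nat.pow_right_injective hpp.two_le (by show p ^ 1 = _; rw [pow_one]; exact h1)).symm
  have hMr : finrank (ZMod p) (s.push M hMN) = 1 := by
    have h1 := s.relIndex_pull hs.le (s.push M hMN)
    rw [s.pull_push hMN hDM, hMc] at h1
    exact (Nat.pow_right_injective hpp.two_le (by show p ^ 1 = _; rw [pow_one]; exact h1)).symm
  have hVr : finrank (ZMod p) V = 2 := s.finrank_eq hs.le hc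
  obtain ⟨⟨e₀, he₀⟩, he₀0, he₀g⟩ := finrank_eq_one_iff'.1 hEr
  obtain ⟨⟨v₁, hv₁⟩, hv₁0, hv₁g⟩ := finrank_eq_one_iff'.1 hMr
  have he0 : e₀ ≠ 0 := fun h0 => he₀0 (Subtype.ext h0)
  have hv0 : v₁ ≠ 0 := fun h0 => hv₁0 (Subtype.ext h0)
  have hEg : ∀ v ∈ E, ∃ a : ZMod p, a • e₀ = s.π v := fun v hv => by
    obtain ⟨a, ha⟩ := he₀g ⟨s.π v, v, hv, rfl⟩
    exact ⟨a, congrArg Subtype.val ha⟩
  have hMg : ∀ v ∈ M, ∃ a : ZMod p, a • v₁ = s.π v := fun v hv => by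
    obtain ⟨a, ha⟩ := hv₁g ⟨s.π v, v, hv, rfl⟩
    exact ⟨a, congrArg Subtype.val ha⟩
  have hEm : ∀ v ∈ N, ∀ a : ZMod p, s.π v = a • e₀ → v ∈ E := by
    intro v hv a ha
    have h1 : v ∈ s.pull (s.push E hEN) := by
      refine ⟨hv, ?_⟩
      rw [ha]
      exact Submodule.smul_mem _ _ he₀
    rwa [s.pull_push hEN hDE] at h1
  have hMm : ∀ v ∈ N, ∀ a : ZMod p, s.π v = a • v₁ → v ∈ M := by
    intro v hv a ha
    have h1 : v ∈ s.pull (s.push M hMN) := by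
      refine ⟨hv, ?_⟩
      rw [ha]
      exact Submodule.smul_mem _ _ hv₁
    rwa [s.pull_push hMN hDM] at h1
  obtain ⟨e, heE, hee⟩ := he₀
  obtain ⟨x, hxM, hxx⟩ := hv₁
  have hxN := hMN hxM
  have heN := hEN heE
  -- `u` on the two vectors
  have hfv : s.ρ ⟨u, hu⟩ v₁ = v₁ := by
    rw [← hxx, s.act _ x hxN, s.eq_iff (conj_mem_of_norm (hs.n1 hu) hxN) hxN]
    exact hu2.2 x hxM
  obtain ⟨b, hb⟩ : ∃ b : ZMod p, s.ρ ⟨u, hu⟩ e₀ = e₀ + b • v₁ := by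
    obtain ⟨b, hb⟩ := hMg _ (hu1.2 e heN)
    refine ⟨b, ?_⟩
    have h1 : s.π (u * e * u⁻¹ * e⁻¹) = s.ρ ⟨u, hu⟩ e₀ - e₀ := by
      rw [s.add _ (conj_mem_of_norm (hs.n1 hu) heN) _ (inv_mem heN), s.inv heN, ← hee, s.act _ e heN, sub_eq_add_neg]
    rw [hb, h1]
    abel
  -- `M ≠ E`
  have hME : ¬ M ≤ E := by
    intro hh'
    apply huE
    have h1 : M = E := by
      refine Subgroup.eq_of_le_of_card_ge hh' ?_
      rw [← card_mul_relIndex' hDM, ← card_mul_relIndex' hDE, hMc, hDc]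
    rw [← h1]
    have h2 : zpowers u ≤ normalizer (M : Set X) := by
      refine le_norm_of fun y hy a ha => ?_
      have h3 : zpowers u ≤ cs N M := by rw [zpowers_le]; exact hu1
      have h4 := mul_mem ((h3 hy).2 a (hMN ha)) ha
      rwa [inv_mul_cancel_right] at h4
    exact h2 (mem_zpowers u)
  have hb0 : b ≠ 0 := by
    rintro rfl
    rw [zero_smul, add_zero] at hb
    apply huE
    have hucs : u ∈ cs E D := by
      refine ⟨hs.n2 hu, fun r hr => ?_⟩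
      have hrN := hEN hr
      rw [← s.eq_iff (conj_mem_of_norm (hs.n1 hu) hrN) hrN, ← s.act ⟨u, hu⟩ r hrN]
      obtain ⟨a, ha⟩ := hEg r hr
      rw [← ha, map_smul, hb]
    have h2 : zpowers u ≤ normalizer (E : Set X) := by
      refine le_norm_of fun y hy a ha => ?_
      have h3 : zpowers u ≤ cs E D := by rw [zpowers_le]; exact hucs
      have h4 := mul_mem (hDE ((h3 hy).2 a ha)) ha
      rwa [inv_mul_cancel_right] at h4
    exact h2 (mem_zpowers u)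
  -- basis
  have hind : ∀ a : ZMod p, v₁ ≠ a • e₀ := by
    intro a ha
    apply hME
    intro m hm
    obtain ⟨t, ht⟩ := hMg m hm
    exact hEm m (hMN hm) (t * a) (by rw [← ht, ha, smul_smul])
  have hspan : ∀ v : V, ∃ α β : ZMod p, v = α • e₀ + β • v₁ := by
    intro v
    have h1 : Submodule.span (ZMod p) {e₀, v₁} = ⊤ := by
      apply Submodule.eq_top_of_finrank_eq
      rw [hVr]
      have hli : LinearIndependent (ZMod p) ![e₀, v₁] := by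
        rw [LinearIndependent.pair_iff' he0]
        exact fun a ha => hind a ha.symm
      have h2 := finrank_span_eq_card hli
      have h3 : Set.range ![e₀, v₁] = {e₀, v₁} := by simp [Matrix.range_cons, Set.pair_comm]
      rw [Fintype.card_fin, h3] at h2
      exact h2
    have h2 : v ∈ Submodule.span (ZMod p) {e₀, v₁} := by rw [h1]; trivial
    obtain ⟨α, β, hab⟩ := Submodule.mem_span_pair.1 h2
    exact ⟨α, β, hab.symm⟩
  -- `h`
  have hhe : s.ρ ⟨h, hh⟩ e₀ = (c' : ZMod p) • e₀ := by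
    have h1 := hh1 e heE
    rw [← hee, s.act _ e heN, ← s.npow heN, s.eq_iff (conj_mem_of_norm (hs.n1 hh) heN) (pow_mem heN _)]
    exact h1
  obtain ⟨δ, hδ⟩ : ∃ δ : ZMod p, s.ρ ⟨h, hh⟩ v₁ = ((c * c : ℕ) : ZMod p) • v₁ + δ • e₀ := by
    obtain ⟨δ, hδ⟩ := hEg _ (hh2 x hxN)
    refine ⟨δ, ?_⟩
    rw [s.add _ (conj_mem_of_norm (hs.n1 hh) hxN) _ (inv_mem (pow_mem hxN _)), s.inv (pow_mem hxN _), s.npow hxN,
      ← s.act ⟨h, hh⟩ x hxN, hxx] at hδ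
    rw [hδ]
    abel
  have hc'0 : (c' : ZMod p) ≠ 0 := by
    intro h0
    rw [h0, mul_zero] at hcc
    exact zero_ne_one hcc
  have hc0 : (c : ZMod p) ≠ 0 := by
    intro h0
    rw [h0, zero_mul] at hcc
    exact zero_ne_one hcc
  have hfpow : ∀ k : ℕ, ∀ α β : ZMod p, s.ρ (⟨u, hu⟩ ^ k) (α • e₀ + β • v₁) = α • e₀ + (β + k * (b * α)) • v₁ := by
    intro k
    induction k with
    | zero => intro α β; simp
    | succ k ih =>
      intro α β
      rw [pow_succ', map_mul]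
      show s.ρ ⟨u, hu⟩ (s.ρ (⟨u, hu⟩ ^ k) (α • e₀ + β • v₁)) = _
      rw [ih, map_add, map_smul, map_smul, hb, hfv, Nat.cast_succ]
      module
  by_cases hδ0 : δ = 0
  · right
    rw [hδ0, zero_smul, add_zero] at hδ
    constructor
    · have h1 : zpowers h ≤ normalizer (M : Set X) := by
        refine le_norm_of fun y hy a ha => ?_
        have hyH : y ∈ H0 := (zpowers_le.2 hh : zpowers h ≤ H0) hy
        have h2 : ∀ (z : X) (hz : z ∈ zpowers h), ∃ t : ZMod p, s.ρ ⟨z, (zpowers_le.2 hh : zpowers h ≤ H0) hz⟩ v₁ = t • v₁ := by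
          intro z hz
          let T : Subgroup X :=
            { carrier := {z | ∃ hz : z ∈ H0, ∃ t : ZMod p, t ≠ 0 ∧ s.ρ ⟨z, hz⟩ v₁ = t • v₁}
              one_mem' := ⟨one_mem _, 1, one_ne_zero, by
                have : (⟨1, one_mem _⟩ : H0) = 1 := rfl
                rw [this, map_one, one_smul]; rfl⟩
              mul_mem' := by
                rintro a b ⟨ha, t, ht, h3⟩ ⟨hb, r, hr, h4⟩
                refine ⟨mul_mem ha hb, r * t, mul_ne_zero hr ht, ?_⟩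
                have : (⟨a * b, mul_mem ha hb⟩ : H0) = ⟨a, ha⟩ * ⟨b, hb⟩ := rfl
                rw [this, map_mul]
                show s.ρ ⟨a, ha⟩ (s.ρ ⟨b, hb⟩ v₁) = _
                rw [h4, map_smul, h3, smul_smul]
              inv_mem' := by
                rintro a ⟨ha, t, ht, h3⟩
                refine ⟨inv_mem ha, t⁻¹, inv_ne_zero ht, ?_⟩
                have : (⟨a⁻¹, inv_mem ha⟩ : H0) = (⟨a, ha⟩ : H0)⁻¹ := rfl
                rw [this, map_inv]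
                have h4 : s.ρ ⟨a, ha⟩ (t⁻¹ • v₁) = v₁ := by
                  rw [map_smul, h3, smul_smul, inv_mul_cancel₀ ht, one_smul]
                conv_lhs => rw [← h4]
                exact (s.ρ ⟨a, ha⟩).symm_apply_apply _ }
          have h3 : zpowers h ≤ T := by
            rw [zpowers_le]
            refine ⟨hh, ((c * c : ℕ) : ZMod p), ?_, hδ⟩
            rw [Nat.cast_mul]
            exact mul_ne_zero hc0 hc0
          obtain ⟨hz', t, _, ht⟩ := h3 hz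
          exact ⟨t, ht⟩
        obtain ⟨t, ht⟩ := h2 y hy
        obtain ⟨r, hr⟩ := hMg a ha
        refine hMm _ (conj_mem_of_norm (hs.n1 hyH) (hMN ha)) (r * t) ?_
        rw [← s.act ⟨y, hyH⟩ a (hMN ha), ← hr, map_smul, ht, smul_smul]
      exact h1 (mem_zpowers h)
    · have h1 : s.ρ ⟨h, hh⟩ * s.ρ ⟨u, hu⟩ = s.ρ (⟨u, hu⟩ ^ (c * c * c)) * s.ρ ⟨h, hh⟩ := by
        ext v
        obtain ⟨α, β, rfl⟩ := hspan v
        show s.ρ ⟨h, hh⟩ (s.ρ ⟨u, hu⟩ (α • e₀ + β • v₁)) =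
          s.ρ (⟨u, hu⟩ ^ (c * c * c)) (s.ρ ⟨h, hh⟩ (α • e₀ + β • v₁))
        have e1 : s.ρ ⟨h, hh⟩ (α • e₀ + β • v₁) = (α * c') • e₀ + (β * (c * c : ℕ)) • v₁ := by
          rw [map_add, map_smul, map_smul, hhe, hδ, smul_smul, smul_smul]
        have e2 : s.ρ ⟨u, hu⟩ (α • e₀ + β • v₁) = α • e₀ + (β + b * α) • v₁ := by
          have := hfpow 1 α β
          rw [pow_one, Nat.cast_one, one_mul] at this
          exact this
        rw [e1, hfpow, e2, map_add, map_smul, map_smul, hhe, hδ, smul_smul, smul_smul]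
        congr 2
        push_cast
        linear_combination (-(b * α * (c : ZMod p) * (c : ZMod p))) * hcc
      have h2 : s.ρ (⟨h, hh⟩ * ⟨u, hu⟩ * (⟨h, hh⟩ : H0)⁻¹ * (⟨u, hu⟩ ^ (c * c * c))⁻¹) = 1 := by
        rw [map_mul, map_mul, map_mul, h1, map_inv, map_inv, mul_inv_cancel_right, mul_inv_cancel]
      exact (hρ1 _).2 h2
  · left
    -- `u' = h u h⁻¹`
    obtain ⟨κ, hκ⟩ : ∃ κ : ZMod p, κ = -((c' : ZMod p) * (b * δ)⁻¹) := ⟨_, rfl⟩
    obtain ⟨k, hk⟩ : ∃ k : ℕ, (k : ZMod p) = κ := ⟨κ.val, ZMod.natCast_zmod_val κ⟩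
    have hbδ : b * δ ≠ 0 := mul_ne_zero hb0 hδ0
    -- `(h u^k h⁻¹) e₀ = -δ⁻¹ c² v₁`
    have hinv : s.ρ (⟨h, hh⟩ : H0)⁻¹ e₀ = ((c' : ZMod p)⁻¹) • e₀ := by
      rw [map_inv]
      have h4 : s.ρ ⟨h, hh⟩ (((c' : ZMod p)⁻¹) • e₀) = e₀ := by
        rw [map_smul, hhe, smul_smul, inv_mul_cancel₀ hc'0, one_smul]
      conv_lhs => rw [← h4]
      exact (s.ρ ⟨h, hh⟩).symm_apply_apply _
    obtain ⟨g, hg⟩ : ∃ g : H0, g = ⟨h, hh⟩ * ⟨u, hu⟩ ^ k * (⟨h, hh⟩ : H0)⁻¹ := ⟨_, rfl⟩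
    have hge : s.ρ g e₀ = (-(δ⁻¹ * ((c * c : ℕ) : ZMod p))) • v₁ := by
      rw [hg, map_mul, map_mul]
      show s.ρ ⟨h, hh⟩ (s.ρ (⟨u, hu⟩ ^ k) (s.ρ (⟨h, hh⟩ : H0)⁻¹ e₀)) = _
      rw [hinv]
      have e1 : ((c' : ZMod p)⁻¹) • e₀ = ((c' : ZMod p)⁻¹) • e₀ + (0 : ZMod p) • v₁ := by simp
      rw [e1, hfpow, map_add, map_smul, map_smul, hhe, hδ, hk, hκ, smul_smul, inv_mul_cancel₀ hc'0, one_smul, zero_add]
      have e2 : -((c' : ZMod p) * (b * δ)⁻¹) * (b * (c' : ZMod p)⁻¹) = -δ⁻¹ := by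
        field_simp
      rw [e2, smul_add, smul_smul, smul_smul]
      have e3 : -δ⁻¹ * δ = -1 := by rw [neg_mul, inv_mul_cancel₀ hδ0]
      rw [e3]
      module
    have hne : -(δ⁻¹ * ((c * c : ℕ) : ZMod p)) ≠ 0 := by
      rw [Nat.cast_mul]
      exact neg_ne_zero.2 (mul_ne_zero (inv_ne_zero hδ0) (mul_ne_zero hc0 hc0))
    have hginv : s.ρ g⁻¹ v₁ = (-(δ⁻¹ * ((c * c : ℕ) : ZMod p)))⁻¹ • e₀ := by
      rw [map_inv]
      have h4 : s.ρ g ((-(δ⁻¹ * ((c * c : ℕ) : ZMod p)))⁻¹ • e₀) = v₁ := by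
        rw [map_smul, hge, smul_smul, inv_mul_cancel₀ hne, one_smul]
      conv_lhs => rw [← h4]
      exact (s.ρ g).symm_apply_apply _
    refine ⟨(g⁻¹ : H0), (g⁻¹).2, hs.n2 (mul_mem (mul_mem (g⁻¹).2 hu) (inv_mem (g⁻¹).2)), fun r hr => ?_⟩
    have hrN := hEN hr
    have hwH : ((g⁻¹ : H0) : X) * u * ((g⁻¹ : H0) : X)⁻¹ ∈ H0 := mul_mem (mul_mem (g⁻¹).2 hu) (inv_mem (g⁻¹).2)
    rw [← s.eq_iff (conj_mem_of_norm (hs.n1 hwH) hrN) hrN, ← s.act ⟨_, hwH⟩ r hrN]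
    obtain ⟨a, ha⟩ := hEg r hr
    rw [← ha, map_smul]
    have h5 : (⟨_, hwH⟩ : H0) = g⁻¹ * ⟨u, hu⟩ * g := by
      apply Subtype.ext
      simp
    rw [h5, map_mul, map_mul]
    have h6 : s.ρ g⁻¹ (s.ρ ⟨u, hu⟩ (s.ρ g e₀)) = e₀ := by
      rw [hge, map_smul, hfv, map_smul, hginv, smul_smul, mul_inv_cancel₀ hne, one_smul]
    exact congrArg (a • ·) h6

end

end Cfsg.Agent.H765
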