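import Cfsg.Agent.H765.Tau

/-!
# Central modules, Lemma U and Lemma β (helper765)
-/

set_option autoImplicit false
set_option linter.unusedSectionVars false
set_option linter.unusedSimpArgs false
set_option linter.unusedVariables false

namespace Cfsg.Agent.H765

open Module Subgroup

universe u

variable {X : Type u} [Group X]

/-! ### Orders -/

theorem card_mul_relIndex' {A B : Subgroup X} (h : A ≤ B) : Nat.card A * A.relIndex B = Nat.card B := by
  have := Subgroup.card_mul_index (A.subgroupOf B)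
  rw [← this]
  congr 1
  exact (Nat.card_congr (Subgroup.subgroupOfEquivOfLe h).toEquiv).symm

theorem card_mul_p_le {p : ℕ} [hp : Fact p.Prime] {A B : Subgroup X} [Finite B] (hB : IsPGroup p B) (h : A ≤ B)
    (hne : ¬ B ≤ A) : Nat.card A * p ≤ Nat.card B := by
  rw [← card_mul_relIndex' h]
  refine Nat.mul_le_mul_left _ ?_
  have h1 : A.relIndex B ≠ 1 := by rwa [Ne, relIndex_eq_one]
  have h2 : A.relIndex B ∣ Nat.card B := Subgroup.index_dvd_card _
  obtain ⟨n, hn⟩ := IsPGroup.iff_card.1 hB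
  rw [hn] at h2
  obtain ⟨m, hm, hm'⟩ := (Nat.dvd_prime_pow hp.out).1 h2
  have h0 : m ≠ 0 := by rintro rfl; rw [pow_zero] at hm'; exact h1 hm'
  rw [hm']
  calc p = p ^ 1 := (pow_one p).symm
    _ ≤ p ^ m := Nat.pow_le_pow_right hp.out.pos (by omega)

theorem le_sup_zpowers {A : Subgroup X} (x : X) : A ≤ A ⊔ zpowers x := le_sup_left

theorem mem_sup_zpowers (A : Subgroup X) (x : X) : x ∈ A ⊔ zpowers x := mem_sup_right (mem_zpowers x)

theorem sup_zpowers_le {A B : Subgroup X} {x : X} : A ⊔ zpowers x ≤ B ↔ A ≤ B ∧ x ∈ B := by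
  rw [sup_le_iff, zpowers_le]

theorem grow {p : ℕ} [hp : Fact p.Prime] {A U : Subgroup X} [Finite U] (hU : IsPGroup p U) (h : A ≤ U) {x : X}
    (hx : x ∈ U) (hxA : x ∉ A) : Nat.card A * p ≤ Nat.card (A ⊔ zpowers x : Subgroup X) := by
  have hle : A ⊔ zpowers x ≤ U := sup_zpowers_le.2 ⟨h, hx⟩
  have : Finite (A ⊔ zpowers x : Subgroup X) := Finite.of_injective _ (inclusion_injective hle)
  exact card_mul_p_le (hU.to_le hle) le_sup_left fun hle' => hxA (hle' (mem_sup_zpowers A x))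

theorem relIndex_le_of_card {A B : Subgroup X} [Finite B] {n : ℕ} (h : A ≤ B) (hc : Nat.card B ≤ n * Nat.card A) :
    A.relIndex B ≤ n := by
  have hA : Finite A := Finite.of_injective _ (inclusion_injective h)
  rw [← card_mul_relIndex' h, mul_comm] at hc
  exact Nat.le_of_mul_le_mul_right hc Nat.card_pos

theorem SR.card {p : ℕ} {N A B : Subgroup X} (h : SR p N) (h1 : B ≤ A) (h2 : A ≤ N)
    (h3 : ∀ a ∈ A, ∀ b ∈ A, a * b * a⁻¹ * b⁻¹ ∈ B) (h4 : ∀ a ∈ A, a ^ p ∈ B) :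
    Nat.card A ≤ Nat.card B * p ^ 3 := by
  rw [← card_mul_relIndex' h1]
  exact Nat.mul_le_mul_left _ (h A B h1 h2 h3 h4)

theorem SR.card_ab {p : ℕ} {N A : Subgroup X} (h : SR p N) (h2 : A ≤ N)
    (h3 : ∀ a ∈ A, ∀ b ∈ A, a * b = b * a) (h4 : ∀ a ∈ A, a ^ p = 1) : Nat.card A ≤ p ^ 3 := by
  have := h.card (A := A) (B := ⊥) bot_le h2 (fun a ha b hb => by rw [mem_bot, h3 a ha b hb]; group)
    (fun a ha => by rw [mem_bot]; exact h4 a ha)
  simpa using this

/-- `U` has index `p` over `A`, `K ≥ A` contains an element of `U` outside `A`. -/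
theorem le_of_card_p {p : ℕ} [hp : Fact p.Prime] {A U K : Subgroup X} [Finite U] (hU : IsPGroup p U) (hAU : A ≤ U)
    (hc : Nat.card U ≤ Nat.card A * p) (hK : A ≤ K) {x : X} (hx : x ∈ U) (hxA : x ∉ A) (hxK : x ∈ K) : U ≤ K := by
  have hle : A ⊔ zpowers x ≤ U := sup_zpowers_le.2 ⟨hAU, hx⟩
  have h1 := hc.trans (grow hU hAU hx hxA)
  have h2 : A ⊔ zpowers x = U := Subgroup.eq_of_le_of_card_ge hle h1
  rw [← h2]
  exact sup_zpowers_le.2 ⟨hK, hxK⟩

/-! ### Irreducibility -/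

/-- A non-`PT` section of order `p²` is irreducible for `L`. -/
theorem irr2 {p : ℕ} [Fact p.Prime] [Finite X] {N H R₁ R₂ A : Subgroup X} (hN : IsPGroup p N) (hNH : N ≤ H)
    (hs : Sct p H R₁ R₂) (hR : IsPGroup p R₁) (hc : R₂.relIndex R₁ = p ^ 2) (hnpt : ¬ PT p (Lc N H) R₁ R₂)
    (hA2 : R₂ ≤ A) (hA1 : A ≤ R₁) (hA : Lc N H ≤ normalizer (A : Set X)) : A = R₂ ∨ A = R₁ := by
  have hpp : p.Prime := Fact.out
  by_contra hno
  push Not at hno
  apply hnpt
  have h1 := Subgroup.relIndex_mul_relIndex R₂ A R₁ hA2 hA1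
  rw [hc] at h1
  have h2 : R₂.relIndex A ≠ 1 := by
    rw [Ne, relIndex_eq_one]; exact fun h => hno.1 (le_antisymm h hA2)
  have h3 : A.relIndex R₁ ≠ 1 := by
    rw [Ne, relIndex_eq_one]; exact fun h => hno.2 (le_antisymm hA1 h)
  obtain ⟨a, ha, ha'⟩ := (Nat.dvd_prime_pow hpp).1 (Dvd.intro _ h1 : R₂.relIndex A ∣ p ^ 2)
  obtain ⟨b, hb, hb'⟩ := (Nat.dvd_prime_pow hpp).1 (Dvd.intro_left _ h1 : A.relIndex R₁ ∣ p ^ 2)
  have ha0 : a ≠ 0 := by rintro rfl; exact h2 (by rw [ha', pow_zero])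
  have hb0 : b ≠ 0 := by rintro rfl; exact h3 (by rw [hb', pow_zero])
  rw [ha', hb', ← pow_add] at h1
  have hab := Nat.pow_right_injective hpp.two_le h1
  have ha1 : a = 1 := by omega
  have hb1 : b = 1 := by omega
  have nA : R₁ ≤ normalizer (A : Set X) := by
    refine le_norm_of fun x hx a ha => ?_
    have h3 := hs.comm x hx a (hA1 ha)
    have e : x * a * x⁻¹ = x * a * x⁻¹ * a⁻¹ * a := by group
    rw [e]
    exact mul_mem (hA2 h3) ha
  have hL := Lc_le_self hNH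
  refine PT.trans (hR.to_le hA1) (PT.of_cs (Lc_le_cs hN hA1 nA (hL.trans hs.n1) hA hR (by rw [hb', hb1, pow_one])))
    (PT.of_cs (Lc_le_cs hN hA2 (hA1.trans hs.n12) hA (hL.trans hs.n2) (hR.to_le hA1) (by rw [ha', ha1, pow_one])))

/-! ### Central modules -/

/-- `M ≤ Z(E)` of exponent `p`, `H`-invariant, not `PT`. -/
structure CM (p : ℕ) (N E H M : Subgroup X) : Prop where
  ME : M ≤ E
  cen : ∀ m ∈ M, ∀ e ∈ E, e * m = m * e
  pow : ∀ m ∈ M, m ^ p = 1
  nM : H ≤ normalizer (M : Set X)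
  npt : ¬ PT p (Lc N H) M ⊥

theorem mem_cs_bot {R : Subgroup X} {x : X} : x ∈ cs R ⊥ ↔ ∀ r ∈ R, x * r = r * x := by
  rw [mem_cs]
  constructor
  · rintro ⟨-, h⟩ r hr
    have := h r hr
    rw [mem_bot, mul_inv_eq_one, mul_inv_eq_iff_eq_mul] at this
    exact this
  · intro h
    refine ⟨norm_bot ⊤ trivial, fun r hr => ?_⟩
    rw [mem_bot, h r hr]
    group

namespace CM

variable {p : ℕ} [Fact p.Prime] [Finite X] {N E H H0 M : Subgroup X}

theorem sct (c : CM p N E H M) : Sct p H M ⊥ where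
  le := bot_le
  n1 := c.nM
  n2 := norm_bot H
  n12 := norm_bot M
  comm a ha b hb := by rw [mem_bot, c.cen b hb a (c.ME ha)]; group
  pow a ha := by rw [mem_bot]; exact c.pow a ha

theorem E_le (c : CM p N E H M) : E ≤ cs M ⊥ := fun e he => mem_cs_bot.2 fun m hm => c.cen m hm e he

theorem mem_E (c : CM p N E H M) (h : Par p N E H H0) {n : X} (hn : n ∈ N) (hc : n ∈ cs M ⊥) : n ∈ E :=
  h.not_mem_of_not_pt c.nM (norm_bot H) c.npt hn hc

theorem card_le (c : CM p N E H M) (h : Par p N E H H0) (hr : SR p N) : Nat.card M ≤ p ^ 3 :=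
  hr.card_ab (c.ME.trans h.EN) (fun a ha b hb => c.cen b hb a (c.ME ha)) c.pow

theorem le_card (c : CM p N E H M) (h : Par p N E H H0) : p ^ 2 ≤ Nat.card M := by
  have hpp : p.Prime := Fact.out
  have hMp : IsPGroup p M := h.pE.to_le c.ME
  obtain ⟨n, hn⟩ := IsPGroup.iff_card.1 hMp
  rw [hn]
  by_contra hlt
  apply c.npt
  refine PT.of_cs (Lc_le_cs h.pN bot_le (norm_bot M) (h.LH.trans c.nM) (norm_bot _) hMp ?_)
  rw [relIndex_bot_left, hn]
  have : n ≤ 1 := by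
    by_contra h2
    exact hlt (Nat.pow_le_pow_right hpp.pos (by omega))
  calc p ^ n ≤ p ^ 1 := Nat.pow_le_pow_right hpp.pos this
    _ = p := pow_one p

theorem card_eq (c : CM p N E H M) (h : Par p N E H H0) (hr : SR p N) :
    Nat.card M = p ^ 2 ∨ Nat.card M = p ^ 3 := by
  have hpp : p.Prime := Fact.out
  have hMp : IsPGroup p M := h.pE.to_le c.ME
  obtain ⟨n, hn⟩ := IsPGroup.iff_card.1 hMp
  have h1 := c.le_card h
  have h2 := c.card_le h hr
  rw [hn] at h1 h2 ⊢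
  have h3 := (Nat.pow_le_pow_iff_right hpp.one_lt).1 h1
  have h4 := (Nat.pow_le_pow_iff_right hpp.one_lt).1 h2
  have : n = 2 ∨ n = 3 := by omega
  rcases this with rfl | rfl
  · exact Or.inl rfl
  · exact Or.inr rfl

end CM

/-! ### Elementary abelian subgroups -/

/-- Elementary abelian (as a condition on elements). -/
structure EA (p : ℕ) (A : Subgroup X) : Prop where
  comm : ∀ a ∈ A, ∀ b ∈ A, a * b = b * a
  pow : ∀ a ∈ A, a ^ p = 1

theorem EA.mono {p : ℕ} {A B : Subgroup X} (h : EA p B) (hAB : A ≤ B) : EA p A :=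
  ⟨fun a ha b hb => h.comm a (hAB ha) b (hAB hb), fun a ha => h.pow a (hAB ha)⟩

theorem EA.sup {p : ℕ} {A B : Subgroup X} (hA : EA p A) (hB : EA p B) (h : ∀ a ∈ A, ∀ b ∈ B, a * b = b * a) :
    EA p (A ⊔ B) := by
  have hn : A ≤ normalizer (B : Set X) := le_norm_of fun x hx a ha => by
    rw [h x hx a ha, mul_inv_cancel_right]; exact ha
  constructor
  · intro x hx y hy
    obtain ⟨a, ha, b, hb, rfl⟩ := (mem_sup_iff hn).1 hx
    obtain ⟨c, hc, d, hd, rfl⟩ := (mem_sup_iff hn).1 hy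
    have e1 : Commute a c := hA.comm a ha c hc
    have e2 : Commute b d := hB.comm b hb d hd
    have e3 : Commute a d := h a ha d hd
    have e4 : Commute c b := h c hc b hb
    exact ((e1.mul_right e3).mul_left (e4.symm.mul_right e2)).eq
  · intro x hx
    obtain ⟨a, ha, b, hb, rfl⟩ := (mem_sup_iff hn).1 hx
    have e1 : Commute a b := h a ha b hb
    rw [e1.mul_pow, hA.pow a ha, hB.pow b hb, one_mul]

theorem EA.zpowers {p : ℕ} {x : X} (h : x ^ p = 1) : EA p (zpowers x) := by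
  constructor
  · rintro _ ⟨a, rfl⟩ _ ⟨b, rfl⟩
    exact (Commute.zpow_zpow_self x a b).eq
  · rintro _ ⟨a, rfl⟩
    show (x ^ a) ^ p = 1
    rw [← zpow_natCast, ← zpow_mul, mul_comm, zpow_mul, zpow_natCast, h, one_zpow]

theorem EA.sup_zpowers {p : ℕ} {A : Subgroup X} (hA : EA p A) {x : X} (hx : x ^ p = 1)
    (h : ∀ a ∈ A, a * x = x * a) : EA p (A ⊔ Subgroup.zpowers x) := by
  refine hA.sup (EA.zpowers hx) ?_
  rintro a ha _ ⟨k, rfl⟩
  have : Commute a x := h a ha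
  exact (this.zpow_right k).eq

theorem SR.card_EA {p : ℕ} {N A : Subgroup X} (h : SR p N) (h2 : A ≤ N) (hA : EA p A) : Nat.card A ≤ p ^ 3 :=
  h.card_ab h2 hA.comm hA.pow

theorem card_sup_zpowers_le {p : ℕ} [hp : Fact p.Prime] {M : Subgroup X} [Finite M] {a : X}
    (ha : a ∈ normalizer (M : Set X)) (hap : a ^ p ∈ M) :
    Nat.card (M ⊔ zpowers a : Subgroup X) ≤ Nat.card M * p := by
  have hn : zpowers a ≤ normalizer (M : Set X) := by rwa [zpowers_le]
  have hle : ∀ (i : Fin p) (m : M), a ^ (i : ℕ) * (m : X) ∈ M ⊔ zpowers a := fun i m =>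
    mul_mem (mem_sup_right (pow_mem (mem_zpowers a) _)) (mem_sup_left m.2)
  have hs : Function.Surjective (fun x : Fin p × M => (⟨a ^ (x.1 : ℕ) * (x.2 : X), hle x.1 x.2⟩ :
      (M ⊔ zpowers a : Subgroup X))) := by
    rintro ⟨x, hx⟩
    rw [sup_comm] at hx
    obtain ⟨_, ⟨k, rfl⟩, m, hm, hkm⟩ := (mem_sup_iff hn).1 hx
    have hp0 : (p : ℤ) ≠ 0 := by exact_mod_cast hp.out.ne_zero
    have h1 : 0 ≤ k % p := Int.emod_nonneg k hp0
    have h2 : k % p < p := Int.emod_lt_of_pos k (by exact_mod_cast hp.out.pos)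
    obtain ⟨i, hi⟩ := Int.eq_ofNat_of_zero_le h1
    refine ⟨(⟨i, by omega⟩, ⟨(a ^ p) ^ (k / p) * m, mul_mem (zpow_mem hap _) hm⟩), Subtype.ext ?_⟩
    show a ^ i * ((a ^ p) ^ (k / p) * m) = x
    rw [← hkm]
    have e : k = i + p * (k / p) := by
      rw [← hi]; exact (Int.emod_add_mul_ediv k p).symm
    show _ = a ^ k * m
    conv_rhs => rw [e]
    rw [zpow_add, zpow_mul, zpow_natCast, zpow_natCast, mul_assoc]
  have h3 := Nat.card_le_card_of_surjective _ hs
  rw [Nat.card_prod, Nat.card_eq_fintype_card (α := Fin p), Fintype.card_fin, mul_comm] at h3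
  exact h3

/-- The index of the centralizer (modulo `M₀`) of an element. -/
theorem relIndex_sc_le {U M M₀ : Subgroup X} [Finite M] (n0 : U ≤ normalizer (M₀ : Set X)) {x : X}
    (hx : ∀ u ∈ U, x * u * x⁻¹ * u⁻¹ ∈ M) : (U ⊓ sc x M₀).relIndex U ≤ M₀.relIndex M := by
  have key : ∀ u v : U, (QuotientGroup.leftRel ((U ⊓ sc x M₀).subgroupOf U)) u v ↔
      (QuotientGroup.leftRel (M₀.subgroupOf M)) ⟨_, hx u u.2⟩ ⟨_, hx v v.2⟩ := by
    intro u v
    rw [QuotientGroup.leftRel_apply, QuotientGroup.leftRel_apply, mem_subgroupOf, mem_subgroupOf]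
    have e : ((⟨_, hx u u.2⟩ : M)⁻¹ * ⟨_, hx v v.2⟩ : M).1 =
        (u : X) * (x * ((u : X)⁻¹ * v) * x⁻¹ * ((u : X)⁻¹ * v)⁻¹) * (u : X)⁻¹ := by
      show (x * (u : X) * x⁻¹ * (u : X)⁻¹)⁻¹ * (x * (v : X) * x⁻¹ * (v : X)⁻¹) = _
      group
    rw [e]
    have huv : (u : X)⁻¹ * v ∈ U := mul_mem (inv_mem u.2) v.2
    constructor
    · rintro ⟨-, -, h2⟩
      exact conj_mem_of_norm (n0 u.2) h2
    · intro h2
      refine ⟨huv, n0 huv, ?_⟩
      have h3 := conj_mem_of_norm (n0 (inv_mem u.2)) h2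
      have e2 : (u : X)⁻¹ * ((u : X) * (x * ((u : X)⁻¹ * v) * x⁻¹ * ((u : X)⁻¹ * v)⁻¹) * (u : X)⁻¹) *
        (u : X)⁻¹⁻¹ = x * ((u : X)⁻¹ * v) * x⁻¹ * ((u : X)⁻¹ * v)⁻¹ := by group
      rw [e2] at h3
      exact h3
  have : Finite (M ⧸ M₀.subgroupOf M) := inferInstance
  refine Nat.card_le_card_of_injective (Quotient.map (fun u : U => (⟨_, hx u u.2⟩ : M))
    (fun u v h => (key u v).1 h)) ?_
  intro a b
  induction a using Quotient.inductionOn with
  | _ a =>
  induction b using Quotient.inductionOn with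
  | _ b =>
  intro hab
  exact Quotient.sound ((key a b).2 (Quotient.exact hab))

theorem card_le_sc {p : ℕ} {U M M₀ : Subgroup X} [Finite U] [Finite M] (n0 : U ≤ normalizer (M₀ : Set X)) {x : X}
    (hx : ∀ u ∈ U, x * u * x⁻¹ * u⁻¹ ∈ M) (h0 : M₀ ≤ M) (hc : Nat.card M ≤ Nat.card M₀ * p) :
    Nat.card U ≤ Nat.card (U ⊓ sc x M₀ : Subgroup X) * p := by
  rw [← card_mul_relIndex' (inf_le_left : U ⊓ sc x M₀ ≤ U)]
  refine Nat.mul_le_mul_left _ ((relIndex_sc_le n0 hx).trans ?_)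
  exact relIndex_le_of_card h0 (by rw [mul_comm]; exact hc)

/-! ### Radicals of commutator forms -/

/-- A commutator form with values in a group of order `p` on a space of dimension 3 has a radical. -/
theorem exists_rad {p : ℕ} [Fact p.Prime] {M₀ M U : Subgroup X} [Finite U] (hU : IsPGroup p U) (h0 : M₀ ≤ M)
    (hM : M ≤ U) (hc0 : Nat.card M ≤ Nat.card M₀ * p) (hc : Nat.card U = Nat.card M * p ^ 3)
    (n0 : U ≤ normalizer (M₀ : Set X)) (nM : U ≤ normalizer (M : Set X))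
    (hcomm : ∀ a ∈ U, ∀ b ∈ U, a * b * a⁻¹ * b⁻¹ ∈ M) (hcM : ∀ a ∈ U, ∀ m ∈ M, a * m * a⁻¹ * m⁻¹ ∈ M₀)
    (hpow : ∀ a ∈ U, a ^ p ∈ M) : ∃ x ∈ U, x ∉ M ∧ ∀ u ∈ U, x * u * x⁻¹ * u⁻¹ ∈ M₀ := by
  have hpp : p.Prime := Fact.out
  have hfM : Finite M := Finite.of_injective _ (inclusion_injective hM)
  have hfM0 : Finite M₀ := Finite.of_injective _ (inclusion_injective h0)
  have hMpos : 0 < Nat.card M := Nat.card_pos
  have hsc : ∀ x ∈ U, M ≤ sc x M₀ := fun x hx m hm => ⟨n0 (hM hm), hcM x hx m hm⟩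
  have hself : ∀ x ∈ U, x ∈ sc x M₀ := fun x hx => ⟨n0 hx, by
    have : x * x * x⁻¹ * x⁻¹ = 1 := by group
    rw [this]; exact one_mem _⟩
  have hsymm : ∀ x ∈ U, ∀ y ∈ U, x ∈ sc y M₀ → y ∈ sc x M₀ := by
    rintro x hx y hy ⟨-, h2⟩
    refine ⟨n0 hy, ?_⟩
    have := inv_mem h2
    have e : (y * x * y⁻¹ * x⁻¹)⁻¹ = x * y * x⁻¹ * y⁻¹ := by group
    rwa [e] at this
  have hp1 : 1 < p := hpp.one_lt
  by_cases hall : ∀ a ∈ U, ∀ b ∈ U, a * b * a⁻¹ * b⁻¹ ∈ M₀
  · obtain ⟨x, hx, hxM⟩ : ∃ x ∈ U, x ∉ M := by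
      by_contra hno
      push Not at hno
      have h1 : U = M := le_antisymm hno hM
      rw [h1] at hc
      have : Nat.card M * 1 < Nat.card M * p ^ 3 :=
        Nat.mul_lt_mul_of_pos_left (Nat.one_lt_pow (by norm_num) hpp.one_lt) hMpos
      omega
    exact ⟨x, hx, hxM, fun u hu => hall x hx u hu⟩
  · push Not at hall
    obtain ⟨a, ha, r, hr, har⟩ := hall
    -- `C = C_U(a mod M₀)`
    obtain ⟨C, hC⟩ : ∃ C, C = U ⊓ sc a M₀ := ⟨_, rfl⟩
    have hCU : C ≤ U := hC ▸ inf_le_left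
    have hMC : M ≤ C := by rw [hC]; exact le_inf hM (hsc a ha)
    have hfC : Finite C := Finite.of_injective _ (inclusion_injective hCU)
    have haM : a ∉ M := fun h => har (by
      have := inv_mem (hcM r hr a h)
      have e : (r * a * r⁻¹ * a⁻¹)⁻¹ = a * r * a⁻¹ * r⁻¹ := by group
      rwa [e] at this)
    have hrC : r ∉ C := fun h => har (by rw [hC] at h; exact h.2.2)
    have hc1 : Nat.card U ≤ Nat.card C * p := by
      rw [hC]; exact card_le_sc n0 (fun u hu => hcomm a ha u hu) h0 hc0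
    have hc2 : Nat.card C ≤ Nat.card (C ⊓ sc r M₀ : Subgroup X) * p :=
      card_le_sc (hCU.trans n0) (fun u hu => hcomm r hr u (hCU hu)) h0 hc0
    obtain ⟨x, ⟨hxC, hxr⟩, hxM⟩ : ∃ x ∈ C ⊓ sc r M₀, x ∉ M := by
      by_contra hno
      push Not at hno
      have h1 : Nat.card (C ⊓ sc r M₀ : Subgroup X) ≤ Nat.card M :=
        Nat.card_le_card_of_injective _ (inclusion_injective hno)
      have h2 : Nat.card M * p ^ 3 ≤ Nat.card M * p ^ 2 := by
        calc Nat.card M * p ^ 3 = Nat.card U := hc.symm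
          _ ≤ Nat.card C * p := hc1
          _ ≤ Nat.card (C ⊓ sc r M₀ : Subgroup X) * p * p := Nat.mul_le_mul_right _ hc2
          _ ≤ Nat.card M * p * p := Nat.mul_le_mul_right _ (Nat.mul_le_mul_right _ h1)
          _ = Nat.card M * p ^ 2 := by ring
      have h3 := Nat.le_of_mul_le_mul_left h2 hMpos
      exact absurd h3 (not_le.2 (Nat.pow_lt_pow_right hp1 (by norm_num)))
    have hxU := hCU hxC
    have hxa : x ∈ sc a M₀ := by rw [hC] at hxC; exact hxC.2
    refine ⟨x, hxU, hxM, ?_⟩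
    have hMa : Nat.card (M ⊔ zpowers a : Subgroup X) ≤ Nat.card M * p :=
      card_sup_zpowers_le (nM ha) (hpow a ha)
    have hxMa : x ∉ M ⊔ zpowers a := by
      intro hx'
      have h1 := grow hU hM hxU hxM
      have hle : M ⊔ zpowers x ≤ M ⊔ zpowers a := sup_zpowers_le.2 ⟨le_sup_left, hx'⟩
      have hf : Finite (M ⊔ zpowers a : Subgroup X) :=
        Finite.of_injective _ (inclusion_injective (sup_zpowers_le.2 ⟨hM, ha⟩ : M ⊔ zpowers a ≤ U))
      have h2 : M ⊔ zpowers x = M ⊔ zpowers a := Subgroup.eq_of_le_of_card_ge hle (hMa.trans h1)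
      have h3 : a ∈ sc r M₀ := by
        have : M ⊔ zpowers x ≤ sc r M₀ := sup_zpowers_le.2 ⟨hsc r hr, hxr⟩
        rw [h2] at this
        exact this (mem_sup_zpowers M a)
      exact har (hsymm a ha r hr h3).2
    -- `U = ⟨M, a, x, r⟩`
    have hK : U ≤ sc x M₀ := by
      have h1 := grow hU hM ha haM
      have h2 := grow hU (sup_zpowers_le.2 ⟨hM, ha⟩) hxU hxMa
      have hle : M ⊔ zpowers a ⊔ zpowers x ≤ C := by
        refine sup_zpowers_le.2 ⟨sup_zpowers_le.2 ⟨hMC, ?_⟩, hxC⟩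
        rw [hC]; exact ⟨ha, hself a ha⟩
      have h3 := grow hU (hle.trans hCU) hr (fun h => hrC (hle h))
      have h4 : M ⊔ zpowers a ⊔ zpowers x ⊔ zpowers r = U := by
        refine Subgroup.eq_of_le_of_card_ge (sup_zpowers_le.2 ⟨hle.trans hCU, hr⟩) ?_
        rw [hc]
        calc Nat.card M * p ^ 3 = Nat.card M * p * p * p := by ring
          _ ≤ Nat.card (M ⊔ zpowers a : Subgroup X) * p * p :=
            Nat.mul_le_mul_right _ (Nat.mul_le_mul_right _ h1)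
          _ ≤ Nat.card (M ⊔ zpowers a ⊔ zpowers x : Subgroup X) * p := Nat.mul_le_mul_right _ h2
          _ ≤ _ := h3
      rw [← h4]
      exact sup_zpowers_le.2 ⟨sup_zpowers_le.2 ⟨sup_zpowers_le.2 ⟨hsc x hxU, hsymm x hxU a ha hxa⟩,
        hself x hxU⟩, hsymm x hxU r hr hxr⟩
    intro u hu
    exact (hK hu).2

/-- A class 2 group of exponent `p` with `|U / M| = p³`, `[U, U] ≤ M` central of order `p²` contains an elementary
abelian subgroup of order at least `p⁴`. -/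
theorem exists_big_EA {p : ℕ} [Fact p.Prime] {M U : Subgroup X} [Finite U] (hU : IsPGroup p U)
    (hM : M ≤ U) (hMc : Nat.card M ≤ p ^ 2) (hc : Nat.card U = Nat.card M * p ^ 3)
    (hcen : ∀ a ∈ U, ∀ m ∈ M, a * m = m * a)
    (hcomm : ∀ a ∈ U, ∀ b ∈ U, a * b * a⁻¹ * b⁻¹ ∈ M) (hpow : ∀ a ∈ U, a ^ p = 1) :
    ∃ B ≤ U, EA p B ∧ Nat.card M * p ^ 2 ≤ Nat.card B := by
  have hpp : p.Prime := Fact.out
  have hfM : Finite M := Finite.of_injective _ (inclusion_injective hM)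
  have hMp := hU.to_le hM
  have hEM : EA p M := ⟨fun a ha b hb => hcen a (hM ha) b hb, fun a ha => hpow a (hM ha)⟩
  -- a subgroup of index at most `p`
  obtain ⟨M₀, h0, hc0, hcp⟩ : ∃ M₀ ≤ M, Nat.card M ≤ Nat.card M₀ * p ∧ Nat.card M₀ ≤ p := by
    obtain ⟨n, hn⟩ := IsPGroup.iff_card.1 hMp
    by_cases h1 : n ≤ 1
    · refine ⟨M, le_rfl, by nlinarith [hpp.two_le, Nat.card_pos (α := M)], ?_⟩
      rw [hn]
      calc p ^ n ≤ p ^ 1 := Nat.pow_le_pow_right hpp.pos h1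
        _ = p := pow_one p
    · have h2 : n = 2 := by
        rw [hn] at hMc
        have := (Nat.pow_le_pow_iff_right hpp.one_lt).1 hMc
        omega
      obtain ⟨z, hz⟩ := exists_prime_orderOf_dvd_card' (G := M) p (by rw [hn, h2]; exact dvd_pow_self p (by norm_num))
      refine ⟨zpowers (z : X), by rw [zpowers_le]; exact z.2, ?_, ?_⟩
      · rw [Nat.card_zpowers, Subgroup.orderOf_coe, hz, hn, h2, pow_two]
      · rw [Nat.card_zpowers, Subgroup.orderOf_coe, hz]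
  have n0 : U ≤ normalizer (M₀ : Set X) := le_norm_of fun x hx a ha => by
    rw [hcen x hx a (h0 ha), mul_inv_cancel_right]; exact ha
  have nM : U ≤ normalizer (M : Set X) := le_norm_of fun x hx a ha => by
    rw [hcen x hx a ha, mul_inv_cancel_right]; exact ha
  obtain ⟨x, hxU, hxM, hxc⟩ := exists_rad hU h0 hM hc0 hc n0 nM hcomm (fun a ha m hm => by
    rw [hcen a ha m hm]; have : m * a * a⁻¹ * m⁻¹ = 1 := by group
    rw [this]; exact one_mem _) (fun a ha => by rw [hpow a ha]; exact one_mem _)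
  have hfM0 : Finite M₀ := Finite.of_injective _ (inclusion_injective h0)
  -- the centralizer of `x`
  have h1 : Nat.card U ≤ Nat.card (U ⊓ sc x ⊥ : Subgroup X) * p :=
    card_le_sc (norm_bot U) hxc bot_le (by rw [card_bot, one_mul]; exact hcp)
  have hle : M ⊔ zpowers x ≤ U := sup_zpowers_le.2 ⟨hM, hxU⟩
  have h2 : Nat.card (M ⊔ zpowers x : Subgroup X) ≤ Nat.card M * p :=
    card_sup_zpowers_le (nM hxU) (by rw [hpow x hxU]; exact one_mem _)
  obtain ⟨v, ⟨hvU, hvx⟩, hvM⟩ : ∃ v ∈ U ⊓ sc x ⊥, v ∉ M ⊔ zpowers x := by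
    by_contra hno
    push Not at hno
    have hf : Finite (M ⊔ zpowers x : Subgroup X) := Finite.of_injective _ (inclusion_injective hle)
    have h3 : Nat.card (U ⊓ sc x ⊥ : Subgroup X) ≤ Nat.card (M ⊔ zpowers x : Subgroup X) :=
      Nat.card_le_card_of_injective _ (inclusion_injective hno)
    have h4 : Nat.card M * p ^ 3 ≤ Nat.card M * p ^ 2 := by
      calc Nat.card M * p ^ 3 = Nat.card U := hc.symm
        _ ≤ Nat.card (U ⊓ sc x ⊥ : Subgroup X) * p := h1
        _ ≤ Nat.card M * p * p := Nat.mul_le_mul_right _ (h3.trans h2)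
        _ = Nat.card M * p ^ 2 := by ring
    have h5 := Nat.le_of_mul_le_mul_left h4 Nat.card_pos
    exact absurd h5 (not_le.2 (Nat.pow_lt_pow_right hpp.one_lt (by norm_num)))
  have hxv : x * v = v * x := by
    have := hvx.2
    rw [mem_bot, mul_inv_eq_one, mul_inv_eq_iff_eq_mul] at this
    exact this
  have hEx : EA p (M ⊔ zpowers x) := hEM.sup_zpowers (hpow x hxU) fun a ha => (hcen x hxU a ha).symm
  refine ⟨M ⊔ zpowers x ⊔ zpowers v, sup_zpowers_le.2 ⟨hle, hvU⟩, hEx.sup_zpowers (hpow v hvU) ?_, ?_⟩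
  · intro a ha
    have : M ⊔ zpowers x ≤ centralizer {v} := by
      refine sup_zpowers_le.2 ⟨fun m hm => ?_, ?_⟩
      · rw [mem_centralizer_singleton_iff]; exact (hcen v hvU m hm).symm
      · rw [mem_centralizer_singleton_iff]; exact hxv
    have h6 := this ha
    rw [mem_centralizer_singleton_iff] at h6
    exact h6
  · have h3 := grow hU hM hxU hxM
    have h4 := grow hU hle hvU hvM
    calc Nat.card M * p ^ 2 = Nat.card M * p * p := by ring
      _ ≤ Nat.card (M ⊔ zpowers x : Subgroup X) * p := Nat.mul_le_mul_right _ h3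
      _ ≤ _ := h4

end Cfsg.Agent.H765
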