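import Cfsg.Agent.H765.Beta

/-!
# Lemma U and Lemma β (helper765)
-/

set_option autoImplicit false
set_option linter.unusedSectionVars false
set_option linter.unusedSimpArgs false
set_option linter.unusedVariables false

namespace Cfsg.Agent.H765

open Module Subgroup

universe u

variable {X : Type u} [Group X]

/-- A `p`-group acts trivially on an invariant section of order at most `p`. -/
theorem N_le_cs {p : ℕ} [Fact p.Prime] [Finite X] {N R₁ R₂ : Subgroup X} (hN : IsPGroup p N) (h21 : R₂ ≤ R₁)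
    (h12 : R₁ ≤ normalizer (R₂ : Set X)) (h1 : N ≤ normalizer (R₁ : Set X)) (h2 : N ≤ normalizer (R₂ : Set X))
    (hR : IsPGroup p R₁) (hcard : R₂.relIndex R₁ ≤ p) : N ≤ cs R₁ R₂ := by
  intro n hn
  obtain ⟨k, hk⟩ := hN ⟨n, hn⟩
  have hk' : n ^ p ^ k = 1 := congrArg Subtype.val hk
  refine mem_cs_of_card h21 h12 (h1 hn) (h2 hn) hR hcard (k := k) ?_
  rw [hk']
  exact one_mem _

/-- Conjugates of `A` when `E` is trivial on `A / M`. -/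
theorem Lc_cs {H E A M : Subgroup X} (hE : H ≤ normalizer (E : Set X)) (nM : H ≤ normalizer (M : Set X))
    (hEH : E ≤ H) (hAn : A ≤ normalizer (M : Set X)) (h : E ≤ cs A M) : E ≤ cs (Lc A H) M := by
  intro e he
  refine mem_cs_of_le_sc (nM (hEH he)) ?_
  rw [Lc_le]
  intro x hx a ha
  have h1 : a ∈ sc (x⁻¹ * e * x⁻¹⁻¹) M := by
    have h2 := h (conj_mem_of_norm (hE (inv_mem hx)) he)
    exact ⟨hAn ha, h2.2 a ha⟩
  refine ⟨?_, ?_⟩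
  · have h3 := mul_mem (mul_mem (nM hx) (hAn ha)) (inv_mem (nM hx))
    exact h3
  · have h3 := conj_mem_of_norm (nM hx) h1.2
    have e : x * (x⁻¹ * e * x⁻¹⁻¹ * a * (x⁻¹ * e * x⁻¹⁻¹)⁻¹ * a⁻¹) * x⁻¹ =
      e * (x * a * x⁻¹) * e⁻¹ * (x * a * x⁻¹)⁻¹ := by group
    rwa [e] at h3

/-- Exponent `p` in class 2. -/
theorem pow_eq_one_of_gen {p : ℕ} [hp : Fact p.Prime] (hp2 : p ≠ 2) {E H A M : Subgroup X}
    (hEA : Lc A H ≤ E) (hcs : E ≤ cs (Lc A H) M) (cen : ∀ m ∈ M, ∀ e ∈ E, e * m = m * e)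
    (hMp : ∀ m ∈ M, m ^ p = 1) (hA : ∀ a ∈ A, a ^ p = 1) : ∀ u ∈ Lc A H, u ^ p = 1 := by
  let T : Subgroup X :=
    { carrier := {u | u ∈ Lc A H ∧ u ^ p = 1}
      one_mem' := ⟨one_mem _, one_pow p⟩
      mul_mem' := by
        rintro a b ⟨ha, ha'⟩ ⟨hb, hb'⟩
        refine ⟨mul_mem ha hb, ?_⟩
        have h1 : (b⁻¹ * a⁻¹ * b⁻¹⁻¹ * a⁻¹⁻¹) ∈ M := (hcs (hEA (inv_mem hb))).2 _ (inv_mem ha)
        rw [Cfsg.Agent.Transfer.PGroupNormal.mul_pow_prime hp.out hp2 (c := b⁻¹ * a⁻¹ * b⁻¹⁻¹ * a⁻¹⁻¹)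
          (by group) (cen _ h1 a (hEA ha)).symm (cen _ h1 b (hEA hb)).symm (hMp _ h1), ha', hb', one_mul]
      inv_mem' := by
        rintro a ⟨ha, ha'⟩
        exact ⟨inv_mem ha, by rw [inv_pow, ha', inv_one]⟩ }
  have h1 : Lc A H ≤ T := by
    rw [Lc_le]
    intro x hx a ha
    refine ⟨conj_mem_Lc hx ha, ?_⟩
    rw [conj_pow, hA a ha]
    group
  exact fun u hu => (h1 hu).2

namespace Par

variable {p : ℕ} [Fact p.Prime] [Finite X] {N E H H0 : Subgroup X} (h : Par p N E H H0)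

include h

/-- **Lemma U**. -/
theorem lemU (hp2 : p ≠ 2) (hr : SR p N) {M A : Subgroup X} (c : CM p N E H M) (hM2 : Nat.card M = p ^ 2)
    (hMA : M ≤ A) (hAE : A ≤ E) (hA : EA p A) (hAc : Nat.card A = p ^ 3) (nA : N ≤ normalizer (A : Set X)) :
    H ≤ normalizer (A : Set X) := by
  have hpp : p.Prime := Fact.out
  by_contra hno
  have hEp := h.pE
  have hAU : A ≤ Lc A H := le_Lc A H
  have hUE : Lc A H ≤ E := Lc_le.2 fun x hx a ha => conj_mem_of_norm (h.HE hx) (hAE ha)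
  have nU : H ≤ normalizer (Lc A H : Set X) := norm_Lc A H
  have hUp : IsPGroup p (Lc A H) := hEp.to_le hUE
  have hUN : Lc A H ≤ N := hUE.trans h.EN
  have hAnM : A ≤ normalizer (M : Set X) := (hAE.trans h.EH).trans c.nM
  have hMA' : M.relIndex A ≤ p := relIndex_le_of_card hMA (by rw [hAc, hM2]; exact (by ring : p ^ 3 = p * p ^ 2).le)
  have hNA : N ≤ cs A M := N_le_cs h.pN hMA hAnM nA (h.NH.trans c.nM) (hEp.to_le hAE) hMA'
  have hEU : E ≤ cs (Lc A H) M := Lc_cs h.HE c.nM h.EH hAnM (h.EN.trans hNA)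
  have hUexp : ∀ u ∈ Lc A H, u ^ p = 1 := pow_eq_one_of_gen hp2 hUE hEU c.cen c.pow hA.pow
  have hUcomm : ∀ a ∈ Lc A H, ∀ b ∈ Lc A H, a * b * a⁻¹ * b⁻¹ ∈ M := fun a ha b hb =>
    (hEU (hUE ha)).2 b hb
  have hcen : ∀ a ∈ Lc A H, ∀ m ∈ M, a * m = m * a := fun a ha m hm => c.cen m hm a (hUE ha)
  have hMU : M ≤ Lc A H := hMA.trans hAU
  have hU3 : Nat.card (Lc A H) ≤ p ^ 2 * p ^ 3 := by
    have := hr.card hMU hUN hUcomm (fun a ha => by rw [hUexp a ha]; exact one_mem _)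
    rwa [hM2] at this
  -- `U` is not abelian
  by_cases hab : ∀ a ∈ Lc A H, ∀ b ∈ Lc A H, a * b = b * a
  · have h1 : Nat.card (Lc A H) ≤ p ^ 3 := hr.card_EA hUN ⟨hab, hUexp⟩
    have h2 : A = Lc A H := Subgroup.eq_of_le_of_card_ge hAU (by rw [hAc]; exact h1)
    apply hno
    rw [h2]
    exact nU
  push Not at hab
  obtain ⟨a₀, ha₀, b₀, hb₀, hab₀⟩ := hab
  -- the commutator subgroup is `M`
  obtain ⟨D, hD⟩ : ∃ D, D = closure {x | ∃ a ∈ Lc A H, ∃ b ∈ Lc A H, x = a * b * a⁻¹ * b⁻¹} := ⟨_, rfl⟩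
  have hDle : ∀ K : Subgroup X, D ≤ K ↔ ∀ a ∈ Lc A H, ∀ b ∈ Lc A H, a * b * a⁻¹ * b⁻¹ ∈ K := by
    intro K
    rw [hD, closure_le]
    constructor
    · intro h1 a ha b hb
      exact h1 ⟨a, ha, b, hb, rfl⟩
    · rintro h1 _ ⟨a, ha, b, hb, rfl⟩
      exact h1 a ha b hb
  have hDM : D = M := by
    have nD : H ≤ normalizer (D : Set X) := by
      refine le_norm_of fun x hx a ha => ?_
      have h1 : D ≤ D.comap (MulAut.conj x).toMonoidHom := by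
        rw [hDle]
        intro a ha b hb
        rw [mem_comap]
        show x * (a * b * a⁻¹ * b⁻¹) * x⁻¹ ∈ D
        have h2 := (hDle D).1 le_rfl _ (conj_mem_of_norm (nU hx) ha) _ (conj_mem_of_norm (nU hx) hb)
        have e : x * a * x⁻¹ * (x * b * x⁻¹) * (x * a * x⁻¹)⁻¹ * (x * b * x⁻¹)⁻¹ =
          x * (a * b * a⁻¹ * b⁻¹) * x⁻¹ := by group
        rwa [e] at h2
      exact h1 ha
    rcases irr2 h.pN h.NH c.sct (hEp.to_le c.ME) (by rw [relIndex_bot_left]; exact hM2) c.npt bot_le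
      ((hDle M).2 hUcomm) (h.LH.trans nD) with h1 | h1
    · exfalso
      apply hab₀
      have h2 := (hDle D).1 le_rfl a₀ ha₀ b₀ hb₀
      rw [h1, mem_bot, mul_inv_eq_one, mul_inv_eq_iff_eq_mul] at h2
      exact h2
    · exact h1
  obtain ⟨n, hn⟩ := IsPGroup.iff_card.1 hUp
  have hn5 : n ≤ 5 := by
    rw [hn, ← pow_add] at hU3
    exact (Nat.pow_le_pow_iff_right hpp.one_lt).1 hU3
  by_cases hn' : n = 5
  · obtain ⟨B, hBU, hB, hBc⟩ := exists_big_EA hUp hMU hM2.le (by rw [hn, hM2, hn', ← pow_add]) hcen hUcomm hUexp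
    have h1 := hr.card_EA (hBU.trans hUN) hB
    have h2 := hBc.trans h1
    rw [hM2, ← pow_add] at h2
    exact absurd ((Nat.pow_le_pow_iff_right hpp.one_lt).1 h2) (by norm_num)
  -- `|U| ≤ p⁴`
  have hn4 : n ≤ 4 := by omega
  have nM : Lc A H ≤ normalizer (M : Set X) := (hUE.trans h.EH).trans c.nM
  have ha₀M : a₀ ∉ M := fun h1 => hab₀ (hcen b₀ hb₀ a₀ h1).symm
  have hEx : EA p (M ⊔ zpowers a₀) := by
    refine EA.sup_zpowers ⟨fun a ha b hb => hcen a (hMU ha) b hb, c.pow⟩ (hUexp a₀ ha₀) fun a ha => ?_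
    exact (hcen a₀ ha₀ a ha).symm
  have hb₀M : b₀ ∉ M ⊔ zpowers a₀ := fun h1 => hab₀ (hEx.comm _ (mem_sup_zpowers M a₀) _ h1)
  have hle1 : M ⊔ zpowers a₀ ≤ Lc A H := sup_zpowers_le.2 ⟨hMU, ha₀⟩
  have h1 := grow hUp hMU ha₀ ha₀M
  have h2 := grow hUp hle1 hb₀ hb₀M
  have hU : M ⊔ zpowers a₀ ⊔ zpowers b₀ = Lc A H := by
    refine Subgroup.eq_of_le_of_card_ge (sup_zpowers_le.2 ⟨hle1, hb₀⟩) ?_
    rw [hn]
    calc p ^ n ≤ p ^ 4 := Nat.pow_le_pow_right hpp.pos hn4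
      _ = Nat.card M * p * p := by rw [hM2]; ring
      _ ≤ Nat.card (M ⊔ zpowers a₀ : Subgroup X) * p := Nat.mul_le_mul_right _ h1
      _ ≤ _ := h2
  obtain ⟨M₀, hM₀⟩ : ∃ M₀, M₀ = zpowers (a₀ * b₀ * a₀⁻¹ * b₀⁻¹) := ⟨_, rfl⟩
  have hM₀M : M₀ ≤ M := by rw [hM₀, zpowers_le]; exact hUcomm a₀ ha₀ b₀ hb₀
  have n0 : Lc A H ≤ normalizer (M₀ : Set X) := le_norm_of fun x hx a ha => by
    rw [hcen x hx a (hM₀M ha), mul_inv_cancel_right]; exact ha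
  have hscM : ∀ x ∈ Lc A H, M ≤ sc x M₀ := fun x hx m hm => ⟨n0 (hMU hm), by
    rw [hcen x hx m hm]; have : m * x * x⁻¹ * m⁻¹ = 1 := by group
    rw [this]; exact one_mem _⟩
  have hself : ∀ x ∈ Lc A H, x ∈ sc x M₀ := fun x hx => ⟨n0 hx, by
    have : x * x * x⁻¹ * x⁻¹ = 1 := by group
    rw [this]; exact one_mem _⟩
  have hsymm : ∀ x ∈ Lc A H, ∀ y ∈ Lc A H, x ∈ sc y M₀ → y ∈ sc x M₀ := by
    rintro x hx y hy ⟨-, h2⟩
    refine ⟨n0 hy, ?_⟩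
    have := inv_mem h2
    have e : (y * x * y⁻¹ * x⁻¹)⁻¹ = x * y * x⁻¹ * y⁻¹ := by group
    rwa [e] at this
  have hb₀a : b₀ ∈ sc a₀ M₀ := ⟨n0 hb₀, by rw [hM₀]; exact mem_zpowers _⟩
  have key1 : Lc A H ≤ sc a₀ M₀ := by
    rw [← hU]
    exact sup_zpowers_le.2 ⟨sup_zpowers_le.2 ⟨hscM a₀ ha₀, hself a₀ ha₀⟩, hb₀a⟩
  have key2 : Lc A H ≤ sc b₀ M₀ := by
    rw [← hU]
    exact sup_zpowers_le.2 ⟨sup_zpowers_le.2 ⟨hscM b₀ hb₀, hsymm _ hb₀ _ ha₀ hb₀a⟩, hself b₀ hb₀⟩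
  have key3 : ∀ x ∈ Lc A H, Lc A H ≤ sc x M₀ := by
    intro x hx
    conv_lhs => rw [← hU]
    exact sup_zpowers_le.2 ⟨sup_zpowers_le.2 ⟨hscM x hx, hsymm _ hx _ ha₀ (key1 hx)⟩,
      hsymm _ hx _ hb₀ (key2 hx)⟩
  have h3 : M ≤ M₀ := by
    rw [← hDM, hDle]
    exact fun a ha b hb => (key3 a ha hb).2
  have h4 : Nat.card M ≤ Nat.card M₀ := Nat.card_le_card_of_injective _ (inclusion_injective h3)
  rw [hM2, hM₀, Nat.card_zpowers] at h4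
  have h5 : orderOf (a₀ * b₀ * a₀⁻¹ * b₀⁻¹) ≤ p :=
    orderOf_le_of_pow_eq_one hpp.pos (c.pow _ (hUcomm a₀ ha₀ b₀ hb₀))
  nlinarith [hpp.two_le, h4.trans h5]

end Par

/-- **Lemma β**. -/
theorem lemBeta {p : ℕ} [Fact p.Prime] [Finite X] (hp2 : p ≠ 2) {N E₁ H₁ E₂ H₂ H0 H0' M₁ M₂ : Subgroup X}
    (h₁ : Par p N E₁ H₁ H0) (h₂ : Par p N E₂ H₂ H0') (hr : SR p N) (hne : E₁ ≠ E₂) (c₁ : CM p N E₁ H₁ M₁)
    (c₂ : CM p N E₂ H₂ M₂) : ¬ M₁ ≤ E₂ := by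
  have hpp : p.Prime := Fact.out
  intro hM12
  have hMcomm : ∀ a ∈ M₁, ∀ b ∈ M₂, a * b = b * a := fun a ha b hb => c₂.cen b hb a (hM12 ha)
  have hM21 : M₂ ≤ E₁ := fun b hb => c₁.mem_E h₁ (h₂.EN (c₂.ME hb)) (mem_cs_bot.2 fun a ha => (hMcomm a ha b hb).symm)
  have eq_of_le : ¬ E₁ ≤ E₂ := by
    intro hle
    apply hne
    have h1 := card_mul_relIndex' h₁.EN
    have h2 := card_mul_relIndex' h₂.EN
    rw [h₁.ix] at h1
    rw [h₂.ix, ← h1] at h2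
    exact Subgroup.eq_of_le_of_card_ge hle (Nat.eq_of_mul_eq_mul_right hpp.pos h2).le
  have hE1 : EA p M₁ := ⟨fun a ha b hb => c₁.cen b hb a (c₁.ME ha), c₁.pow⟩
  have hE2 : EA p M₂ := ⟨fun a ha b hb => c₂.cen b hb a (c₂.ME ha), c₂.pow⟩
  have hA : EA p (M₁ ⊔ M₂) := hE1.sup hE2 hMcomm
  have hAN : M₁ ⊔ M₂ ≤ N := sup_le (c₁.ME.trans h₁.EN) (c₂.ME.trans h₂.EN)
  have hA1 : M₁ ⊔ M₂ ≤ E₁ := sup_le c₁.ME hM21
  have hA2 : M₁ ⊔ M₂ ≤ E₂ := sup_le hM12 c₂.ME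
  have hAp : IsPGroup p (M₁ ⊔ M₂ : Subgroup X) := h₁.pN.to_le hAN
  have hc3 : Nat.card (M₁ ⊔ M₂ : Subgroup X) ≤ p ^ 3 := hr.card_EA hAN hA
  have h21 : ¬ M₂ ≤ M₁ := by
    intro hle
    apply eq_of_le
    intro e he
    exact c₂.mem_E h₂ (h₁.EN he) (mem_cs_bot.2 fun m hm => c₁.cen m (hle hm) e he)
  have h12 : ¬ M₁ ≤ M₂ := by
    intro hle
    have h3 : E₂ ≤ E₁ := fun e he => c₁.mem_E h₁ (h₂.EN he) (mem_cs_bot.2 fun m hm => c₂.cen m (hle hm) e he)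
    apply hne
    have h1 := card_mul_relIndex' h₁.EN
    have h2 := card_mul_relIndex' h₂.EN
    rw [h₁.ix] at h1
    rw [h₂.ix, ← h1] at h2
    exact (Subgroup.eq_of_le_of_card_ge h3 (Nat.eq_of_mul_eq_mul_right hpp.pos h2).ge).symm
  have g1 := card_mul_p_le hAp (le_sup_left : M₁ ≤ M₁ ⊔ M₂) (fun h => h21 (le_sup_right.trans h))
  have g2 := card_mul_p_le hAp (le_sup_right : M₂ ≤ M₁ ⊔ M₂) (fun h => h12 (le_sup_left.trans h))
  have hcard : ∀ {n : ℕ}, n = p ^ 2 ∨ n = p ^ 3 → n * p ≤ p ^ 3 → n = p ^ 2 := by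
    rintro n (h | h) h'
    · exact h
    · rw [h, ← pow_succ] at h'
      exact absurd ((Nat.pow_le_pow_iff_right hpp.one_lt).1 h') (by norm_num)
  have m1 := hcard (c₁.card_eq h₁ hr) (g1.trans hc3)
  have m2 := hcard (c₂.card_eq h₂ hr) (g2.trans hc3)
  have hAc : Nat.card (M₁ ⊔ M₂ : Subgroup X) = p ^ 3 := by
    refine le_antisymm hc3 ?_
    rw [m1] at g1
    calc p ^ 3 = p ^ 2 * p := by ring
      _ ≤ _ := g1
  have nA : N ≤ normalizer ((M₁ ⊔ M₂ : Subgroup X) : Set X) :=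
    norm_sup (h₁.NH.trans c₁.nM) (h₂.NH.trans c₂.nM)
  have n1 := h₁.lemU hp2 hr c₁ m1 le_sup_left hA1 hA hAc nA
  have n2 := h₂.lemU hp2 hr c₂ m2 le_sup_right hA2 hA hAc nA
  have hcap : ∀ x ∈ E₁ ⊓ E₂, x ∈ cs (M₁ ⊔ M₂) ⊥ := by
    rintro x ⟨hx1, hx2⟩
    have : M₁ ⊔ M₂ ≤ centralizer {x} := sup_le
      (fun m hm => by rw [mem_centralizer_singleton_iff]; exact (c₁.cen m hm x hx1).symm)
      (fun m hm => by rw [mem_centralizer_singleton_iff]; exact (c₂.cen m hm x hx2).symm)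
    refine mem_cs_bot.2 fun r hr => ?_
    have := this hr
    rw [mem_centralizer_singleton_iff] at this
    exact this.symm
  -- `E₁` and `E₂` centralize `A`
  have key : ∀ {E H H0 M : Subgroup X} (h : Par p N E H H0) (c : CM p N E H M) (hMA : M ≤ M₁ ⊔ M₂)
      (hAE : M₁ ⊔ M₂ ≤ E) (nH : H ≤ normalizer ((M₁ ⊔ M₂ : Subgroup X) : Set X)) {E' : Subgroup X}
      (hE' : E'.relIndex N = p) (hcap' : ∀ x ∈ E ⊓ E', x ∈ cs (M₁ ⊔ M₂) ⊥), E ≤ cs (M₁ ⊔ M₂) ⊥ := by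
    intro E H H0 M h c hMA hAE nH E' hE' hcap'
    by_contra hno
    have hs : Sct p H (M₁ ⊔ M₂) ⊥ := ⟨bot_le, nH, norm_bot H, norm_bot _,
      fun a ha b hb => by rw [mem_bot, hA.comm a ha b hb]; group, fun a ha => by rw [mem_bot]; exact hA.pow a ha⟩
    have hnpt : ¬ PT p (Lc N H) (M₁ ⊔ M₂) ⊥ := fun hpt => c.npt (hpt.section hMA le_rfl (norm_bot _))
    refine h.not_pt_E hs hAE (by rw [relIndex_bot_left, hAc]) hnpt hno ?_
    refine PT.of_cs (Lc_le_cs h.pN inf_le_left ?_ (h.LH.trans h.HE)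
      (h.LH.trans (norm_inf h.HE (norm_cs nH (norm_bot H)))) h.pE ?_)
    · exact norm_inf (norm_self E) ((h.EH.trans (norm_cs nH (norm_bot H))))
    · have h1 : E ⊓ E' ≤ E ⊓ cs (M₁ ⊔ M₂) ⊥ := le_inf inf_le_left hcap'
      have h2 : (E ⊓ E').relIndex E ≤ p := by
        rw [inf_relIndex_left]
        calc E'.relIndex E ≤ E'.relIndex N := relIndex_le_of_le_right h.EN (by rw [hE']; exact hpp.ne_zero)
          _ = p := hE'
      exact (relIndex_le_of_le_left h1 (Subgroup.index_ne_zero_of_finite (H := (E ⊓ E').subgroupOf E))).trans h2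
  have k1 := key h₁ c₁ le_sup_left hA1 n1 h₂.ix hcap
  have k2 := key h₂ c₂ le_sup_right hA2 n2 h₁.ix (fun x hx => hcap x ⟨hx.2, hx.1⟩)
  obtain ⟨y, hy, hyE⟩ : ∃ y ∈ E₂, y ∉ E₁ := by
    by_contra hno
    push Not at hno
    apply hne
    have h1 := card_mul_relIndex' h₁.EN
    have h2 := card_mul_relIndex' h₂.EN
    rw [h₁.ix] at h1
    rw [h₂.ix, ← h1] at h2
    exact (Subgroup.eq_of_le_of_card_ge hno (Nat.eq_of_mul_eq_mul_right hpp.pos h2).ge).symm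
  exact hyE (c₁.mem_E h₁ (h₂.EN hy) (mem_cs_bot.2 fun m hm => mem_cs_bot.1 (k2 hy) m (mem_sup_left hm)))

end Cfsg.Agent.H765
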