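import Cfsg.Agent.H765.Beta2

/-!
# The case of two moved centres (helper765)
-/

set_option autoImplicit false
set_option linter.unusedSectionVars false
set_option linter.unusedSimpArgs false
set_option linter.unusedVariables false

namespace Cfsg.Agent.H765

open Module Subgroup

universe u

variable {X : Type u} [Group X]

/-- `Ω₁(Z(N))`. -/
def Om (p : ℕ) (N : Subgroup X) : Subgroup X where
  carrier := {z | z ∈ N ∧ z ^ p = 1 ∧ ∀ n ∈ N, n * z = z * n}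
  one_mem' := ⟨one_mem _, one_pow p, fun n _ => by simp⟩
  mul_mem' := by
    rintro a b ⟨ha, ha', ha''⟩ ⟨hb, hb', hb''⟩
    have e : Commute a b := hb'' a ha
    refine ⟨mul_mem ha hb, by rw [e.mul_pow, ha', hb', one_mul], fun n hn => ?_⟩
    rw [← mul_assoc, ha'' n hn, mul_assoc, hb'' n hn, mul_assoc]
  inv_mem' := by
    rintro a ⟨ha, ha', ha''⟩
    refine ⟨inv_mem ha, by rw [inv_pow, ha', inv_one], fun n hn => ?_⟩
    have e : Commute n a := ha'' n hn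
    exact e.inv_right.eq

theorem Om_le (p : ℕ) (N : Subgroup X) : Om p N ≤ N := fun _ h => h.1

theorem Om_norm {p : ℕ} {N H : Subgroup X} (h : H ≤ normalizer (N : Set X)) :
    H ≤ normalizer (Om p N : Set X) := by
  refine le_norm_of ?_
  rintro x hx a ⟨ha, ha', ha''⟩
  refine ⟨conj_mem_of_norm (h hx) ha, by rw [conj_pow, ha']; group, fun n hn => ?_⟩
  have h1 := ha'' _ (conj_mem_of_norm (inv_mem (h hx)) hn)
  have e1 : n * (x * a * x⁻¹) = x * (x⁻¹ * n * x⁻¹⁻¹ * a) * x⁻¹ := by group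
  rw [e1, h1]
  group

theorem N_cs_Om (p : ℕ) (N : Subgroup X) : N ≤ cs (Om p N) ⊥ := fun n hn => mem_cs_bot.2 fun r hr => hr.2.2 n hn

theorem Om_ne_bot {p : ℕ} [Fact p.Prime] [Finite X] {N : Subgroup X} (hN : IsPGroup p N) (hne : N ≠ ⊥) :
    Om p N ≠ ⊥ := by
  obtain ⟨x, hx, hx1, hxp, hxN⟩ := exists_mod_in hN (le_refl N) bot_le (fun h => hne (le_bot_iff.1 h)) (norm_bot N)
    (norm_self N)
  intro h0
  apply hx1
  rw [← h0]
  refine ⟨hx, by simpa using hxp, fun n hn => ?_⟩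
  have := hxN n hn
  rw [mem_bot, mul_inv_eq_one, mul_inv_eq_iff_eq_mul] at this
  exact this

namespace Par

variable {p : ℕ} [Fact p.Prime] [Finite X] {N E H H0 : Subgroup X} (h : Par p N E H H0)

include h

theorem mem_of_commute (hE : ¬ PT p (Lc N H) E ⊥) {n : X} (hn : n ∈ N) (hc : ∀ e ∈ E, n * e = e * n) : n ∈ E :=
  h.not_mem_of_not_pt h.HE (norm_bot H) hE hn (mem_cs_bot.2 hc)

theorem Om_le_E (hE : ¬ PT p (Lc N H) E ⊥) : Om p N ≤ E := fun _ hz =>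
  h.mem_of_commute hE hz.1 fun e he => (hz.2.2 e (h.EN he)).symm

theorem cm_Om (hE : ¬ PT p (Lc N H) E ⊥) (hZ : ¬ H ≤ normalizer (Om p N : Set X)) :
    CM p N E H (Lc (Om p N) H) := by
  have hOE := h.Om_le_E hE
  have hME : Lc (Om p N) H ≤ E := Lc_le.2 fun x hx a ha => conj_mem_of_norm (h.HE hx) (hOE ha)
  have hcen : ∀ m ∈ Lc (Om p N) H, ∀ e ∈ E, e * m = m * e := by
    have h1 : Lc (Om p N) H ≤ centralizer (E : Set X) := by
      rw [Lc_le]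
      intro x hx a ha
      refine conj_mem_of_norm (norm_centralizer h.HE hx) ?_
      rw [mem_centralizer_iff]
      exact fun e he => ha.2.2 e (h.EN he)
    intro m hm e he
    exact mem_centralizer_iff.1 (h1 hm) e he
  have nM := norm_Lc (Om p N) H
  refine ⟨hME, hcen, ?_, nM, ?_⟩
  · let T : Subgroup X :=
      { carrier := {u | u ∈ Lc (Om p N) H ∧ u ^ p = 1}
        one_mem' := ⟨one_mem _, one_pow p⟩
        mul_mem' := by
          rintro a b ⟨ha, ha'⟩ ⟨hb, hb'⟩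
          have e : Commute a b := hcen b hb a (hME ha)
          exact ⟨mul_mem ha hb, by rw [e.mul_pow, ha', hb', one_mul]⟩
        inv_mem' := by
          rintro a ⟨ha, ha'⟩
          exact ⟨inv_mem ha, by rw [inv_pow, ha', inv_one]⟩ }
    have h1 : Lc (Om p N) H ≤ T := by
      rw [Lc_le]
      intro x hx a ha
      refine ⟨conj_mem_Lc hx ha, ?_⟩
      rw [conj_pow, ha.2.1]
      group
    exact fun u hu => (h1 hu).2
  · intro hpt
    apply hZ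
    have nO := Om_norm (p := p) h.H0N
    exact h.le_norm_of_pt hME bot_le nM (norm_bot H) hpt bot_le (le_Lc _ _) (Om_norm (norm_self N))
      (inf_le_right.trans nO)

/-- A hyperplane centralized by `N`. -/
theorem exists_Z' {R₁ R₂ C : Subgroup X} (hs : Sct p H R₁ R₂) (hRE : R₁ ≤ E) (hE : E ≤ cs R₁ R₂)
    (hnpt : ¬ PT p (Lc N H) R₁ R₂) (hC2 : R₂ ≤ C) (hC1 : C ≤ R₁) (hCc : C.relIndex R₁ ≤ p) (hNC : N ≤ cs C R₂) :
    ∃ Z, R₂ ≤ Z ∧ Z ≤ R₁ ∧ R₂.relIndex Z = p ∧ N ≤ cs R₁ Z := by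
  have hpp : p.Prime := Fact.out
  obtain ⟨y, hy, hyE⟩ := h.exists_y
  have hyH : y ∈ H := h.NH hy
  obtain ⟨V, i1, i2, ⟨s⟩⟩ := hs.exists_rep
  have hfin : Module.Finite (ZMod p) V := s.finite
  have hρ1 : ∀ x : H, (x : X) ∈ cs R₁ R₂ ↔ s.ρ x = 1 := fun x => s.mem_cs_iff hs.n1 hs.n2 x
  obtain ⟨φ, hφ⟩ : ∃ φ : V →ₗ[ZMod p] V, ∀ v, φ v = s.ρ ⟨y, hyH⟩ v - v :=
    ⟨(s.ρ ⟨y, hyH⟩ : V ≃ₗ[ZMod p] V).toLinearMap - LinearMap.id, fun v => rfl⟩
  have hφπ : ∀ r (hr : r ∈ R₁), φ (s.π r) = s.π (y * r * y⁻¹ * r⁻¹) := by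
    intro r hr
    rw [hφ, s.act _ r hr, s.add _ (conj_mem_of_norm (hs.n1 hyH) hr) _ (inv_mem hr), s.inv hr, sub_eq_add_neg]
  have hker : s.push C hC1 ≤ LinearMap.ker φ := by
    rintro _ ⟨c, hc, rfl⟩
    rw [LinearMap.mem_ker, hφπ c (hC1 hc)]
    exact (s.zero _ (mul_mem (conj_mem_of_norm (hs.n1 hyH) (hC1 hc)) (inv_mem (hC1 hc)))).2 ((hNC hy).2 c hc)
  have hφ0 : φ ≠ 0 := by
    intro h0
    apply hyE
    refine h.not_mem_of_not_pt hs.n1 hs.n2 hnpt hy ((hρ1 ⟨y, hyH⟩).2 ?_)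
    ext v
    have := hφ v
    rw [h0, LinearMap.zero_apply] at this
    exact sub_eq_zero.1 this.symm
  have hCr : finrank (ZMod p) V ≤ finrank (ZMod p) (s.push C hC1) + 1 := by
    have h1 := s.relIndex_pull_pull hs.le (le_top : s.push C hC1 ≤ ⊤)
    rw [s.pull_top, s.pull_push hC1 hC2, finrank_top] at h1
    rw [h1] at hCc
    have h2 : p ^ (finrank (ZMod p) V - finrank (ZMod p) (s.push C hC1)) ≤ p ^ 1 := by rw [pow_one]; exact hCc
    have h3 := (Nat.pow_le_pow_iff_right hpp.one_lt).1 h2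
    omega
  have hrn := LinearMap.finrank_range_add_finrank_ker φ
  have hkr := Submodule.finrank_mono hker
  have hr1 : 1 ≤ finrank (ZMod p) (LinearMap.range φ) := by
    rw [Submodule.one_le_finrank_iff, Ne, LinearMap.range_eq_bot]; exact hφ0
  have hr : finrank (ZMod p) (LinearMap.range φ) = 1 := by omega
  -- `E` and `y` normalize the range and act trivially modulo it
  have hEn : E ≤ normalizer (s.pull (LinearMap.range φ) : Set X) := by
    refine le_norm_of fun x hx a ha => ?_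
    have h1 := (hE hx).2 a ha.1
    have e : x * a * x⁻¹ = x * a * x⁻¹ * a⁻¹ * a := by group
    rw [e]
    exact mul_mem (s.le_pull hs.le _ h1) ha
  have hyn : y ∈ normalizer (s.pull (LinearMap.range φ) : Set X) := by
    have h1 : zpowers y ≤ normalizer (s.pull (LinearMap.range φ) : Set X) := by
      have hzy : zpowers y ≤ H := by rwa [zpowers_le]
      refine s.pull_norm' hzy hs.n1 ?_
      rintro _ ⟨k, rfl⟩ _ ⟨v, rfl⟩
      refine ⟨s.ρ ⟨y ^ k, hzy ⟨k, rfl⟩⟩ v, ?_⟩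
      rw [hφ, hφ, map_sub]
      congr 1
      have e1 : s.ρ ⟨y, hyH⟩ (s.ρ ⟨y ^ k, hzy ⟨k, rfl⟩⟩ v) = (s.ρ (⟨y, hyH⟩ * ⟨y ^ k, hzy ⟨k, rfl⟩⟩)) v := by
        rw [map_mul]; rfl
      have e2 : s.ρ ⟨y ^ k, hzy ⟨k, rfl⟩⟩ (s.ρ ⟨y, hyH⟩ v) = (s.ρ (⟨y ^ k, hzy ⟨k, rfl⟩⟩ * ⟨y, hyH⟩)) v := by
        rw [map_mul]; rfl
      have e3 : (⟨y, hyH⟩ * ⟨y ^ k, hzy ⟨k, rfl⟩⟩ : H) = ⟨y ^ k, hzy ⟨k, rfl⟩⟩ * ⟨y, hyH⟩ := by
        apply Subtype.ext
        show y * y ^ k = y ^ k * y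
        exact (Commute.self_zpow y k).eq
      rw [e1, e2, e3]
    exact h1 (mem_zpowers y)
  refine ⟨s.pull (LinearMap.range φ), s.le_pull hs.le _, s.pull_le _, ?_, ?_⟩
  · rw [s.relIndex_pull hs.le, hr, pow_one]
  · refine h.le_of_not_mem hy hyE (fun e he => cs_mono le_rfl (s.le_pull hs.le _) (hE he) (hEn he)) ⟨hyn, ?_⟩
    intro r hr
    refine ⟨mul_mem (conj_mem_of_norm (hs.n1 hyH) hr) (inv_mem hr), ?_⟩
    rw [← hφπ r hr]
    exact ⟨_, rfl⟩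

end Par

/-! ### The Frattini subgroup (as a subgroup of the ambient group) -/

/-- The subgroup generated by commutators and `p`-th powers. -/
def Fr (p : ℕ) (E : Subgroup X) : Subgroup X :=
  closure ({x | ∃ a ∈ E, ∃ b ∈ E, x = a * b * a⁻¹ * b⁻¹} ∪ {x | ∃ a ∈ E, x = a ^ p})

theorem Fr_le_iff {p : ℕ} {E K : Subgroup X} :
    Fr p E ≤ K ↔ (∀ a ∈ E, ∀ b ∈ E, a * b * a⁻¹ * b⁻¹ ∈ K) ∧ ∀ a ∈ E, a ^ p ∈ K := by
  rw [Fr, closure_le]
  constructor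
  · intro h
    exact ⟨fun a ha b hb => h (Or.inl ⟨a, ha, b, hb, rfl⟩), fun a ha => h (Or.inr ⟨a, ha, rfl⟩)⟩
  · rintro ⟨h1, h2⟩ x (⟨a, ha, b, hb, rfl⟩ | ⟨a, ha, rfl⟩)
    · exact h1 a ha b hb
    · exact h2 a ha

theorem comm_mem_Fr {p : ℕ} {E : Subgroup X} {a b : X} (ha : a ∈ E) (hb : b ∈ E) :
    a * b * a⁻¹ * b⁻¹ ∈ Fr p E := (Fr_le_iff.1 le_rfl).1 a ha b hb

theorem pow_mem_Fr {p : ℕ} {E : Subgroup X} {a : X} (ha : a ∈ E) : a ^ p ∈ Fr p E :=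
  (Fr_le_iff.1 le_rfl).2 a ha

theorem Fr_le (p : ℕ) (E : Subgroup X) : Fr p E ≤ E :=
  Fr_le_iff.2 ⟨fun a ha b hb => mul_mem (mul_mem (mul_mem ha hb) (inv_mem ha)) (inv_mem hb),
    fun a ha => pow_mem ha p⟩

theorem Fr_mono {p : ℕ} {A B : Subgroup X} (h : A ≤ B) : Fr p A ≤ Fr p B :=
  Fr_le_iff.2 ⟨fun a ha b hb => comm_mem_Fr (h ha) (h hb), fun a ha => pow_mem_Fr (h ha)⟩

theorem norm_Fr {p : ℕ} {H E : Subgroup X} (h : H ≤ normalizer (E : Set X)) : H ≤ normalizer (Fr p E : Set X) := by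
  refine le_norm_of fun x hx a ha => ?_
  have h1 : Fr p E ≤ (Fr p E).comap (MulAut.conj x).toMonoidHom := by
    rw [Fr_le_iff]
    constructor
    · intro a ha b hb
      rw [mem_comap]
      show x * (a * b * a⁻¹ * b⁻¹) * x⁻¹ ∈ Fr p E
      have h2 := comm_mem_Fr (p := p) (conj_mem_of_norm (h hx) ha) (conj_mem_of_norm (h hx) hb)
      have e : x * a * x⁻¹ * (x * b * x⁻¹) * (x * a * x⁻¹)⁻¹ * (x * b * x⁻¹)⁻¹ =
        x * (a * b * a⁻¹ * b⁻¹) * x⁻¹ := by group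
      rwa [e] at h2
    · intro a ha
      rw [mem_comap]
      show x * a ^ p * x⁻¹ ∈ Fr p E
      have h2 := pow_mem_Fr (p := p) (conj_mem_of_norm (h hx) ha)
      rwa [conj_pow] at h2
  exact h1 ha

theorem EA_of_Fr {p : ℕ} {E : Subgroup X} (h : Fr p E = ⊥) : EA p E := by
  constructor
  · intro a ha b hb
    have := comm_mem_Fr (p := p) ha hb
    rw [h, mem_bot, mul_inv_eq_one, mul_inv_eq_iff_eq_mul] at this
    exact this
  · intro a ha
    have := pow_mem_Fr (p := p) ha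
    rwa [h, mem_bot] at this

/-- Central exponent `p` factors do not contribute. -/
theorem Fr_eq_of_sup {p : ℕ} {E M C : Subgroup X} (hC : C ≤ E) (hEM : E ≤ M ⊔ C)
    (hcen : ∀ m ∈ M, ∀ e ∈ E, e * m = m * e) (hM : M ≤ E) (hMp : ∀ m ∈ M, m ^ p = 1) : Fr p E = Fr p C := by
  apply le_antisymm _ (Fr_mono hC)
  have hn : M ≤ normalizer (C : Set X) := le_norm_of fun x hx a ha => by
    rw [← hcen x hx a (hC ha), mul_inv_cancel_right]; exact ha
  rw [Fr_le_iff]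
  constructor
  · intro a ha b hb
    obtain ⟨m, hm, c, hc, rfl⟩ := (mem_sup_iff hn).1 (hEM ha)
    obtain ⟨m', hm', c', hc', rfl⟩ := (mem_sup_iff hn).1 (hEM hb)
    have e : m * c * (m' * c') * (m * c)⁻¹ * (m' * c')⁻¹ = c * c' * c⁻¹ * c'⁻¹ := by
      have e1 : ∀ x ∈ E, m * x = x * m := fun x hx => (hcen m hm x hx).symm
      have e2 : ∀ x ∈ E, m' * x = x * m' := fun x hx => (hcen m' hm' x hx).symm
      have e3 : m⁻¹ * c' = c' * m⁻¹ := by
        have : Commute m c' := e1 c' (hC hc')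
        exact this.inv_left.eq
      calc m * c * (m' * c') * (m * c)⁻¹ * (m' * c')⁻¹
          = m * (c * m') * c' * c⁻¹ * m⁻¹ * c'⁻¹ * m'⁻¹ := by group
        _ = m * (m' * c) * c' * c⁻¹ * m⁻¹ * c'⁻¹ * m'⁻¹ := by rw [e2 c (hC hc)]
        _ = m * (m' * (c * c' * c⁻¹)) * m⁻¹ * c'⁻¹ * m'⁻¹ := by group
        _ = m * ((c * c' * c⁻¹) * m') * m⁻¹ * c'⁻¹ * m'⁻¹ := by
          rw [e2 _ (hC (mul_mem (mul_mem hc hc') (inv_mem hc)))]
        _ = (m * (c * c' * c⁻¹ * m')) * m⁻¹ * c'⁻¹ * m'⁻¹ := by group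
        _ = ((c * c' * c⁻¹ * m') * m) * m⁻¹ * c'⁻¹ * m'⁻¹ := by
          rw [e1 _ (mul_mem (hC (mul_mem (mul_mem hc hc') (inv_mem hc))) (hM hm'))]
        _ = (c * c' * c⁻¹) * (m' * c'⁻¹) * m'⁻¹ := by group
        _ = (c * c' * c⁻¹) * (c'⁻¹ * m') * m'⁻¹ := by rw [e2 _ (inv_mem (hC hc'))]
        _ = c * c' * c⁻¹ * c'⁻¹ := by group
    rw [e]
    exact comm_mem_Fr hc hc'
  · intro a ha
    obtain ⟨m, hm, c, hc, rfl⟩ := (mem_sup_iff hn).1 (hEM ha)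
    have e : Commute m c := (hcen m hm c (hC hc)).symm
    rw [e.mul_pow, hMp m hm, one_mul]
    exact pow_mem_Fr hc

end Cfsg.Agent.H765
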