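import Cfsg.Agent.H765.Beta3

/-!
# Two moved centres: the outcome (helper765)
-/

set_option autoImplicit false
set_option linter.unusedSectionVars false
set_option linter.unusedSimpArgs false
set_option linter.unusedVariables false

namespace Cfsg.Agent.H765

open Module Subgroup

universe u

variable {X : Type u} [Group X]

theorem sq_eq_one {p : ℕ} (hp : p.Prime) (hp2 : p ≠ 2) {b : X} (h : b ^ p = 1) (h2 : b * b = 1) : b = 1 := by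
  have h3 : orderOf b ∣ p := orderOf_dvd_of_pow_eq_one h
  have h4 : orderOf b ∣ 2 := orderOf_dvd_of_pow_eq_one (by rw [pow_two]; exact h2)
  rcases (Nat.dvd_prime hp).1 h3 with h5 | h5
  · exact orderOf_eq_one_iff.1 h5
  · rw [h5] at h4
    exact absurd ((Nat.prime_dvd_prime_iff_eq hp Nat.prime_two).1 h4) hp2

theorem index_eq_of_ne {p : ℕ} [Fact p.Prime] [Finite X] {N E₁ E₂ H₁ H₂ H0 H0' : Subgroup X}
    (h₁ : Par p N E₁ H₁ H0) (h₂ : Par p N E₂ H₂ H0') (hne : E₁ ≠ E₂) : ¬ E₁ ≤ E₂ := by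
  have hpp : p.Prime := Fact.out
  intro hle
  apply hne
  have h1 := card_mul_relIndex' h₁.EN
  have h2 := card_mul_relIndex' h₂.EN
  rw [h₁.ix] at h1
  rw [h₂.ix, ← h1] at h2
  exact Subgroup.eq_of_le_of_card_ge hle (Nat.eq_of_mul_eq_mul_right hpp.pos h2).le

theorem card_E_eq {p : ℕ} [Fact p.Prime] {N E₁ E₂ H₁ H₂ H0 H0' : Subgroup X}
    (h₁ : Par p N E₁ H₁ H0) (h₂ : Par p N E₂ H₂ H0') : Nat.card E₁ = Nat.card E₂ := by
  have h1 := card_mul_relIndex' h₁.EN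
  have h2 := card_mul_relIndex' h₂.EN
  rw [h₁.ix] at h1
  rw [h₂.ix, ← h1] at h2
  exact (Nat.eq_of_mul_eq_mul_right (Fact.out : p.Prime).pos h2).symm

theorem inf_card {p : ℕ} [Fact p.Prime] [Finite X] {N E₁ E₂ H₁ H₂ H0 H0' : Subgroup X}
    (h₁ : Par p N E₁ H₁ H0) (h₂ : Par p N E₂ H₂ H0') :
    Nat.card E₁ ≤ Nat.card (E₁ ⊓ E₂ : Subgroup X) * p := by
  have hpp : p.Prime := Fact.out
  rw [← card_mul_relIndex' (inf_le_left : E₁ ⊓ E₂ ≤ E₁)]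
  refine Nat.mul_le_mul_left _ ?_
  rw [inf_relIndex_left]
  calc E₂.relIndex E₁ ≤ E₂.relIndex N := relIndex_le_of_le_right h₁.EN (by rw [h₂.ix]; exact hpp.ne_zero)
    _ = p := h₂.ix

theorem exists_y' {p : ℕ} [Fact p.Prime] [Finite X] {N E₁ E₂ H₁ H₂ H0 H0' : Subgroup X}
    (h₁ : Par p N E₁ H₁ H0) (h₂ : Par p N E₂ H₂ H0') (hne : E₁ ≠ E₂) : ∃ y ∈ E₂, y ∉ E₁ := by
  by_contra hno
  push Not at hno
  exact index_eq_of_ne h₂ h₁ hne.symm hno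

/-- Elementary abelian `E₁`, `E₂` of order `p³`: the fixed points of `L₁` in `E₁` are those of `L₂` in `E₂`. -/
theorem cenL_le {p : ℕ} [Fact p.Prime] [Finite X] (hp2 : p ≠ 2) {N E₁ E₂ H₁ H₂ H0 : Subgroup X}
    (h₁ : Par p N E₁ H₁ H0) (h₂ : Par p N E₂ H₂ H0) (htop : Top p N H0) (hne : E₁ ≠ E₂)
    (np₁ : ¬ PT p (Lc N H₁) E₁ ⊥) (np₂ : ¬ PT p (Lc N H₂) E₂ ⊥) (ea₁ : EA p E₁) (ea₂ : EA p E₂)
    (hc : Nat.card E₁ = p ^ 3) :
    (∀ v ∈ E₁, (∀ l ∈ Lc N H₁, l * v = v * l) → v ∈ E₂ ∧ ∀ l ∈ Lc N H₂, l * v = v * l) ∧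
      ∃ v ∈ E₁, v ≠ 1 ∧ ∀ l ∈ Lc N H₁, l * v = v * l := by
  have hpp : p.Prime := Fact.out
  have hc2 : Nat.card E₂ = p ^ 3 := by rw [← card_E_eq h₁ h₂, hc]
  obtain ⟨C, hC⟩ : ∃ C, C = E₁ ⊓ E₂ := ⟨_, rfl⟩
  have hC1 : C ≤ E₁ := hC ▸ inf_le_left
  have hC2 : C ≤ E₂ := hC ▸ inf_le_right
  obtain ⟨y, hy, hyE⟩ := exists_y' h₁ h₂ hne
  have hNC : N ≤ cs C ⊥ := by
    refine h₁.le_of_not_mem (h₂.EN hy) hyE ?_ ?_
    · intro e he
      exact mem_cs_bot.2 fun c hc => ea₁.comm e he c (hC1 hc)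
    · exact mem_cs_bot.2 fun c hc => ea₂.comm y hy c (hC2 hc)
  have hCi1 : C.relIndex E₁ ≤ p := relIndex_le_of_card hC1 (by
    have := inf_card h₁ h₂
    rwa [← hC, mul_comm] at this)
  have hCi2 : C.relIndex E₂ ≤ p := relIndex_le_of_card hC2 (by
    have := inf_card h₂ h₁
    rwa [inf_comm, ← hC, mul_comm] at this)
  have sct : ∀ {E H : Subgroup X}, EA p E → H ≤ normalizer (E : Set X) → Sct p H E ⊥ := fun ea hn =>
    ⟨bot_le, hn, norm_bot _, norm_bot _, fun a ha b hb => by rw [mem_bot, ea.comm a ha b hb]; group,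
      fun a ha => by rw [mem_bot]; exact ea.pow a ha⟩
  have hs1 := sct ea₁ h₁.HE
  have hs2 := sct ea₂ h₂.HE
  have hE1 : E₁ ≤ cs E₁ ⊥ := fun e he => mem_cs_bot.2 fun r hr => ea₁.comm e he r hr
  have hE2 : E₂ ≤ cs E₂ ⊥ := fun e he => mem_cs_bot.2 fun r hr => ea₂.comm e he r hr
  obtain ⟨Z₁, -, hZ1, hZ1c, hZ1N⟩ := h₁.exists_Z' hs1 le_rfl hE1 np₁ bot_le hC1 hCi1 hNC
  obtain ⟨Z₂, -, hZ2, hZ2c, hZ2N⟩ := h₂.exists_Z' hs2 le_rfl hE2 np₂ bot_le hC2 hCi2 hNC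
  obtain ⟨V₁, V₂, τ₁, t₁⟩ := h₁.exists_tau hp2 hs1 le_rfl hE1 (by rw [relIndex_bot_left, hc]) np₁ bot_le hZ1 hZ1c hZ1N
  obtain ⟨W₁, W₂, τ₂, t₂⟩ := h₂.exists_tau hp2 hs2 le_rfl hE2 (by rw [relIndex_bot_left, hc2]) np₂ bot_le hZ2 hZ2c hZ2N
  have hV2c : Nat.card V₂ = p ^ 2 := by have := t₁.card2; rwa [relIndex_bot_left] at this
  have hW2c : Nat.card W₂ = p ^ 2 := by have := t₂.card2; rwa [relIndex_bot_left] at this
  -- fixed points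
  have fix : ∀ {E H V₁ V₂ : Subgroup X} {τ : X} (h : Par p N E H H0) (ea : EA p E)
      (t : Tau p N E H H0 E ⊥ V₁ V₂ τ) (hc2 : Nat.card V₂ = p ^ 2) (v : X) (hv : v ∈ E),
      (∀ l ∈ Lc N H, l * v = v * l) → v ∈ V₁ := by
    intro E H V₁ V₂ τ h ea t hc2 v hv hl
    obtain ⟨a, ha, b, hb, rfl⟩ := t.sup v hv
    have hbl : ∀ l ∈ Lc N H, l * b = b * l := by
      intro l hl'
      have h1 : Commute l (a * b) := hl l hl'
      have h2 : Commute l a := mem_cs_bot.1 (t.L1 hl') a ha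
      have h3 : Commute l (a⁻¹ * (a * b)) := h2.inv_right.mul_right h1
      rw [inv_mul_cancel_left] at h3
      exact h3.eq
    have hzb : zpowers b ≤ V₂ := by rwa [zpowers_le]
    have hsV : Sct p H V₂ ⊥ := ⟨bot_le, t.n2, norm_bot _, norm_bot _,
      fun a ha b hb => by rw [mem_bot, ea.comm a (t.le2' ha) b (t.le2' hb)]; group,
      fun a ha => by rw [mem_bot]; exact ea.pow a (t.le2' ha)⟩
    have h4 : Lc N H ≤ normalizer (zpowers b : Set X) := le_norm_of fun x hx a ha => by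
      obtain ⟨k, rfl⟩ := ha
      have h1 : Commute x b := hbl x hx
      have h2 : x * b ^ k = b ^ k * x := (h1.zpow_right k).eq
      show x * b ^ k * x⁻¹ ∈ zpowers b
      rw [h2, mul_inv_cancel_right]
      exact ⟨k, rfl⟩
    rcases irr2 h.pN h.NH hsV (h.pE.to_le t.le2') (by rw [relIndex_bot_left, hc2]) t.npt bot_le hzb h4 with h5 | h5
    · rw [zpowers_eq_bot] at h5
      rw [h5, mul_one]
      exact ha
    · exfalso
      have h6 : orderOf b = p ^ 2 := by rw [← Nat.card_zpowers, h5, hc2]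
      have h7 : orderOf b ≤ p := orderOf_le_of_pow_eq_one hpp.pos (ea.pow b (t.le2' hb))
      rw [h6] at h7
      nlinarith [hpp.two_le]
  have fixL : ∀ {E H V₁ V₂ : Subgroup X} {τ : X} (t : Tau p N E H H0 E ⊥ V₁ V₂ τ) (v : X) (hv : v ∈ V₁),
      ∀ l ∈ Lc N H, l * v = v * l := fun t v hv l hl => mem_cs_bot.1 (t.L1 hl) v hv
  -- orders of `V₂ ∩ C`
  have hcardC : ∀ {E H V₁ V₂ : Subgroup X} {τ : X} (h : Par p N E H H0) (ea : EA p E) (hE3 : Nat.card E = p ^ 3)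
      (t : Tau p N E H H0 E ⊥ V₁ V₂ τ) (hc2 : Nat.card V₂ = p ^ 2) (hCE : C ≤ E), Nat.card V₁ = p ∧
      ¬ V₂ ≤ C := by
    intro E H V₁ V₂ τ h ea hE3 t hc2 hCE
    have hn : V₁ ≤ normalizer (V₂ : Set X) := le_norm_of fun x hx a ha => by
      rw [ea.comm x (t.le1' hx) a (t.le2' ha), mul_inv_cancel_right]; exact ha
    have h1 : V₁ ⊔ V₂ = E := le_antisymm (sup_le t.le1' t.le2') fun v hv => by
      obtain ⟨a, ha, b, hb, rfl⟩ := t.sup v hv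
      exact mul_mem (mem_sup_left ha) (mem_sup_right hb)
    let g : V₁ × V₂ → E := fun x => ⟨(x.1 : X) * x.2, mul_mem (t.le1' x.1.2) (t.le2' x.2.2)⟩
    have hg : Function.Bijective g := by
      constructor
      · rintro ⟨a, b⟩ ⟨c, d⟩ hab
        have h2 : (a : X) * b = c * d := congrArg Subtype.val hab
        have h3 : (c : X)⁻¹ * a = d * (b : X)⁻¹ := by
          rw [eq_mul_inv_iff_mul_eq, mul_assoc, h2, inv_mul_cancel_left]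
        have h4 : (c : X)⁻¹ * a ∈ (⊥ : Subgroup X) := t.inf _ (mul_mem (inv_mem c.2) a.2)
          (by rw [h3]; exact mul_mem d.2 (inv_mem b.2))
        have h5 : (d : X) * (b : X)⁻¹ = 1 := by rw [← h3]; exact mem_bot.1 h4
        rw [mem_bot, inv_mul_eq_one] at h4
        rw [mul_inv_eq_one] at h5
        exact Prod.ext (Subtype.ext h4.symm) (Subtype.ext h5.symm)
      · rintro ⟨v, hv⟩
        obtain ⟨a, ha, b, hb, rfl⟩ := t.sup v hv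
        exact ⟨(⟨a, ha⟩, ⟨b, hb⟩), rfl⟩
    have h2 := Nat.card_congr (Equiv.ofBijective g hg)
    rw [Nat.card_prod, hE3, hc2] at h2
    refine ⟨?_, ?_⟩
    · have h3 : Nat.card V₁ * p ^ 2 = p * p ^ 2 := by rw [h2]; ring
      exact Nat.eq_of_mul_eq_mul_right (pow_pos hpp.pos 2) h3
    · intro hle
      -- `N` would centralize `V₂`
      apply t.npt
      refine PT.of_cs (Lc_le_cs' t.n2 (norm_bot H) ?_)
      exact fun n hn => mem_cs_bot.2 fun r hr => mem_cs_bot.1 (hNC hn) r (hle hr)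
  obtain ⟨hV1c, hV2C⟩ := hcardC h₁ ea₁ hc t₁ hV2c hC1
  obtain ⟨hW1c, hW2C⟩ := hcardC h₂ ea₂ hc2 t₂ hW2c hC2
  -- the commutator
  obtain ⟨a, ha, hya⟩ : ∃ a ∈ E₁, y * a ≠ a * y := by
    by_contra hno
    push Not at hno
    exact hyE (h₁.mem_of_commute np₁ (h₂.EN hy) hno)
  obtain ⟨s, hs⟩ : ∃ s, s = y * a * y⁻¹ * a⁻¹ := ⟨_, rfl⟩
  have hs0 : s ≠ 1 := by
    intro h0
    apply hya
    rw [hs, mul_inv_eq_one, mul_inv_eq_iff_eq_mul] at h0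
    exact h0
  have hsV : s ∈ V₂ := hs ▸ (t₁.L2 (le_Lc _ _ (h₂.EN hy))).2 a ha
  have hsE2 : s ∈ E₂ := by
    have h1 := conj_mem_of_norm (h₂.NE (h₁.EN ha)) (inv_mem hy)
    have e : s = y * (a * y⁻¹ * a⁻¹) := by rw [hs]; group
    rw [e]
    exact mul_mem hy h1
  have hsC : s ∈ C := by rw [hC]; exact ⟨t₁.le2' hsV, hsE2⟩
  have hsW : s ∈ W₂ := by
    have h1 := inv_mem ((t₂.L2 (le_Lc _ _ (h₁.EN ha))).2 y hy)
    have e : (a * y * a⁻¹ * y⁻¹)⁻¹ = s := by rw [hs]; group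
    rwa [e] at h1
  have hsp : s ^ p = 1 := ea₂.pow s hsE2
  have hso : orderOf s = p := orderOf_eq_prime hsp hs0
  have hcap : ∀ {V : Subgroup X}, Nat.card V = p ^ 2 → ¬ V ≤ C → s ∈ V → ∀ b ∈ V, b ∈ C → b ∈ zpowers s := by
    intro V hV hVC hsV b hb hbC
    have hVp : IsPGroup p V := IsPGroup.of_card hV
    have h1 := card_mul_p_le hVp (inf_le_left : V ⊓ C ≤ V) (fun h => hVC (h.trans inf_le_right))
    rw [hV, pow_two] at h1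
    have h2 := Nat.le_of_mul_le_mul_right h1 hpp.pos
    have h3 : zpowers s ≤ V ⊓ C := by rw [zpowers_le]; exact ⟨hsV, hsC⟩
    have h4 : zpowers s = V ⊓ C := Subgroup.eq_of_le_of_card_ge h3 (by rw [Nat.card_zpowers, hso]; exact h2)
    rw [h4]
    exact ⟨hb, hbC⟩
  -- `C = Ω₁(Z(N))`
  have hCO : C = Om p N := by
    apply le_antisymm
    · intro c hc
      exact ⟨h₁.EN (hC1 hc), ea₁.pow c (hC1 hc), fun n hn => mem_cs_bot.1 (hNC hn) c hc⟩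
    · rw [hC]
      exact le_inf (h₁.Om_le_E np₁) (h₂.Om_le_E np₂)
  have hV1C : V₁ ≤ C := fun v hv => by
    rw [hC]
    refine ⟨t₁.le1' hv, h₂.mem_of_commute np₂ (h₁.EN (t₁.le1' hv)) fun e he => ?_⟩
    exact (fixL t₁ v hv e (le_Lc _ _ (h₂.EN he))).symm
  have hW1C : W₁ ≤ C := fun v hv => by
    rw [hC]
    refine ⟨h₁.mem_of_commute np₁ (h₂.EN (t₂.le1' hv)) fun e he => ?_, t₂.le1' hv⟩
    exact (fixL t₂ v hv e (le_Lc _ _ (h₁.EN he))).symm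
  have hinvs : ∀ {g : X}, g * s * g⁻¹ * s ∈ (⊥ : Subgroup X) → g * s * g⁻¹ = s⁻¹ := by
    intro g hg
    rw [mem_bot, mul_eq_one_iff_eq_inv] at hg
    exact hg
  have hs1 := hinvs (t₁.t2 s hsV)
  have hs2 := hinvs (t₂.t2 s hsW)
  have hnorm : ∀ {g : X}, g * s * g⁻¹ = s⁻¹ → g ∈ normalizer (zpowers s : Set X) := by
    intro g hg
    rw [mem_normalizer_iff]
    have h1 : (zpowers s).map (MulAut.conj g).toMonoidHom = zpowers s := by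
      rw [MonoidHom.map_zpowers]
      show zpowers (g * s * g⁻¹) = zpowers s
      rw [hg, zpowers_inv]
    intro x
    constructor
    · intro hx
      rw [← h1]
      exact ⟨x, hx, rfl⟩
    · intro hx
      rw [← h1] at hx
      obtain ⟨z, hz, hz'⟩ := hx
      have : z = x := (MulAut.conj g).injective hz'
      rwa [← this]
  have tcs : ∀ {E H V₁ V₂ : Subgroup X} {τ : X} (ea : EA p E) (t : Tau p N E H H0 E ⊥ V₁ V₂ τ)
      (hc2 : Nat.card V₂ = p ^ 2) (hV : ¬ V₂ ≤ C) (hsV : s ∈ V₂) (hV1 : V₁ ≤ C) (hCE : C ≤ E),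
      τ ∈ cs C (zpowers s) := by
    intro E H V₁ V₂ τ ea t hc2 hV hsV hV1 hCE
    refine ⟨hnorm (hinvs (t.t2 s hsV)), fun c hc => ?_⟩
    obtain ⟨a, ha, b, hb, rfl⟩ := t.sup c (hCE hc)
    have hbC : b ∈ C := by
      have := mul_mem (inv_mem (hV1 ha)) hc
      rwa [inv_mul_cancel_left] at this
    have h1 : τ * a = a * τ := mem_cs_bot.1 t.t1 a ha
    have h2 : τ * b * τ⁻¹ = b⁻¹ := by
      have := t.t2 b hb
      rwa [mem_bot, mul_eq_one_iff_eq_inv] at this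
    have h3 : τ * (a * b) * τ⁻¹ * (a * b)⁻¹ = b⁻¹ * b⁻¹ := by
      have e1 : τ * (a * b) * τ⁻¹ = a * b⁻¹ := by
        rw [← mul_assoc, h1, mul_assoc, mul_assoc, ← mul_assoc τ, h2]
      have e2 : a * b⁻¹ = b⁻¹ * a := ea.comm a (t.le1' ha) _ (inv_mem (t.le2' hb))
      calc τ * (a * b) * τ⁻¹ * (a * b)⁻¹ = a * b⁻¹ * (b⁻¹ * a⁻¹) := by rw [e1, mul_inv_rev]
        _ = (a * b⁻¹) * b⁻¹ * a⁻¹ := by group
        _ = (b⁻¹ * a) * b⁻¹ * a⁻¹ := by rw [e2]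
        _ = b⁻¹ * (a * b⁻¹) * a⁻¹ := by group
        _ = b⁻¹ * (b⁻¹ * a) * a⁻¹ := by rw [e2]
        _ = b⁻¹ * b⁻¹ := by group
    rw [h3]
    have h4 := hcap hc2 hV hsV b hb hbC
    exact mul_mem (inv_mem h4) (inv_mem h4)
  have c1 := tcs ea₁ t₁ hV2c hV2C hsV hV1C hC1
  have c2 := tcs ea₂ t₂ hW2c hW2C hsW hW1C hC2
  have hxs : τ₁ * τ₂ ∈ cs (zpowers s) ⊥ := by
    have h1 : Commute (τ₁ * τ₂) s := by
      have e : τ₁ * τ₂ * s * (τ₁ * τ₂)⁻¹ = s := by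
        have e1 : τ₁ * τ₂ * s * (τ₁ * τ₂)⁻¹ = τ₁ * (τ₂ * s * τ₂⁻¹) * τ₁⁻¹ := by group
        rw [e1, hs2, ← hs1]
        have e2 : τ₁ * (τ₁ * s * τ₁⁻¹) * τ₁⁻¹ = τ₁ * s⁻¹ * τ₁⁻¹ := by rw [hs1]
        rw [e2]
        have e3 : τ₁ * s⁻¹ * τ₁⁻¹ = (τ₁ * s * τ₁⁻¹)⁻¹ := by group
        rw [e3, hs1, inv_inv]
      rw [mul_inv_eq_iff_eq_mul] at e
      exact e
    refine mem_cs_bot.2 ?_
    rintro _ ⟨k, rfl⟩
    exact (h1.zpow_right k).eq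
  have hxC : (τ₁ * τ₂) ^ p ∈ cs C ⊥ := cs_pow_chain (mul_mem c1 c2) hxs (by
    rintro _ ⟨k, rfl⟩
    rw [mem_bot]
    show (s ^ k) ^ p = 1
    rw [← zpow_natCast, ← zpow_mul, mul_comm, zpow_mul, zpow_natCast, hsp, one_zpow])
  have hx0 : τ₁ * τ₂ ∈ N ⊔ (H0 ⊓ cs C ⊥) := htop.mem h₁.pN h₁.N0 h₁.H0N bot_le (hC1.trans h₁.EN)
    (by rw [hCO]; exact Om_norm h₁.H0N) (norm_bot H0) (mul_mem t₁.t0 t₂.t0) (k := 1) (by rw [pow_one]; exact hxC)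
  have hxc : τ₁ * τ₂ ∈ cs C ⊥ := (sup_le hNC inf_le_right) hx0
  refine ⟨fun v hv hl => ?_, ?_⟩
  · have hv1 := fix h₁ ea₁ t₁ hV2c v hv hl
    have hvC := hV1C hv1
    refine ⟨hC2 hvC, fixL t₂ v ?_⟩
    have e1 : Commute (τ₁ * τ₂) v := mem_cs_bot.1 hxc v hvC
    have e2 : Commute τ₁ v := mem_cs_bot.1 t₁.t1 v hv1
    have e3 : Commute τ₂ v := by
      have := e2.inv_left.mul_left e1
      rwa [inv_mul_cancel_left] at this
    obtain ⟨a', ha', b', hb', hab⟩ := t₂.sup v (hC2 hvC)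
    have h1 : τ₂ * a' = a' * τ₂ := mem_cs_bot.1 t₂.t1 a' ha'
    have h2 : τ₂ * b' * τ₂⁻¹ = b'⁻¹ := by
      have := t₂.t2 b' hb'
      rwa [mem_bot, mul_eq_one_iff_eq_inv] at this
    have h3 : τ₂ * v * τ₂⁻¹ = v := by rw [e3.eq, mul_inv_cancel_right]
    have h4 : τ₂ * v * τ₂⁻¹ = a' * b'⁻¹ := by
      rw [← hab, ← mul_assoc, h1, mul_assoc, mul_assoc, ← mul_assoc τ₂, h2]
    rw [h3, ← hab] at h4
    have h5 : b' = b'⁻¹ := mul_left_cancel h4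
    have h6 : b' * b' = 1 := by
      conv_lhs => rw [h5]
      rw [inv_mul_eq_one]
      exact h5
    have h7 := sq_eq_one hpp hp2 (ea₂.pow b' (t₂.le2' hb')) h6
    rw [← hab, h7, mul_one]
    exact ha'
  · have hnt : Nontrivial V₁ := by
      rw [← Finite.one_lt_card_iff_nontrivial, hV1c]; exact hpp.one_lt
    obtain ⟨v, hv⟩ := exists_ne (1 : V₁)
    exact ⟨v, t₁.le1' v.2, fun h0 => hv (Subtype.ext h0), fixL t₁ v v.2⟩

/-- Two configurations with elementary abelian `E₁`, `E₂`. -/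
structure Two (p : ℕ) (N E₁ H₁ E₂ H₂ H0 : Subgroup X) : Prop where
  h1 : Par p N E₁ H₁ H0
  h2 : Par p N E₂ H₂ H0
  le1 : H0 ≤ H₁
  le2 : H0 ≤ H₂
  ne : E₁ ≠ E₂
  np1 : ¬ PT p (Lc N H₁) E₁ ⊥
  np2 : ¬ PT p (Lc N H₂) E₂ ⊥
  sr : SR p N
  top : Top p N H0
  K1 : ∀ R, R ≤ E₁ → R ≤ E₂ → H₁ ≤ normalizer (R : Set X) → H₂ ≤ normalizer (R : Set X) → R = ⊥

theorem Two.symm {p : ℕ} {N E₁ H₁ E₂ H₂ H0 : Subgroup X} (t : Two p N E₁ H₁ E₂ H₂ H0) :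
    Two p N E₂ H₂ E₁ H₁ H0 :=
  ⟨t.h2, t.h1, t.le2, t.le1, t.ne.symm, t.np2, t.np1, t.sr, t.top, fun R a b c d => t.K1 R b a d c⟩

/-- `M₁ ≰ E₂`, `M₂ ≰ E₁` give elementary abelian `E₁`, `E₂` if the Frattini subgroups are trivial. -/
theorem Fr_eq {p : ℕ} [Fact p.Prime] [Finite X] {N E₁ E₂ H₁ H₂ H0 H0' M₁ : Subgroup X}
    (h₁ : Par p N E₁ H₁ H0) (h₂ : Par p N E₂ H₂ H0') (c₁ : CM p N E₁ H₁ M₁) (hM : ¬ M₁ ≤ E₂) :
    Fr p E₁ = Fr p (E₁ ⊓ E₂) := by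
  obtain ⟨m, hm, hmE⟩ := SetLike.not_le_iff_exists.1 hM
  have h1 : E₁ ≤ M₁ ⊔ (E₁ ⊓ E₂) := le_of_card_p h₁.pE inf_le_left (inf_card h₁ h₂) le_sup_right (c₁.ME hm)
    (fun h => hmE h.2) (mem_sup_left hm)
  exact Fr_eq_of_sup inf_le_left h1 c₁.cen c₁.ME c₁.pow

theorem Two.beta {p : ℕ} [Fact p.Prime] [Finite X] (hp2 : p ≠ 2) {N E₁ E₂ H₁ H₂ H0 : Subgroup X}
    (t : Two p N E₁ H₁ E₂ H₂ H0) (hZ1 : ¬ H₁ ≤ normalizer (Om p N : Set X))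
    (hZ2 : ¬ H₂ ≤ normalizer (Om p N : Set X)) :
    EA p E₁ ∧ EA p E₂ ∧ Nat.card E₁ = p ^ 2 ∧ Nat.card E₂ = p ^ 2 := by
  have hpp : p.Prime := Fact.out
  have c₁ := t.h1.cm_Om t.np1 hZ1
  have c₂ := t.h2.cm_Om t.np2 hZ2
  have b1 := lemBeta hp2 t.h1 t.h2 t.sr t.ne c₁ c₂
  have b2 := lemBeta hp2 t.h2 t.h1 t.sr t.ne.symm c₂ c₁
  have f1 := Fr_eq t.h1 t.h2 c₁ b1
  have f2 := Fr_eq t.h2 t.h1 c₂ b2
  rw [inf_comm] at f2
  have f3 : Fr p (E₁ ⊓ E₂) = ⊥ := by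
    refine t.K1 _ ((Fr_le p _).trans inf_le_left) ((Fr_le p _).trans inf_le_right) ?_ ?_
    · rw [← f1]; exact norm_Fr t.h1.HE
    · rw [← f2]; exact norm_Fr t.h2.HE
  have ea₁ : EA p E₁ := EA_of_Fr (f1.trans f3)
  have ea₂ : EA p E₂ := EA_of_Fr (f2.trans f3)
  have hcE := card_E_eq t.h1 t.h2
  have hlow : p ^ 2 ≤ Nat.card E₁ := (c₁.le_card t.h1).trans (Nat.card_le_card_of_injective _ (inclusion_injective c₁.ME))
  have hup : Nat.card E₁ ≤ p ^ 3 := t.sr.card_EA t.h1.EN ea₁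
  obtain ⟨n, hn⟩ := IsPGroup.iff_card.1 t.h1.pE
  rw [hn] at hlow hup
  have h3 := (Nat.pow_le_pow_iff_right hpp.one_lt).1 hlow
  have h4 := (Nat.pow_le_pow_iff_right hpp.one_lt).1 hup
  have h5 : n = 2 := by
    by_contra h5
    have h6 : n = 3 := by omega
    have hE1c : Nat.card E₁ = p ^ 3 := by rw [hn, h6]
    have hE2c : Nat.card E₂ = p ^ 3 := by rw [← hcE, hE1c]
    obtain ⟨k1, v, hv, hv1, hvl⟩ := cenL_le hp2 t.h1 t.h2 t.top t.ne t.np1 t.np2 ea₁ ea₂ hE1c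
    obtain ⟨k2, -⟩ := cenL_le hp2 t.h2 t.h1 t.top t.ne.symm t.np2 t.np1 ea₂ ea₁ hE2c
    have e1 : E₁ ⊓ centralizer (Lc N H₁ : Set X) = E₂ ⊓ centralizer (Lc N H₂ : Set X) := by
      ext w
      simp only [Subgroup.mem_inf, mem_centralizer_iff, SetLike.mem_coe]
      exact ⟨fun h => k1 w h.1 h.2, fun h => k2 w h.1 h.2⟩
    have e2 := t.K1 (E₁ ⊓ centralizer (Lc N H₁ : Set X)) inf_le_left (by rw [e1]; exact inf_le_left)
      (norm_inf t.h1.HE (norm_centralizer (norm_Lc N H₁)))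
      (by rw [e1]; exact norm_inf t.h2.HE (norm_centralizer (norm_Lc N H₂)))
    apply hv1
    rw [← mem_bot, ← e2]
    exact ⟨hv, mem_centralizer_iff.2 hvl⟩
  exact ⟨ea₁, ea₂, by rw [hn, h5], by rw [← hcE, hn, h5]⟩

end Cfsg.Agent.H765
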