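import Cfsg.Agent.H765.A1c

/-!
# `|E / K| = p²` with three generators is impossible for `p ≥ 5` if `N < S` (helper765)
-/

set_option autoImplicit false
set_option linter.unusedSectionVars false
set_option linter.unusedSimpArgs false
set_option linter.unusedVariables false

namespace Cfsg.Agent.H765

open Module Subgroup

universe u

variable {X : Type u} [Group X]

/-- A unit of large order. -/
theorem exists_c {p : ℕ} [hp : Fact p.Prime] (hp5 : 5 ≤ p) : ∃ c : ZMod p, c ≠ 0 ∧ c ≠ 1 ∧ c * c ≠ 1 ∧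
    c * c * c ≠ 1 ∧ c * c * c * c * c ≠ 1 := by
  obtain ⟨g, hg⟩ := IsCyclic.exists_generator (α := (ZMod p)ˣ)
  have ho : orderOf g = p - 1 := by
    rw [orderOf_eq_card_of_forall_mem_zpowers hg, Nat.card_eq_fintype_card, ZMod.card_units]
  have key : ∀ n : ℕ, (g : ZMod p) ^ n = 1 → p - 1 ∣ n := by
    intro n hn
    rw [← ho]
    apply orderOf_dvd_of_pow_eq_one
    ext
    push_cast
    exact hn
  refine ⟨g, g.ne_zero, fun h => ?_, fun h => ?_, fun h => ?_, fun h => ?_⟩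
  · have := Nat.le_of_dvd (by norm_num) (key 1 (by rw [pow_one]; exact h))
    omega
  · have := Nat.le_of_dvd (by norm_num) (key 2 (by rw [pow_two]; exact h))
    omega
  · have := Nat.le_of_dvd (by norm_num) (key 3 (by rw [← h]; ring))
    omega
  · have h1 := key 5 (by rw [← h]; ring)
    have h2 := Nat.le_of_dvd (by norm_num) h1
    have h3 : p = 5 ∨ p = 6 := by omega
    rcases h3 with rfl | rfl
    · norm_num at h1
    · exact absurd hp.out (by norm_num)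

section

variable {p : ℕ} [Fact p.Prime] [Finite X] {N E H H0 K P : Subgroup X}

/-- **Case A1**. -/
theorem caseA1 (hp5 : 5 ≤ p) (q : PC p N E H H0 K) (ad : Ad p N E H H0) (hΦ : (Fr p E).relIndex K = p)
    (hNP : N ≤ P) (hPH : P ≤ H0) (hPp : IsPGroup p P) (hPc : N.relIndex P = p) (srP : SR p P)
    (hPE : ¬ P ≤ normalizer (E : Set X))
    (ext : ∀ h ∈ H0, (∀ x ∈ P, h * x * h⁻¹ ∈ P ⊔ CE H0 N) → ∃ c ∈ CE H0 N, ∀ x ∈ P, (h * c) * x * (h * c)⁻¹ ∈ P) :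
    False := by
  have hpp : p.Prime := Fact.out
  have hp2 : p ≠ 2 := by omega
  have h := q.h
  obtain ⟨D, Z, s⟩ := q.exists_A1 hp2 hΦ
  obtain ⟨Φ, hΦd⟩ : ∃ Φ, Φ = Fr p E := ⟨_, rfl⟩
  rw [← hΦd] at s
  have hΦD := s.ΦZ.trans s.ZD
  have hDN := s.DE.trans h.EN
  have hND : N ≤ normalizer (D : Set X) := h.N0.trans s.nD
  have hNΦ : N ≤ normalizer (Φ : Set X) := h.N0.trans s.nΦ
  have hNZ : N ≤ normalizer (Z : Set X) := h.N0.trans s.nZ
  have hsD : Sct p H0 N D := ⟨hDN, h.H0N, s.nD, hND, fun a ha b hb => s.ZD (s.NNZ a ha b hb), fun a ha => hΦD (s.exp a ha)⟩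
  have hDN2 : D.relIndex N = p ^ 2 := by
    rw [← relIndex_mul_relIndex _ _ _ s.DE h.EN, s.cDE, h.ix, pow_two]
  obtain ⟨M, hDM, hMN, hMc, hPM, hPM'⟩ := exists_axis hsD h.pN hDN2 hPp hNP hPH
  obtain ⟨x, hxP, hxE⟩ := SetLike.not_le_iff_exists.1 hPE
  have hxN : x ∉ N := fun hh => hxE (h.NE hh)
  obtain ⟨cz, cz0, cz1, cz2, cz3, cz5⟩ := exists_c hp5
  obtain ⟨t, ht0, htH, htK, htZ, htE, htN⟩ := s.tor cz.val (cz⁻¹).val (by
    rw [ZMod.natCast_zmod_val, ZMod.natCast_zmod_val, mul_inv_cancel₀ cz0])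
  have hx0 := hPH hxP
  have hxcs : x ∉ cs N D := fun hh => hxE (norm_of_cs s.DE ⟨hh.1, fun r hr => hh.2 r (h.EN hr)⟩)
  have hNCE : N ⊔ CE H0 N ≤ cs N D := by
    refine sup_le (fun n hn => ⟨hND hn, fun r hr => s.ZD (s.NNZ n hn r hr)⟩) ?_
    intro w hw
    refine ⟨s.nD hw.1, fun r hr => ?_⟩
    rw [← mem_centralizer_iff.1 hw.2 r hr, mul_inv_cancel_right, mul_inv_cancel]
    exact one_mem _
  -- `P` on the sections of order `p`
  have hPN := hPH.trans h.H0N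
  have hPD := hPH.trans s.nD
  have hPZ := hPH.trans s.nZ
  have hPΦ := hPH.trans s.nΦ
  have cZD : Z.relIndex D = p := by
    have h1 := relIndex_mul_relIndex _ _ _ s.ΦZ s.ZD
    rw [s.cΦZ, s.cΦD, pow_two] at h1
    exact Nat.eq_of_mul_eq_mul_left hpp.pos h1
  have pN := h.pN
  have hPcsDZ : P ≤ cs D Z := N_le_cs hPp s.ZD (hDN.trans hNZ) hPD hPZ (pN.to_le hDN) cZD.le
  have hPcsZΦ : P ≤ cs Z Φ := N_le_cs hPp s.ΦZ ((s.ZD.trans hDN).trans hNΦ) hPZ hPΦ (pN.to_le (s.ZD.trans hDN)) s.cΦZ.le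
  have hKN := s.KD.trans hDN
  have hPcsKΦ : P ≤ cs K Φ := N_le_cs hPp s.ΦK (hKN.trans hNΦ) (hPH.trans q.c.n0) hPΦ (pN.to_le hKN)
    (by rw [hΦd]; exact hΦ.le)
  rcases axis hsD s.DE h.EN hDN2 s.cDE h.pN hx0 ht0 hDM hMN hMc (hPM hxP) (hPM' hxP) hxE (h.HE htH)
    (c := cz.val) (c' := (cz⁻¹).val) (by
      rw [ZMod.natCast_zmod_val, ZMod.natCast_zmod_val, mul_inv_cancel₀ cz0]) htE htN with
    ⟨w, hw, hwu⟩ | ⟨hMt, h1⟩
  · obtain ⟨j, hj⟩ := hPp ⟨x, hxP⟩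
    have hj' : x ^ p ^ j = 1 := congrArg Subtype.val hj
    have h2 : w * x * w⁻¹ ∈ cs N D := by
      refine hNCE (ad.mem h (mul_mem (mul_mem hw hx0) (inv_mem hw)) (k := j) ?_ (norm_of_cs s.DE hwu))
      rw [conj_pow, hj', mul_one, mul_inv_cancel]
      exact one_mem _
    have h3 := cs_conj h.H0N s.nD (inv_mem hw) h2
    have e : w⁻¹ * (w * x * w⁻¹) * w⁻¹⁻¹ = x := by group
    rw [e] at h3
    exact hxcs h3
  · obtain ⟨k, hk⟩ : ∃ k, k = cz.val * cz.val * cz.val := ⟨_, rfl⟩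
    rw [← hk] at h1
    obtain ⟨z, hz⟩ : ∃ z, z = t * x * t⁻¹ * (x ^ k)⁻¹ := ⟨_, rfl⟩
    rw [← hz] at h1
    have hz0 : z ∈ H0 := by
      rw [hz]
      exact mul_mem (mul_mem (mul_mem ht0 hx0) (inv_mem ht0)) (inv_mem (pow_mem hx0 k))
    have hzDZ : z ∈ cs D Z := by
      rw [hz]
      exact mul_mem (cs_conj s.nD s.nZ ht0 (hPcsDZ hxP)) (inv_mem (pow_mem (hPcsDZ hxP) k))
    have hzZΦ : z ∈ cs Z Φ := by
      rw [hz]
      exact mul_mem (cs_conj s.nZ s.nΦ ht0 (hPcsZΦ hxP)) (inv_mem (pow_mem (hPcsZΦ hxP) k))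
    have hzE : z ∈ normalizer (E : Set X) := norm_of_cs s.DE ⟨h1.1, fun r hr => h1.2 r (h.EN hr)⟩
    -- a power of `z` is trivial on `N`
    have hzp : ∃ m : ℕ, z ^ p ^ m ∈ CE H0 N := by
      have h2 : z ^ p ∈ cs N Z := cs_pow_chain h1 hzDZ fun s' hs' => s.ΦZ (s.exp s' (hDN hs'))
      have h3 : (z ^ p) ^ p ∈ cs N Φ := cs_pow_chain h2 (pow_mem hzZΦ p) fun s' hs' => s.exp s' (hDN (s.ZD hs'))
      have h4 : PT p (zpowers z) E (Fr p E) := by
        rintro _ ⟨n, rfl⟩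
        refine ⟨2, ?_⟩
        show (z ^ n) ^ p ^ 2 ∈ cs E (Fr p E)
        have e : (z ^ n) ^ p ^ 2 = ((z ^ p) ^ p) ^ n := by
          rw [← zpow_natCast, ← zpow_mul, mul_comm, zpow_mul, zpow_natCast, pow_two, pow_mul]
        rw [e, ← hΦd]
        exact zpow_mem (show (z ^ p) ^ p ∈ cs E Φ from ⟨h3.1, fun r hr => h3.2 r (h.EN hr)⟩) n
      obtain ⟨m, hm⟩ := h4.frattini h.pE (by rwa [zpowers_le]) z (mem_zpowers z)
      have h5 : z ^ p ^ m ∈ cs N E := by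
        refine pow_mem (⟨hzE, fun r hr => s.DE (h1.2 r hr)⟩ : z ∈ cs N E) _
      obtain ⟨m', hm'⟩ := exists_pow_mem h.pE
      have h6 : (z ^ p ^ m) ^ p ^ m' ∈ cs N ⊥ := cs_pow_chain h5 hm fun s' hs' => by rw [hm' s' hs']; exact one_mem _
      refine ⟨m + m', Subgroup.mem_inf.2 ⟨pow_mem hz0 _, ?_⟩⟩
      rw [pow_add, pow_mul, mem_centralizer_iff]
      exact fun r hr => (mem_cs_bot.1 h6 r hr).symm
    obtain ⟨m, hm⟩ := hzp
    have hzN : z ∈ N ⊔ CE H0 N := ad.mem h hz0 hm hzE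
    -- generation of `P`
    have hPgen : ∀ T : Subgroup X, N ≤ T → x ∈ T → P ≤ T := by
      intro T hT hxT
      have h4 := card_mul_relIndex' hNP
      rw [hPc] at h4
      exact le_of_card_p hPp hNP h4.ge hT hxP hxN hxT
    have nCE : H0 ≤ normalizer (CE H0 N : Set X) := normCEN h
    have htx : t * x * t⁻¹ = z * x ^ k := by rw [hz]; group
    have htP : ∀ u ∈ P, t * u * t⁻¹ ∈ P ⊔ CE H0 N := by
      have h2 : P ≤ (P ⊔ CE H0 N).comap (MulAut.conj t).toMonoidHom := by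
        refine hPgen _ (fun n hn => mem_sup_left (hNP (conj_mem_of_norm (h.H0N ht0) hn))) ?_
        show t * x * t⁻¹ ∈ P ⊔ CE H0 N
        rw [htx]
        exact mul_mem ((sup_le_sup_right hNP _ : N ⊔ CE H0 N ≤ P ⊔ CE H0 N) hzN) (mem_sup_left (pow_mem hxP k))
      exact fun u hu => h2 hu
    obtain ⟨c₀, hc₀, hc₀P⟩ := ext t ht0 htP
    obtain ⟨t', ht'⟩ : ∃ t', t' = t * c₀ := ⟨_, rfl⟩
    rw [← ht'] at hc₀P
    have ht'0 : t' ∈ H0 := ht' ▸ mul_mem ht0 hc₀.1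
    have ht'n : ∀ n ∈ N, t' * n * t'⁻¹ = t * n * t⁻¹ := by
      intro n hn
      have h2 := mem_centralizer_iff.1 hc₀.2 n hn
      rw [ht']
      calc t * c₀ * n * (t * c₀)⁻¹ = t * (c₀ * n) * c₀⁻¹ * t⁻¹ := by group
        _ = _ := by rw [← h2]; group
    have hxv : t' * x * t'⁻¹ * (x ^ k)⁻¹ ∈ N := by
      have h2 : t' * x * t'⁻¹ * (x ^ k)⁻¹ ∈ P := mul_mem (hc₀P x hxP) (inv_mem (pow_mem hxP k))
      have h3 : t' * x * t'⁻¹ * (x ^ k)⁻¹ ∈ N ⊔ CE H0 N := by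
        have e : t' * x * t'⁻¹ * (x ^ k)⁻¹ =
            z * (x ^ k * (t * (x⁻¹ * c₀ * x⁻¹⁻¹ * c₀⁻¹) * t⁻¹) * (x ^ k)⁻¹) := by
          rw [ht', hz]; group
        rw [e]
        refine mul_mem hzN (mem_sup_right (conj_mem_of_norm (nCE (pow_mem hx0 k)) (conj_mem_of_norm (nCE ht0) ?_)))
        exact mul_mem (conj_mem_of_norm (nCE (inv_mem hx0)) hc₀) (inv_mem hc₀)
      obtain ⟨n, hn, e, he, hne⟩ := (mem_sup_iff (h.N0.trans nCE)).1 h3
      have heP : e ∈ P := by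
        have : e = n⁻¹ * (t' * x * t'⁻¹ * (x ^ k)⁻¹) := by rw [← hne]; group
        rw [this]
        exact mul_mem (inv_mem (hNP hn)) h2
      have heN : e ∈ N := by
        by_contra heN
        apply hPE
        have h4 := card_mul_relIndex' hNP
        rw [hPc] at h4
        refine le_of_card_p hPp hNP h4.ge h.NE heP heN ?_
        have h5 : e ∈ centralizer (E : Set X) := by
          rw [mem_centralizer_iff]
          exact fun r hr => mem_centralizer_iff.1 he.2 r (h.EN hr)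
        exact centralizer_le_normalizer _ h5
      rw [← hne]
      exact mul_mem hn heN
    -- `γ`
    have hMD : ¬ M ≤ D := by
      intro hh
      rw [relIndex_eq_one.2 hh] at hMc
      exact hpp.one_lt.ne hMc
    obtain ⟨γ, hγM, hγD⟩ := SetLike.not_le_iff_exists.1 hMD
    have hγN := hMN hγM
    have pM := pN.to_le hMN
    have hcM := card_mul_relIndex' hDM
    rw [hMc] at hcM
    have hMgen : ∀ T : Subgroup X, D ≤ T → γ ∈ T → M ≤ T := fun T hT hγT => le_of_card_p pM hDM hcM.ge hT hγM hγD hγT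
    have hMNc : M.relIndex N = p := by
      have h2 := relIndex_mul_relIndex _ _ _ hDM hMN
      rw [hMc, hDN2, pow_two] at h2
      exact Nat.eq_of_mul_eq_mul_left hpp.pos h2
    have nM : P ≤ normalizer (M : Set X) := fun g hg => norm_of_cs hDM (hPM' hg)
    have hME : ∀ r ∈ M, r ∈ E → r ∈ D := by
      intro r hrM hrE
      by_contra hrD
      apply hPE
      have h2 : M ≤ E := le_of_card_p pM hDM hcM.ge s.DE hrM hrD hrE
      have h3 : M = E := by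
        refine Subgroup.eq_of_le_of_card_ge h2 ?_
        rw [← hcM, ← card_mul_relIndex' s.DE, s.cDE]
      rw [← h3]
      exact nM
    have hNself : ∀ n ∈ N, n * γ * n⁻¹ * γ⁻¹ ∈ Φ → n ∈ M := by
      intro n hn hnγ
      by_contra hnM
      apply hγD
      have h4 := card_mul_relIndex' hMN
      rw [hMNc] at h4
      have h5 : N ≤ sc γ Φ := by
        refine le_of_card_p pN hMN h4.ge ?_ hn hnM ?_
        · refine hMgen _ (fun d hd => ⟨hNΦ (hDN hd), (s.NDΦ hγN).2 d hd⟩) ⟨hNΦ hγN, ?_⟩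
          rw [mul_inv_cancel_right, mul_inv_cancel]
          exact one_mem _
        · refine ⟨hNΦ hn, ?_⟩
          have h6 := inv_mem hnγ
          have e : (n * γ * n⁻¹ * γ⁻¹)⁻¹ = γ * n * γ⁻¹ * n⁻¹ := by group
          rwa [e] at h6
      refine s.self γ hγN fun n' hn' => ?_
      have h6 := inv_mem (h5 hn').2
      have e : (γ * n' * γ⁻¹ * n'⁻¹)⁻¹ = n' * γ * n'⁻¹ * γ⁻¹ := by group
      rwa [e] at h6
    -- the map `n ↦ [n, γ]`
    have hsur : ∀ w ∈ Z, ∃ n ∈ N, n * γ * n⁻¹ * (w * γ)⁻¹ ∈ Φ := by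
      have hZcen : ∀ n ∈ N, ∀ w ∈ Z, n * w * n⁻¹ * w⁻¹ ∈ Φ := fun n hn w hw => (s.NDΦ hn).2 w (s.ZD hw)
      let R : Subgroup X :=
        { carrier := {w | w ∈ Z ∧ ∃ n ∈ N, n * γ * n⁻¹ * (w * γ)⁻¹ ∈ Φ}
          one_mem' := ⟨one_mem _, 1, one_mem _, by
            have e : (1 : X) * γ * 1⁻¹ * (1 * γ)⁻¹ = 1 := by group
            rw [e]; exact one_mem _⟩
          mul_mem' := by
            rintro w w' ⟨hw, n, hn, hnw⟩ ⟨hw', n', hn', hnw'⟩
            refine ⟨mul_mem hw hw', n * n', mul_mem hn hn', ?_⟩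
            -- `n n' γ (n n')⁻¹ ≡ n w' γ n⁻¹ ≡ w' w γ`
            have e : n * n' * γ * (n * n')⁻¹ * (w * w' * γ)⁻¹ =
                (n * (n' * γ * n'⁻¹ * (w' * γ)⁻¹) * n⁻¹) * (n * w' * n⁻¹ * w'⁻¹) *
                (w' * (n * γ * n⁻¹ * (w * γ)⁻¹) * w'⁻¹) * (w' * w * w'⁻¹ * w⁻¹) := by group
            rw [e]
            have hw'N := hDN (s.ZD hw')
            exact mul_mem (mul_mem (mul_mem (conj_mem_of_norm (hNΦ hn) hnw') (hZcen n hn w' hw'))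
              (conj_mem_of_norm (hNΦ hw'N) hnw)) (hZcen w' hw'N w hw)
          inv_mem' := by
            rintro w ⟨hw, n, hn, hnw⟩
            refine ⟨inv_mem hw, n⁻¹, inv_mem hn, ?_⟩
            have hwN := hDN (s.ZD hw)
            have e : n⁻¹ * γ * n⁻¹⁻¹ * (w⁻¹ * γ)⁻¹ = (n⁻¹ * w⁻¹ * n⁻¹⁻¹ * w⁻¹⁻¹) *
                (w⁻¹ * (n⁻¹ * (n * γ * n⁻¹ * (w * γ)⁻¹)⁻¹ * n⁻¹⁻¹) * w⁻¹⁻¹) := by group
            rw [e]
            exact mul_mem (hZcen _ (inv_mem hn) _ (inv_mem hw)) (conj_mem_of_norm (inv_mem (hNΦ hwN))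
              (conj_mem_of_norm (inv_mem (hNΦ hn)) (inv_mem hnw))) }
      have hex : ∃ n ∈ N, n * γ * n⁻¹ * γ⁻¹ ∉ Φ := by
        by_contra hno
        push Not at hno
        exact hγD (s.self γ hγN hno)
      obtain ⟨n₀, hn₀, hn₀γ⟩ := hex
      have h4 := card_mul_relIndex' s.ΦZ
      rw [s.cΦZ] at h4
      have h5 : Z ≤ R := by
        refine le_of_card_p (pN.to_le (s.ZD.trans hDN)) s.ΦZ h4.ge ?_ (s.NNZ n₀ hn₀ γ hγN) hn₀γ ?_
        · intro w hw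
          refine ⟨s.ΦZ hw, 1, one_mem _, ?_⟩
          have e : (1 : X) * γ * 1⁻¹ * (w * γ)⁻¹ = w⁻¹ := by group
          rw [e]
          exact inv_mem hw
        · refine ⟨s.NNZ n₀ hn₀ γ hγN, n₀, hn₀, ?_⟩
          have e : n₀ * γ * n₀⁻¹ * (n₀ * γ * n₀⁻¹ * γ⁻¹ * γ)⁻¹ = 1 := by group
          rw [e]
          exact one_mem _
      exact fun w hw => (h5 hw).2
    -- `t` on `D / Z`
    have htDZ : ∀ d ∈ D, t * d * t⁻¹ * d⁻¹ ∈ Z := by
      have h2 : D ≤ sc t Z := by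
        intro d hd
        obtain ⟨κ, hκ, ζ, hζ, rfl⟩ := s.DKZ d hd
        refine mul_mem (⟨hNZ (hKN hκ), s.ΦZ (htK.2 κ hκ)⟩ : κ ∈ sc t Z) ⟨le_normalizer hζ, ?_⟩
        exact mul_mem (conj_mem_of_norm (s.nZ ht0) hζ) (inv_mem hζ)
      exact fun d hd => (h2 hd).2
    have hxDΦ : ∀ d ∈ D, x * d * x⁻¹ * d⁻¹ ∈ Φ := by
      have h2 : D ≤ sc x Φ := by
        intro d hd
        obtain ⟨κ, hκ, ζ, hζ, rfl⟩ := s.DKZ d hd
        exact mul_mem (⟨hNΦ (hKN hκ), (hPcsKΦ hxP).2 κ hκ⟩ : κ ∈ sc x Φ)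
          (⟨hNΦ (hDN (s.ZD hζ)), (hPcsZΦ hxP).2 ζ hζ⟩ : ζ ∈ sc x Φ)
      exact fun d hd => (h2 hd).2
    have hxpN : x ^ p ∈ N := by
      have h2 : Nat.card (P ⧸ N.subgroupOf P) = p := hPc
      have hnor : (N.subgroupOf P).Normal := by
        refine ⟨fun n hn g => ?_⟩
        exact mem_subgroupOf.2 (conj_mem_of_norm (hPN g.2) (mem_subgroupOf.1 hn))
      have h3 : ((⟨x, hxP⟩ : P) : P ⧸ N.subgroupOf P) ^ p = 1 := by
        rw [← h2]
        exact pow_card_eq_one'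
      rw [← QuotientGroup.mk_pow, QuotientGroup.eq_one_iff] at h3
      exact h3
    have hczc : (cz.val : ZMod p) = cz := ZMod.natCast_zmod_val cz
    have ht'N : t' ∈ normalizer (N : Set X) := h.H0N ht'0
    obtain ⟨n, hn, hnp, hnm⟩ := fin_mod (p := p) (D := D) (M := M) (N := N) (Z := Z) (Φ := Φ) (γ := γ) (x := x)
      (h := t') (c := cz.val) hDM hMN s.ZD s.ΦZ hNΦ (hPΦ hxP) (s.nΦ ht'0) (hPN hxP) hxpN
      (fun d hd n hn => (s.NDΦ hn).2 d hd) hxDΦ s.exp hγM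
      (by
        intro m hm
        have h2 : M ≤ D ⊔ zpowers γ := hMgen _ le_sup_left (mem_sup_right (mem_zpowers γ))
        have h3 : m ∈ zpowers γ ⊔ D := by rw [sup_comm]; exact h2 hm
        obtain ⟨a, ha, d, hd, rfl⟩ := (mem_sup_iff (by rw [zpowers_le]; exact hND hγN)).1 h3
        obtain ⟨i, hi⟩ := mem_powers_iff_mem_zpowers.2 ha
        have hi' : γ ^ i = a := hi
        refine ⟨a * d * a⁻¹, conj_mem_of_norm ?_ hd, i, ?_⟩
        · rw [← hi']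
          exact pow_mem (hND hγN) i
        · rw [hi', inv_mul_cancel_right])
      s.NNZ hsur hNself ((hPM' hxP).2 γ hγM)
      (fun d hd => by rw [ht'n d (hDN hd)]; exact htDZ d hd)
      (fun m hm => by
        rw [ht'n m (hMN hm)]
        exact hME _ (mul_mem (conj_mem_of_norm hMt hm) (inv_mem (pow_mem hm _))) (htN m (hMN hm)))
      (fun w hw => by rw [ht'n w (hDN (s.ZD hw))]; exact htZ w hw) ht'N (by rw [← hk]; exact hxv)
      (by rw [hczc]; exact cz0) (by rw [hczc]; exact cz1) (by rw [hczc]; exact cz2) (by rw [hczc]; exact cz3)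
      (by rw [hczc]; exact cz5)
    -- the elementary abelian section of order `p⁴`
    obtain ⟨x₁, hx₁⟩ : ∃ x₁, x₁ = n * x := ⟨_, rfl⟩
    rw [← hx₁] at hnp hnm
    have hx₁P : x₁ ∈ P := hx₁ ▸ mul_mem (hNP hn) hxP
    have hx₁N : x₁ ∉ N := by
      intro hh
      apply hxN
      have : x = n⁻¹ * x₁ := by rw [hx₁]; group
      rw [this]
      exact mul_mem (inv_mem hn) hh
    have hx₁m : ∀ m ∈ M, m * x₁ * m⁻¹ * x₁⁻¹ ∈ Φ := by
      intro m hm
      have h2 := inv_mem (hnm m hm)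
      have e : (x₁ * m * x₁⁻¹ * m⁻¹)⁻¹ = m * x₁ * m⁻¹ * x₁⁻¹ := by group
      rwa [e] at h2
    have hone : ∀ r : X, r * r * r⁻¹ * r⁻¹ ∈ Φ := by
      intro r
      rw [mul_inv_cancel_right, mul_inv_cancel]
      exact one_mem _
    have hMM : ∀ m ∈ M, ∀ m' ∈ M, m * m' * m⁻¹ * m'⁻¹ ∈ Φ := by
      intro m hm m' hm'
      have hγm : ∀ r ∈ M, γ * r * γ⁻¹ * r⁻¹ ∈ Φ := by
        have h2 : M ≤ sc γ Φ := hMgen _ (fun d hd => ⟨hNΦ (hDN hd), (s.NDΦ hγN).2 d hd⟩) ⟨hNΦ hγN, hone γ⟩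
        exact fun r hr => (h2 hr).2
      have h3 : M ≤ sc m' Φ := by
        refine hMgen _ (fun d hd => ⟨hNΦ (hDN hd), (s.NDΦ (hMN hm')).2 d hd⟩) ⟨hNΦ hγN, ?_⟩
        have h4 := inv_mem (hγm m' hm')
        have e : (γ * m' * γ⁻¹ * m'⁻¹)⁻¹ = m' * γ * m'⁻¹ * γ⁻¹ := by group
        rwa [e] at h4
      have h4 := inv_mem (h3 hm).2
      have e : (m' * m * m'⁻¹ * m⁻¹)⁻¹ = m * m' * m⁻¹ * m'⁻¹ := by group
      rwa [e] at h4
    have hΓ := EA_mod (p := p) (B := Φ) (T := (M : Set X) ∪ {x₁}) (by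
      rintro r (hr | hr)
      · exact hNΦ (hMN hr)
      · rw [Set.mem_singleton_iff.1 hr]; exact hPΦ hx₁P) (by
      rintro r (hr | hr) r' (hr' | hr')
      · exact hMM r hr r' hr'
      · rw [Set.mem_singleton_iff.1 hr']; exact hx₁m r hr
      · rw [Set.mem_singleton_iff.1 hr]; exact hnm r' hr'
      · rw [Set.mem_singleton_iff.1 hr, Set.mem_singleton_iff.1 hr']; exact hone _) (by
      rintro r (hr | hr)
      · exact s.exp r (hMN hr)
      · rw [Set.mem_singleton_iff.1 hr]; exact hnp)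
    obtain ⟨Γ, hΓd⟩ : ∃ Γ, Γ = closure ((M : Set X) ∪ {x₁}) := ⟨_, rfl⟩
    rw [← hΓd] at hΓ
    have hMΓ : M ≤ Γ := by
      rw [hΓd]
      exact fun m hm => subset_closure (Or.inl hm)
    have hxΓ : x₁ ∈ Γ := by
      rw [hΓd]
      exact subset_closure (Or.inr rfl)
    have hΓP : Γ ≤ P := by
      rw [hΓd, closure_le]
      rintro r (hr | hr)
      · exact hNP (hMN hr)
      · rw [Set.mem_singleton_iff.1 hr]; exact hx₁P
    have hΦΓ : Φ ≤ Γ := (hΦD.trans hDM).trans hMΓ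
    have h7 := srP Γ Φ hΦΓ hΓP hΓ.1 hΓ.2
    have h8 := grow hPp (hMN.trans hNP) hx₁P (fun hh => hx₁N (hMN hh))
    have h9 : Nat.card (M ⊔ zpowers x₁ : Subgroup X) ≤ Nat.card Γ := by
      refine Subgroup.card_le_of_le ?_
      exact sup_le hMΓ (by rwa [zpowers_le])
    have h10 : Nat.card Φ * p ^ 3 = Nat.card M := by
      rw [← hcM, ← card_mul_relIndex' hΦD, s.cΦD]
      ring
    have h11 : Nat.card Φ * Φ.relIndex Γ = Nat.card Γ := card_mul_relIndex' hΦΓ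
    have h12 : Nat.card Φ * p ^ 4 ≤ Nat.card Φ * Φ.relIndex Γ := by
      calc Nat.card Φ * p ^ 4 = (Nat.card Φ * p ^ 3) * p := by ring
        _ = Nat.card M * p := by rw [h10]
        _ ≤ _ := by rw [h11]; exact h8.trans h9
    have h13 := Nat.le_of_mul_le_mul_left h12 Nat.card_pos
    have h14 : p ^ 4 ≤ p ^ 3 := h13.trans h7
    exact absurd ((Nat.pow_le_pow_iff_right hpp.one_lt).1 h14) (by norm_num)

end

end Cfsg.Agent.H765
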