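import Cfsg.Agent.H765.Axis

/-!
# `|E / K| = p³` is impossible for `p ≥ 5` (helper765)
-/

set_option autoImplicit false
set_option linter.unusedSectionVars false
set_option linter.unusedSimpArgs false
set_option linter.unusedVariables false

namespace Cfsg.Agent.H765

open Module Subgroup

universe u

variable {X : Type u} [Group X]

theorem mem_of_coprime_pow {A : Subgroup X} {x : X} {m n : ℕ} (hm : x ^ m ∈ A) (hn : x ^ n ∈ A) (h : m.Coprime n) :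
    x ∈ A := by
  have h3 : x ^ ((m : ℤ) * Nat.gcdA m n + (n : ℤ) * Nat.gcdB m n) ∈ A := by
    rw [zpow_add, zpow_mul, zpow_mul, zpow_natCast, zpow_natCast]
    exact A.mul_mem (A.zpow_mem hm _) (A.zpow_mem hn _)
  rw [← Nat.gcd_eq_gcd_ab, h.gcd_eq_one, Nat.cast_one, zpow_one] at h3
  exact h3

theorem exists_ppart [Finite X] {p : ℕ} [hp : Fact p.Prime] {x : X} {A : Subgroup X} {k : ℕ} (hk : x ^ p ^ k ∈ A)
    (hx : x ∉ A) : ∃ m j : ℕ, (x ^ m) ^ p ^ j = 1 ∧ x ^ m ∉ A := by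
  obtain ⟨a, m, hm, hn⟩ := Nat.exists_eq_pow_mul_and_not_dvd (orderOf_pos x).ne' p hp.out.ne_one
  refine ⟨m, a, ?_, fun h => hx ?_⟩
  · rw [← pow_mul, mul_comm, ← hn, pow_orderOf_eq_one]
  · refine mem_of_coprime_pow h hk (Nat.Coprime.pow_right _ ?_)
    exact ((Nat.Prime.coprime_iff_not_dvd hp.out).2 hm).symm

theorem norm_of_cs {E D : Subgroup X} {x : X} (hDE : D ≤ E) (hx : x ∈ cs E D) : x ∈ normalizer (E : Set X) := by
  have h2 : zpowers x ≤ normalizer (E : Set X) := by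
    refine le_norm_of fun y hy a ha => ?_
    have h3 : zpowers x ≤ cs E D := by rw [zpowers_le]; exact hx
    have h4 := mul_mem (hDE ((h3 hy).2 a ha)) ha
    rwa [inv_mul_cancel_right] at h4
  exact h2 (mem_zpowers x)

theorem pow_mod {D : Subgroup X} {a b : X} (ha : a ∈ D) (hb : b ∈ normalizer (D : Set X)) (n : ℕ) :
    (a * b) ^ n * (b ^ n)⁻¹ ∈ D := by
  have ha' : a ∈ normalizer (D : Set X) := le_normalizer ha
  have h1 : qf D (⟨a, ha'⟩ * ⟨b, hb⟩) = qf D ⟨b, hb⟩ := by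
    rw [map_mul, qf_eq_one.2 (show ((⟨a, ha'⟩ : normalizer (D : Set X)) : X) ∈ D from ha), one_mul]
  have h2 : qf D ((⟨a, ha'⟩ * ⟨b, hb⟩) ^ n * (⟨b, hb⟩ ^ n)⁻¹) = 1 := by
    rw [map_mul, map_pow, h1, map_inv, map_pow, mul_inv_cancel]
  exact qf_eq_one.1 h2

section

variable {p : ℕ} [Fact p.Prime] [Finite X] {N E H H0 D K : Subgroup X}

theorem exists_axis (hs : Sct p H0 N D) (hNp : IsPGroup p N) (hc : D.relIndex N = p ^ 2) {P : Subgroup X}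
    (hP : IsPGroup p P) (hNP : N ≤ P) (hPH : P ≤ H0) :
    ∃ M, D ≤ M ∧ M ≤ N ∧ D.relIndex M = p ∧ P ≤ cs N M ∧ P ≤ cs M D := by
  have hpp : p.Prime := Fact.out
  have hne : ¬ N ≤ D := by
    intro hle
    rw [relIndex_eq_one.2 hle] at hc
    exact (Nat.one_lt_pow (by norm_num) hpp.one_lt).ne hc
  have nD : P ≤ normalizer (D : Set X) := hPH.trans hs.n2
  obtain ⟨x, hx, hxD, hxp, hxP⟩ := exists_mod_in hP hNP hs.le hne nD (hPH.trans hs.n1)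
  have hxn : x ∈ normalizer (D : Set X) := hs.n12 hx
  obtain ⟨M, hM⟩ : ∃ M, M = D ⊔ zpowers x := ⟨_, rfl⟩
  have hDM : D ≤ M := hM ▸ le_sup_left
  have hMN : M ≤ N := hM ▸ sup_le hs.le (by rwa [zpowers_le])
  have hMp : IsPGroup p M := hNp.to_le hMN
  have hc1 : Nat.card M ≤ Nat.card D * p := hM ▸ card_sup_zpowers_le hxn hxp
  have hc2 : Nat.card D * p ≤ Nat.card M := by
    have := grow hNp hs.le hx hxD
    rwa [← hM] at this
  have hMc : D.relIndex M = p := by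
    have h1 := card_mul_relIndex' hDM
    have h2 : Nat.card D * D.relIndex M = Nat.card D * p := by rw [h1]; exact le_antisymm hc1 hc2
    exact Nat.eq_of_mul_eq_mul_left Nat.card_pos h2
  have hMc' : M.relIndex N = p := by
    have h3 : D.relIndex M * M.relIndex N = D.relIndex N := relIndex_mul_relIndex _ _ _ hDM hMN
    rw [hMc, hc, pow_two] at h3
    exact Nat.eq_of_mul_eq_mul_left hpp.pos h3
  have hPM : P ≤ cs M D := by
    intro g hg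
    refine ⟨nD hg, fun r hr => ?_⟩
    have h1 : M ≤ sc g D := by
      rw [hM]
      refine sup_le (fun d hd => ⟨le_normalizer hd, mul_mem (conj_mem_of_norm (nD hg) hd) (inv_mem hd)⟩) ?_
      rw [zpowers_le]
      exact ⟨hxn, hxP g hg⟩
    exact (h1 hr).2
  have nM : P ≤ normalizer (M : Set X) := fun g hg => norm_of_cs hDM (hPM hg)
  exact ⟨M, hDM, hMN, hMc, N_le_cs hP hMN (hNP.trans nM) (hPH.trans hs.n1) nM hNp hMc'.le, hPM⟩

/-- **Case A2**. -/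
theorem caseA2 (hp5 : 5 ≤ p) (h : Par p N E H H0) (ad : Ad p N E H H0) (nn : ¬ H0 ≤ normalizer (E : Set X))
    (c : IsCo E H H0 K) (hcomm : ∀ a ∈ E, ∀ b ∈ E, a * b * a⁻¹ * b⁻¹ ∈ K) (hpow : ∀ a ∈ E, a ^ p ∈ K)
    (npt : ¬ PT p (Lc N H) E K) (hc3 : K.relIndex E = p ^ 3) : False := by
  have hpp : p.Prime := Fact.out
  have hp2 : p ≠ 2 := by omega
  have hEK : E ≤ normalizer (K : Set X) := h.EH.trans c.n
  have hNK : N ≤ normalizer (K : Set X) := h.NH.trans c.n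
  have hs : Sct p H E K := ⟨c.le, h.HE, c.n, hEK, hcomm, hpow⟩
  have hKN : K ≤ N := c.le.trans h.EN
  -- `g`, `y`
  obtain ⟨g, hg, hgE⟩ : ∃ g ∈ H0, cj g E ≠ E := by
    by_contra hno
    push Not at hno
    exact nn fun g hg => mem_norm_of_cj (hno g hg)
  have hgN : cj g E ≤ N := by
    have h1 : cj g E ≤ cj g N := cj_mono h.EN
    rwa [cj_eq (h.H0N hg)] at h1
  have hne : ¬ cj g E ≤ E := fun hh => hgE (Subgroup.eq_of_le_of_card_ge hh cj_card.ge)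
  obtain ⟨y, hy, hyE⟩ := SetLike.not_le_iff_exists.1 hne
  have hyN : y ∈ N := hgN hy
  have hycomm : ∀ x ∈ cj g E, y * x * y⁻¹ * x⁻¹ ∈ K := by
    intro x hx
    obtain ⟨a, ha, hay⟩ := hy
    obtain ⟨b, hb, hbx⟩ := hx
    have ha' : y = g * a * g⁻¹ := hay.symm
    have hb' : x = g * b * g⁻¹ := hbx.symm
    have h1 := conj_mem_of_norm (c.n0 hg) (hcomm a ha b hb)
    have e : g * (a * b * a⁻¹ * b⁻¹) * g⁻¹ = y * x * y⁻¹ * x⁻¹ := by rw [ha', hb']; group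
    rwa [e] at h1
  have hyp : y ^ p ∈ K := by
    obtain ⟨a, ha, hay⟩ := hy
    have ha' : y = g * a * g⁻¹ := hay.symm
    rw [ha', conj_pow]
    exact conj_mem_of_norm (c.n0 hg) (hpow a ha)
  -- `D`
  obtain ⟨D, hD⟩ : ∃ D, D = fx N N K := ⟨_, rfl⟩
  have hDm : ∀ x, x ∈ D ↔ x ∈ N ∧ ∀ n ∈ N, n * x * n⁻¹ * x⁻¹ ∈ K := by
    intro x
    rw [hD, mem_fx]
    exact ⟨fun h => ⟨h.1, h.2.2⟩, fun h => ⟨h.1, hNK h.1, h.2⟩⟩
  have nD : H0 ≤ normalizer (D : Set X) := hD ▸ norm_fx h.H0N h.H0N c.n0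
  have hDE : D ≤ E := by
    intro x hx
    rw [hDm] at hx
    refine h.not_mem_of_not_pt h.HE c.n npt hx.1 ⟨hNK hx.1, fun r hr => ?_⟩
    have h2 := inv_mem (hx.2 r (h.EN hr))
    have e : (r * x * r⁻¹ * x⁻¹)⁻¹ = x * r * x⁻¹ * r⁻¹ := by group
    rwa [e] at h2
  have hKD : K ≤ D := fun k hk => (hDm k).2 ⟨hKN hk, fun n hn => mul_mem (conj_mem_of_norm (hNK hn) hk) (inv_mem hk)⟩
  have hNDK : N ≤ cs D K := fun n hn => ⟨hNK hn, fun r hr => ((hDm r).1 hr).2 n hn⟩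
  have hDne : ¬ E ≤ D := by
    intro hh
    apply npt
    exact PT.of_cs (Lc_le_cs' h.HE c.n fun n hn => ⟨hNK hn, fun r hr => ((hDm r).1 (hh hr)).2 n hn⟩)
  have hcap : E ⊓ cj g E ≤ D := by
    intro x hx
    rw [hDm]
    have hxN := h.EN hx.1
    refine ⟨hxN, fun n hn => ?_⟩
    have h1 : N ≤ sc x K := by
      refine h.le_of_not_mem hyN hyE (fun e he => ⟨hEK he, hcomm x hx.1 e he⟩) ⟨hNK hyN, ?_⟩
      have h2 := inv_mem (hycomm x hx.2)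
      have e : (y * x * y⁻¹ * x⁻¹)⁻¹ = x * y * x⁻¹ * y⁻¹ := by group
      rwa [e] at h2
    have h2 := inv_mem (h1 hn).2
    have e : (x * n * x⁻¹ * n⁻¹)⁻¹ = n * x * n⁻¹ * x⁻¹ := by group
    rwa [e] at h2
  have hEc : Nat.card E ≤ Nat.card D * p :=
    (inf_card h (h.conj hg)).trans (Nat.mul_le_mul_right p (Subgroup.card_le_of_le hcap))
  have hDc : D.relIndex E = p := by
    have h1 := card_mul_relIndex' hDE
    have h2 := card_mul_p_le h.pE hDE hDne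
    have h3 : Nat.card D * D.relIndex E = Nat.card D * p := by rw [h1]; exact le_antisymm hEc h2
    exact Nat.eq_of_mul_eq_mul_left Nat.card_pos h3
  have hDN2 : D.relIndex N = p ^ 2 := by
    rw [← relIndex_mul_relIndex _ _ _ hDE h.EN, hDc, h.ix, pow_two]
  have hKDc : K.relIndex D = p ^ 2 := by
    have h1 := relIndex_mul_relIndex _ _ _ hKD hDE
    rw [hDc, hc3] at h1
    have h2 : K.relIndex D * p = p ^ 2 * p := by rw [h1]; ring
    exact Nat.eq_of_mul_eq_mul_right hpp.pos h2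
  have hND' : N ≤ normalizer (D : Set X) := h.N0.trans nD
  have hNED : N ≤ cs E D := N_le_cs h.pN hDE (h.EN.trans hND') h.NE hND' h.pE hDc.le
  have hsD : Sct p H0 N D := by
    have h1 := EA_mod (p := p) (B := D) (T := (E : Set X) ∪ {y}) (by
      rintro x (hx | hx)
      · exact hND' (h.EN hx)
      · rw [Set.mem_singleton_iff.1 hx]; exact hND' hyN) (by
      rintro s (hs' | hs') t (ht | ht)
      · exact hKD (hcomm s hs' t ht)
      · rw [Set.mem_singleton_iff.1 ht]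
        have h2 := inv_mem ((hNED hyN).2 s hs')
        have e : (y * s * y⁻¹ * s⁻¹)⁻¹ = s * y * s⁻¹ * y⁻¹ := by group
        rwa [e] at h2
      · rw [Set.mem_singleton_iff.1 hs']
        exact (hNED hyN).2 t ht
      · rw [Set.mem_singleton_iff.1 hs', Set.mem_singleton_iff.1 ht, mul_inv_cancel_right, mul_inv_cancel]
        exact one_mem _) (by
      rintro t (ht | ht)
      · exact hKD (hpow t ht)
      · rw [Set.mem_singleton_iff.1 ht]; exact hKD hyp)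
    have h2 : N ≤ closure ((E : Set X) ∪ {y}) := h.le_of_not_mem hyN hyE
      (fun e he => subset_closure (Or.inl he)) (subset_closure (Or.inr rfl))
    exact ⟨hDE.trans h.EN, h.H0N, nD, hND', fun a ha b hb => h1.1 a (h2 ha) b (h2 hb), fun a ha => h1.2 a (h2 ha)⟩
  -- `Z`
  have hEcs : E ≤ cs E K := fun e he => ⟨hEK he, fun r hr => hcomm e he r hr⟩
  obtain ⟨Z, hKZ, hZE, hZc, hNZ⟩ := h.exists_Z' hs le_rfl hEcs npt hKD hDE hDc.le hNDK
  obtain ⟨V₁, V₂, dec, htor⟩ := h.exists_torus hs le_rfl hEcs hc3.le npt hKZ hZE hZc hNZ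
  have hNnZ : N ≤ normalizer (Z : Set X) := fun n hn => (hNZ hn).1
  have hNcsZ : N ≤ cs Z K := N_le_cs h.pN hKZ (hZE.trans hEK) hNnZ hNK (h.pE.to_le hZE) hZc.le
  have hZD : Z ≤ D := fun z hz => (hDm z).2 ⟨h.EN (hZE hz), fun n hn => (hNcsZ hn).2 z hz⟩
  have hNNZ : ∀ a ∈ N, ∀ b ∈ N, a * b * a⁻¹ * b⁻¹ ∈ Z := by
    intro a ha b hb
    by_cases haE : a ∈ E
    · have h2 := inv_mem ((hNZ hb).2 a haE)
      have e : (b * a * b⁻¹ * a⁻¹)⁻¹ = a * b * a⁻¹ * b⁻¹ := by group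
      rwa [e] at h2
    · have h2 : N ≤ sc a Z := by
        refine h.le_of_not_mem ha haE (fun e he => ⟨hNnZ (h.EN he), (hNZ ha).2 e he⟩) ⟨hNnZ ha, ?_⟩
        rw [mul_inv_cancel_right, mul_inv_cancel]
        exact one_mem _
      exact (h2 hb).2
  have nZ : H0 ≤ normalizer (Z : Set X) := by
    obtain ⟨Z', hZ'⟩ : ∃ Z', Z' = cc N N ⊔ K := ⟨_, rfl⟩
    have nZ' : H0 ≤ normalizer (Z' : Set X) := hZ' ▸ norm_sup (norm_cc h.H0N h.H0N) c.n0
    have h1 : Z' ≤ Z := hZ' ▸ sup_le (cc_le_iff.2 hNNZ) hKZ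
    have h2 : Z ≤ Z' := by
      have h3 : ¬ Z' ≤ K := by
        intro hh
        apply hDne
        intro e he
        rw [hDm]
        exact ⟨h.EN he, fun n hn => hh (hZ' ▸ mem_sup_left (mem_cc hn (h.EN he)))⟩
      obtain ⟨w, hw, hwK⟩ := SetLike.not_le_iff_exists.1 h3
      have h4 := card_mul_relIndex' hKZ
      rw [hZc] at h4
      exact le_of_card_p (h.pE.to_le hZE) hKZ h4.ge (hZ' ▸ le_sup_right) (h1 hw) hwK hw
    rw [le_antisymm h2 h1]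
    exact nZ'
  -- `V₁`
  have hV1D : V₁ ≤ D := fun v hv => (hDm v).2 ⟨h.EN (dec.le1' hv), fun n hn => (dec.L1 (le_Lc N H hn)).2 v hv⟩
  have hV1K : ¬ V₁ ≤ K := by
    intro hh
    have h1 : E ≤ V₂ := by
      intro e he
      obtain ⟨a, ha, b, hb, rfl⟩ := dec.sup e he
      exact mul_mem (dec.le2 (hh ha)) hb
    have h2 : V₂ = E := le_antisymm dec.le2' h1
    have h3 := dec.card2
    rw [h2, hc3] at h3
    exact absurd ((Nat.pow_right_injective hpp.two_le) h3) (by norm_num)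
  have hV1n : ¬ H0 ≤ normalizer (V₁ : Set X) := fun hh => hV1K (c.max V₁ dec.le1' dec.n1 hh)
  obtain ⟨x, hx, hxV⟩ := SetLike.not_le_iff_exists.1 hV1n
  -- the section `D / K`
  have hsDK : Sct p H0 D K := ⟨hKD, nD, c.n0, hDE.trans hEK, fun a ha b hb => hcomm a (hDE ha) b (hDE hb),
    fun a ha => hpow a (hDE ha)⟩
  obtain ⟨V, i1, i2, ⟨s⟩⟩ := hsDK.exists_rep
  have hfin : Module.Finite (ZMod p) V := s.finite
  have hVr : finrank (ZMod p) V = 2 := s.finrank_eq hKD hKDc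
  have hρ1 : ∀ x : H0, (x : X) ∈ cs D K ↔ s.ρ x = 1 := fun x => s.mem_cs_iff nD c.n0 x
  have hZr : finrank (ZMod p) (s.push Z hZD) = 1 := by
    have h1 := s.relIndex_pull hKD (s.push Z hZD)
    rw [s.pull_push hZD hKZ, hZc] at h1
    exact (Nat.pow_right_injective hpp.two_le (by show p ^ 1 = _; rw [pow_one]; exact h1)).symm
  obtain ⟨⟨z₀, hz₀⟩, hz₀0, hz₀g⟩ := finrank_eq_one_iff'.1 hZr
  have hz0 : z₀ ≠ 0 := fun h0 => hz₀0 (Subtype.ext h0)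
  have hZg : ∀ v ∈ Z, ∃ a : ZMod p, a • z₀ = s.π v := fun v hv => by
    obtain ⟨a, ha⟩ := hz₀g ⟨s.π v, v, hv, rfl⟩
    exact ⟨a, congrArg Subtype.val ha⟩
  obtain ⟨z, hzZ, hzz⟩ := hz₀
  obtain ⟨v, hvV, hvK⟩ := SetLike.not_le_iff_exists.1 hV1K
  have hvD := hV1D hvV
  have hzD := hZD hzZ
  obtain ⟨v₀, hv₀⟩ : ∃ v₀, v₀ = s.π v := ⟨_, rfl⟩
  have hvZ : v ∉ Z := fun hh => hvK (dec.inf v hvV (dec.ZV hh))
  have hv0 : v₀ ≠ 0 := by
    intro h0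
    rw [hv₀, s.zero v hvD] at h0
    exact hvK h0
  have hind : ∀ a : ZMod p, v₀ ≠ a • z₀ := by
    intro a ha
    apply hvZ
    have h1 : v ∈ s.pull (s.push Z hZD) := by
      refine ⟨hvD, ?_⟩
      rw [← hv₀, ha]
      exact Submodule.smul_mem _ _ ⟨z, hzZ, hzz⟩
    rwa [s.pull_push hZD hKZ] at h1
  have hspan : ∀ w : V, ∃ α β : ZMod p, w = α • v₀ + β • z₀ := by
    intro w
    have h1 : Submodule.span (ZMod p) {z₀, v₀} = ⊤ := by
      apply Submodule.eq_top_of_finrank_eq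
      rw [hVr]
      have hli : LinearIndependent (ZMod p) ![z₀, v₀] := by
        rw [LinearIndependent.pair_iff' hz0]
        exact fun a ha => hind a ha.symm
      have h2 := finrank_span_eq_card hli
      have h3 : Set.range ![z₀, v₀] = {z₀, v₀} := by simp [Matrix.range_cons, Set.pair_comm]
      rw [Fintype.card_fin, h3] at h2
      exact h2
    have h2 : w ∈ Submodule.span (ZMod p) {z₀, v₀} := by rw [h1]; trivial
    obtain ⟨α, β, hab⟩ := Submodule.mem_span_pair.1 h2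
    exact ⟨β, α, by rw [← hab]; abel⟩
  -- elements with second coordinate zero are in `V₁`
  have hV1m : ∀ r ∈ D, ∀ a : ZMod p, s.π r = a • v₀ → r ∈ V₁ := by
    intro r hr a ha
    have h1 : s.π r = s.π (v ^ a.val) := by
      rw [s.npow hvD, ha, ← hv₀, ZMod.natCast_zmod_val]
    rw [s.eq_iff hr (pow_mem hvD _)] at h1
    have h2 := mul_mem (dec.le1 h1) (pow_mem hvV a.val)
    rwa [inv_mul_cancel_right] at h2
  -- `x` moves `v₀`
  obtain ⟨α, β, hxv⟩ := hspan (s.ρ ⟨x, hx⟩ v₀)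
  have hβ : ∀ r ∈ V₁, ∃ a : ZMod p, s.π r = a • v₀ := by
    intro r hr
    obtain ⟨a, b, hab⟩ := hspan (s.π r)
    have h1 : r * (v ^ a.val)⁻¹ ∈ Z := by
      have h2 : r * (v ^ a.val)⁻¹ ∈ s.pull (s.push Z hZD) := by
        refine ⟨mul_mem (hV1D hr) (inv_mem (pow_mem hvD _)), ?_⟩
        rw [s.add _ (hV1D hr) _ (inv_mem (pow_mem hvD _)), s.inv (pow_mem hvD _), s.npow hvD, ← hv₀, hab,
          ZMod.natCast_zmod_val, add_neg_cancel_comm]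
        exact Submodule.smul_mem _ _ ⟨z, hzZ, hzz⟩
      rwa [s.pull_push hZD hKZ] at h2
    have h2 : r * (v ^ a.val)⁻¹ ∈ K := dec.inf _ (mul_mem hr (inv_mem (pow_mem hvV _))) (dec.ZV h1)
    refine ⟨a, ?_⟩
    rw [← s.eq_iff (hV1D hr) (pow_mem hvD _)] at h2
    rw [h2, s.npow hvD, ← hv₀, ZMod.natCast_zmod_val]
  have hβ0 : β ≠ 0 := by
    rintro rfl
    rw [zero_smul, add_zero] at hxv
    apply hxV
    have h1 : cj x V₁ ≤ V₁ := by
      rintro _ ⟨r, hr, rfl⟩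
      obtain ⟨a, ha⟩ := hβ r hr
      refine hV1m _ (conj_mem_of_norm (nD hx) (hV1D hr)) (a * α) ?_
      show s.π (x * r * x⁻¹) = _
      rw [← s.act ⟨x, hx⟩ r (hV1D hr), ha, map_smul, hxv, smul_smul]
    exact mem_norm_of_cj (Subgroup.eq_of_le_of_card_ge h1 cj_card.ge)
  obtain ⟨lam, hlam⟩ : ∃ lam : ZMod p, s.ρ ⟨x, hx⟩ z₀ = lam • z₀ := by
    obtain ⟨a, ha⟩ := hZg (x * z * x⁻¹) (conj_mem_of_norm (nZ hx) hzZ)
    exact ⟨a, by rw [ha, ← s.act ⟨x, hx⟩ z hzD, hzz]⟩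
  have hlam0 : lam ≠ 0 := by
    rintro rfl
    rw [zero_smul] at hlam
    exact hz0 ((s.ρ ⟨x, hx⟩).map_eq_zero_iff.1 hlam)
  have hα0 : α ≠ 0 := by
    rintro rfl
    rw [zero_smul, zero_add] at hxv
    have h1 : s.ρ ⟨x, hx⟩ (v₀ - (β * lam⁻¹) • z₀) = 0 := by
      rw [map_sub, map_smul, hxv, hlam, smul_smul, mul_assoc, inv_mul_cancel₀ hlam0, mul_one, sub_self]
    have h2 := (s.ρ ⟨x, hx⟩).map_eq_zero_iff.1 h1
    exact hind _ (sub_eq_zero.1 h2)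
  -- the torus element
  obtain ⟨cz, hcz1, hcz2⟩ : ∃ cz : ZMod p, cz ≠ 0 ∧ cz * cz ≠ 1 := by
    refine ⟨2, ?_, ?_⟩
    · intro h0
      have h1 : ((2 : ℕ) : ZMod p) = 0 := by exact_mod_cast h0
      rw [ZMod.natCast_eq_zero_iff] at h1
      have := Nat.le_of_dvd (by norm_num) h1
      omega
    · intro h0
      have h1 : ((3 : ℕ) : ZMod p) = 0 := by
        push_cast
        linear_combination h0
      rw [ZMod.natCast_eq_zero_iff] at h1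
      have := Nat.le_of_dvd (by norm_num) h1
      omega
  have hcz3 : cz ≠ 1 := by
    rintro rfl
    exact hcz2 (one_mul 1)
  obtain ⟨t, ht⟩ := htor cz.val (cz⁻¹).val (by
    rw [ZMod.natCast_zmod_val, ZMod.natCast_zmod_val, mul_inv_cancel₀ hcz1])
  have htH := ht.t0
  have htv : s.ρ ⟨t, htH⟩ v₀ = v₀ := by
    rw [hv₀, s.act _ v hvD, s.eq_iff (conj_mem_of_norm (nD htH) hvD) hvD]
    exact ht.t1.2 v hvV
  have htz : s.ρ ⟨t, htH⟩ z₀ = cz • z₀ := by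
    have h1 := ht.tZ z hzZ
    rw [← s.eq_iff (conj_mem_of_norm (nD htH) hzD) (pow_mem hzD _), s.npow hzD, ← s.act ⟨t, htH⟩ z hzD, hzz,
      ZMod.natCast_zmod_val] at h1
    exact h1
  have hinv : ∀ (y : H0) (v w : V), s.ρ y v = w → s.ρ y⁻¹ w = v := by
    intro y v w hyv
    rw [map_inv, ← hyv]
    exact (s.ρ y).symm_apply_apply _
  have hxiz : s.ρ (⟨x, hx⟩ : H0)⁻¹ z₀ = lam⁻¹ • z₀ := by
    apply hinv
    rw [map_smul, hlam, smul_smul, inv_mul_cancel₀ hlam0, one_smul]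
  have hxiv : s.ρ (⟨x, hx⟩ : H0)⁻¹ v₀ = α⁻¹ • v₀ - (α⁻¹ * β * lam⁻¹) • z₀ := by
    apply hinv
    rw [map_sub, map_smul, map_smul, hxv, hlam, smul_add, smul_smul, smul_smul, smul_smul, inv_mul_cancel₀ hα0, one_smul]
    have : α⁻¹ * β * lam⁻¹ * lam = α⁻¹ * β := by rw [mul_assoc, inv_mul_cancel₀ hlam0, mul_one]
    rw [this]
    abel
  have htiv : s.ρ (⟨t, htH⟩ : H0)⁻¹ v₀ = v₀ := hinv _ _ _ htv
  have htiz : s.ρ (⟨t, htH⟩ : H0)⁻¹ z₀ = cz⁻¹ • z₀ := by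
    apply hinv
    rw [map_smul, htz, smul_smul, inv_mul_cancel₀ hcz1, one_smul]
  -- `u₀`
  obtain ⟨u₀, hu₀⟩ : ∃ u₀ : H0, u₀ = (⟨t, htH⟩ : H0)⁻¹ * (⟨x, hx⟩ * ⟨t, htH⟩ * (⟨x, hx⟩ : H0)⁻¹) := ⟨_, rfl⟩
  obtain ⟨b₀, hb₀⟩ : ∃ b₀, b₀ = cz⁻¹ * (α⁻¹ * β * (1 - cz)) := ⟨_, rfl⟩
  have hb₀0 : b₀ ≠ 0 := by
    rw [hb₀]
    exact mul_ne_zero (inv_ne_zero hcz1) (mul_ne_zero (mul_ne_zero (inv_ne_zero hα0) hβ0) (sub_ne_zero.2 (Ne.symm hcz3)))
  have hu₀v : s.ρ u₀ v₀ = v₀ + b₀ • z₀ := by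
    rw [hu₀, map_mul, map_mul, map_mul]
    show s.ρ (⟨t, htH⟩ : H0)⁻¹ (s.ρ ⟨x, hx⟩ (s.ρ ⟨t, htH⟩ (s.ρ (⟨x, hx⟩ : H0)⁻¹ v₀))) = _
    rw [hxiv, map_sub, map_smul, map_smul, htv, htz, map_sub, map_smul, map_smul, map_smul, hxv, hlam, map_sub,
      map_smul, map_add, map_smul, map_smul, map_smul, map_smul, map_smul, htiv, htiz, hb₀]
    have e1 : α⁻¹ • α • v₀ = v₀ := by rw [smul_smul, inv_mul_cancel₀ hα0, one_smul]
    have e2 : (α⁻¹ * β * lam⁻¹) • cz • lam • cz⁻¹ • z₀ = (α⁻¹ * β) • z₀ := by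
      rw [smul_smul, smul_smul, smul_smul]
      congr 1
      field_simp
    rw [smul_add, e1, e2, smul_smul, smul_smul]
    have e3 : cz⁻¹ * (α⁻¹ * β * (1 - cz)) = α⁻¹ * (β * cz⁻¹) - α⁻¹ * β := by
      field_simp
    rw [e3]
    module
  have hu₀z : s.ρ u₀ z₀ = z₀ := by
    rw [hu₀, map_mul, map_mul, map_mul]
    show s.ρ (⟨t, htH⟩ : H0)⁻¹ (s.ρ ⟨x, hx⟩ (s.ρ ⟨t, htH⟩ (s.ρ (⟨x, hx⟩ : H0)⁻¹ z₀))) = _
    rw [hxiz, map_smul, htz, map_smul, map_smul, map_smul, hlam, map_smul, map_smul, htiz, smul_smul, smul_smul, smul_smul]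
    have : lam⁻¹ * cz * lam * cz⁻¹ = 1 := by field_simp
    rw [this, one_smul]
  have hpw : ∀ (k : ℕ) (y : H0) (b : ZMod p), s.ρ y v₀ = v₀ + b • z₀ → s.ρ y z₀ = z₀ →
      s.ρ (y ^ k) v₀ = v₀ + ((k : ZMod p) * b) • z₀ ∧ s.ρ (y ^ k) z₀ = z₀ := by
    intro k y b h1 h2
    induction k with
    | zero => simp
    | succ k ih =>
      rw [pow_succ', map_mul]
      constructor
      · show s.ρ y (s.ρ (y ^ k) v₀) = _
        rw [ih.1, map_add, map_smul, h1, h2, Nat.cast_succ]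
        module
      · show s.ρ y (s.ρ (y ^ k) z₀) = _
        rw [ih.2, h2]
  have hpw1 : ∀ (y : H0) (b : ZMod p), s.ρ y v₀ = v₀ + b • z₀ → s.ρ y z₀ = z₀ → (y : X) ^ p ^ 1 ∈ cs D K := by
    intro y b h1 h2
    have h3 := hpw (p ^ 1) y b h1 h2
    have h4 : ((y ^ p ^ 1 : H0) : X) ∈ cs D K := by
      rw [hρ1]
      ext w
      obtain ⟨a, b', rfl⟩ := hspan w
      rw [map_add, map_smul, map_smul, h3.1, h3.2, pow_one, CharP.cast_eq_zero, zero_mul, zero_smul, add_zero]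
      rfl
    exact h4
  have hnot : ∀ (y : H0) (b : ZMod p), b ≠ 0 → s.ρ y v₀ = v₀ + b • z₀ → (y : X) ∉ cs D K := by
    intro y b hb h1 hy
    rw [hρ1] at hy
    rw [hy] at h1
    have h2 : v₀ = v₀ + b • z₀ := h1
    exact (smul_ne_zero hb hz0) (left_eq_add.1 h2)
  -- a general contradiction
  have hNCE : N ⊔ CE H0 N ≤ cs D K := by
    refine sup_le hNDK ?_
    intro w hw
    refine ⟨c.n0 hw.1, fun r hr => ?_⟩
    rw [← mem_centralizer_iff.1 hw.2 r (h.EN (hDE hr)), mul_inv_cancel_right, mul_inv_cancel]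
    exact one_mem _
  have hcontr : ∀ w ∈ H0, ∀ j : ℕ, w ^ p ^ j = 1 → w ∈ normalizer (E : Set X) → w ∈ cs D K := by
    intro w hw j hj hwE
    refine hNCE (ad.mem h hw (k := j) ?_ hwE)
    rw [hj]
    exact one_mem _
  obtain ⟨m, j, hmj, hm⟩ := exists_ppart (p := p) (A := cs D K) (hpw1 u₀ b₀ hu₀v hu₀z) (hnot u₀ b₀ hb₀0 hu₀v)
  obtain ⟨u, hu⟩ : ∃ u : H0, u = u₀ ^ m := ⟨_, rfl⟩
  have huX : (u : X) = (u₀ : X) ^ m := by rw [hu]; rfl
  rw [← huX] at hmj hm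
  have huv := (hpw m u₀ b₀ hu₀v hu₀z).1
  have huz := (hpw m u₀ b₀ hu₀v hu₀z).2
  rw [← hu] at huv huz
  obtain ⟨b, hb⟩ : ∃ b, b = (m : ZMod p) * b₀ := ⟨_, rfl⟩
  rw [← hb] at huv
  have hb0 : b ≠ 0 := by
    rintro rfl
    apply hm
    rw [hρ1]
    ext w
    obtain ⟨a, b', rfl⟩ := hspan w
    rw [map_add, map_smul, map_smul, huv, huz, zero_smul, add_zero]
    rfl
  have huE : (u : X) ∉ normalizer (E : Set X) := fun hh => hm (hcontr u u.2 j hmj hh)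
  -- the axis
  have hPp : IsPGroup p (N ⊔ zpowers (u : X) : Subgroup X) := by
    have h1 : IsPGroup p (zpowers (u : X)) := by
      rintro ⟨w, n, hn⟩
      refine ⟨j, Subtype.ext ?_⟩
      have hn' : (u : X) ^ n = w := hn
      show w ^ p ^ j = 1
      rw [← hn', ← zpow_natCast, ← zpow_mul, mul_comm, zpow_mul, zpow_natCast, hmj, one_zpow]
    intro w
    obtain ⟨w, hw⟩ := w
    have hw' : w ∈ zpowers (u : X) ⊔ N := by rwa [sup_comm]
    obtain ⟨k, hk⟩ := exists_pow_mem_sup h1 ((zpowers_le.2 u.2).trans h.H0N) hw'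
    obtain ⟨k', hk'⟩ := h.pN ⟨_, hk⟩
    refine ⟨k + k', Subtype.ext ?_⟩
    show w ^ p ^ (k + k') = 1
    rw [pow_add, pow_mul]
    exact congrArg Subtype.val hk'
  obtain ⟨M, hDM, hMN, hMc, hPM, hPM'⟩ := exists_axis hsD h.pN hDN2 hPp le_sup_left
    (sup_le h.N0 (by rw [zpowers_le]; exact u.2))
  have huP : (u : X) ∈ N ⊔ zpowers (u : X) := mem_sup_right (mem_zpowers _)
  have hh1 : ∀ v ∈ E, t * v * t⁻¹ * (v ^ (cz⁻¹).val)⁻¹ ∈ D := by
    intro r hr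
    obtain ⟨a, ha, b', hb', rfl⟩ := dec.sup r hr
    have haD := hV1D ha
    have hbN := h.EN (dec.le2' hb')
    have h1 : t * a * t⁻¹ ∈ D := conj_mem_of_norm (nD htH) haD
    have h2 : t * b' * t⁻¹ * (b' ^ (cz⁻¹).val)⁻¹ ∈ D := hZD (ht.t2 b' hb')
    have h3 := pow_mod haD (hND' hbN) (cz⁻¹).val
    have e : t * (a * b') * t⁻¹ * ((a * b') ^ (cz⁻¹).val)⁻¹ =
        (t * a * t⁻¹) * (t * b' * t⁻¹ * (b' ^ (cz⁻¹).val)⁻¹) * ((a * b') ^ (cz⁻¹).val * (b' ^ (cz⁻¹).val)⁻¹)⁻¹ := by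
      group
    rw [e]
    exact mul_mem (mul_mem h1 h2) (inv_mem h3)
  rcases axis hsD hDE h.EN hDN2 hDc h.pN u.2 htH hDM hMN hMc (hPM huP) (hPM' huP) huE (h.HE ht.tH)
    (c := cz.val) (c' := (cz⁻¹).val) (by
      rw [ZMod.natCast_zmod_val, ZMod.natCast_zmod_val, mul_inv_cancel₀ hcz1]) hh1 ht.tN with
    ⟨w, hw, hwu⟩ | ⟨-, h1⟩
  · have h2 : w * u * w⁻¹ ∈ cs D K := by
      refine hcontr _ (mul_mem (mul_mem hw u.2) (inv_mem hw)) j ?_ (norm_of_cs hDE hwu)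
      rw [conj_pow, hmj]
      group
    have h3 := cs_conj nD c.n0 (inv_mem hw) h2
    have e : w⁻¹ * (w * u * w⁻¹) * w⁻¹⁻¹ = u := by group
    rw [e] at h3
    exact hm h3
  · obtain ⟨k, hk⟩ : ∃ k, k = cz.val * cz.val * cz.val := ⟨_, rfl⟩
    rw [← hk] at h1
    obtain ⟨y₁, hy₁⟩ : ∃ y₁ : H0, y₁ = ⟨t, htH⟩ * u * (⟨t, htH⟩ : H0)⁻¹ * (u ^ k)⁻¹ := ⟨_, rfl⟩
    have hy₁X : (y₁ : X) = t * u * t⁻¹ * ((u : X) ^ k)⁻¹ := by rw [hy₁]; rfl
    rw [← hy₁X] at h1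
    have hukv := (hpw k u b huv huz).1
    have hukz := (hpw k u b huv huz).2
    have huki : s.ρ (u ^ k)⁻¹ v₀ = v₀ - ((k : ZMod p) * b) • z₀ := by
      apply hinv
      rw [map_sub, map_smul, hukv, hukz]
      abel
    have hukiz : s.ρ (u ^ k)⁻¹ z₀ = z₀ := hinv _ _ _ hukz
    obtain ⟨b₁, hb₁⟩ : ∃ b₁, b₁ = cz * b - (k : ZMod p) * b := ⟨_, rfl⟩
    have hy₁z : s.ρ y₁ z₀ = z₀ := by
      rw [hy₁, map_mul, map_mul, map_mul]
      show s.ρ ⟨t, htH⟩ (s.ρ u (s.ρ (⟨t, htH⟩ : H0)⁻¹ (s.ρ (u ^ k)⁻¹ z₀))) = _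
      rw [hukiz, htiz, map_smul, huz, map_smul, htz, smul_smul, inv_mul_cancel₀ hcz1, one_smul]
    have hy₁v : s.ρ y₁ v₀ = v₀ + b₁ • z₀ := by
      rw [hy₁, map_mul, map_mul, map_mul]
      show s.ρ ⟨t, htH⟩ (s.ρ u (s.ρ (⟨t, htH⟩ : H0)⁻¹ (s.ρ (u ^ k)⁻¹ v₀))) = _
      rw [huki, map_sub, map_smul, htiv, htiz, map_sub, map_smul, map_smul, huv, huz, map_sub, map_smul, map_smul,
        map_add, map_smul, htv, htz, hb₁]
      have e1 : ((k : ZMod p) * b) • cz⁻¹ • cz • z₀ = ((k : ZMod p) * b) • z₀ := by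
        rw [smul_smul (cz⁻¹), inv_mul_cancel₀ hcz1, one_smul]
      rw [e1]
      module
    have hb₁0 : b₁ ≠ 0 := by
      rw [hb₁, hk]
      push_cast
      rw [ZMod.natCast_zmod_val]
      have e : cz * b - cz * cz * cz * b = cz * b * (1 - cz * cz) := by ring
      rw [e]
      exact mul_ne_zero (mul_ne_zero hcz1 hb0) (sub_ne_zero.2 (Ne.symm hcz2))
    obtain ⟨m', j', hmj', hm'⟩ := exists_ppart (p := p) (A := cs D K) (hpw1 y₁ b₁ hy₁v hy₁z) (hnot y₁ b₁ hb₁0 hy₁v)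
    refine hm' (hcontr _ (pow_mem y₁.2 m') j' hmj' ?_)
    have h5 : (y₁ : X) ^ m' ∈ cs N D := pow_mem h1 m'
    exact norm_of_cs hDE ⟨h5.1, fun r hr => h5.2 r (h.EN hr)⟩

end

end Cfsg.Agent.H765
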