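import Cfsg.Agent.H765.Red

/-!
# The action on the core (helper765)
-/

set_option autoImplicit false
set_option linter.unusedSectionVars false
set_option linter.unusedSimpArgs false
set_option linter.unusedVariables false

namespace Cfsg.Agent.H765

open Module Subgroup

universe u

variable {X : Type u} [Group X]

/-- The fixed points of `J` in `R₁ / R₂`. -/
def fx (J R₁ R₂ : Subgroup X) : Subgroup X where
  carrier := {k | k ∈ R₁ ∧ k ∈ normalizer (R₂ : Set X) ∧ ∀ j ∈ J, j * k * j⁻¹ * k⁻¹ ∈ R₂}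
  one_mem' := ⟨one_mem _, one_mem _, fun j _ => by simp [one_mem]⟩
  mul_mem' := by
    rintro a b ⟨ha, ha', ha''⟩ ⟨hb, hb', hb''⟩
    refine ⟨mul_mem ha hb, mul_mem ha' hb', fun j hj => ?_⟩
    have h1 := mul_mem (ha'' j hj) (conj_mem_of_norm ha' (hb'' j hj))
    have e : j * a * j⁻¹ * a⁻¹ * (a * (j * b * j⁻¹ * b⁻¹) * a⁻¹) = j * (a * b) * j⁻¹ * (a * b)⁻¹ := by group
    rwa [e] at h1
  inv_mem' := by
    rintro a ⟨ha, ha', ha''⟩
    refine ⟨inv_mem ha, inv_mem ha', fun j hj => ?_⟩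
    have h1 := conj_mem_of_norm (inv_mem ha') (inv_mem (ha'' j hj))
    have e : a⁻¹ * (j * a * j⁻¹ * a⁻¹)⁻¹ * a⁻¹⁻¹ = j * a⁻¹ * j⁻¹ * a⁻¹⁻¹ := by group
    rwa [e] at h1

theorem mem_fx {J R₁ R₂ : Subgroup X} {k : X} : k ∈ fx J R₁ R₂ ↔
    k ∈ R₁ ∧ k ∈ normalizer (R₂ : Set X) ∧ ∀ j ∈ J, j * k * j⁻¹ * k⁻¹ ∈ R₂ := Iff.rfl

theorem fx_le {J R₁ R₂ : Subgroup X} : fx J R₁ R₂ ≤ R₁ := fun _ h => h.1

theorem fx_anti {J J' R₁ R₂ : Subgroup X} (h : J ≤ J') : fx J' R₁ R₂ ≤ fx J R₁ R₂ := fun _ hk =>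
  ⟨hk.1, hk.2.1, fun j hj => hk.2.2 j (h hj)⟩

theorem le_fx {J R₁ R₂ : Subgroup X} (h21 : R₂ ≤ R₁) (hJ : J ≤ normalizer (R₂ : Set X)) : R₂ ≤ fx J R₁ R₂ := fun k hk =>
  ⟨h21 hk, le_normalizer hk, fun j hj => mul_mem (conj_mem_of_norm (hJ hj) hk) (inv_mem hk)⟩

theorem le_cs_fx {J R₁ R₂ : Subgroup X} (hJ : J ≤ normalizer (R₂ : Set X)) : J ≤ cs (fx J R₁ R₂) R₂ := fun j hj =>
  ⟨hJ hj, fun r hr => hr.2.2 j hj⟩

theorem norm_fx {H J R₁ R₂ : Subgroup X} (hJ : H ≤ normalizer (J : Set X)) (h1 : H ≤ normalizer (R₁ : Set X))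
    (h2 : H ≤ normalizer (R₂ : Set X)) : H ≤ normalizer (fx J R₁ R₂ : Set X) := by
  refine le_norm_of fun x hx a ha => ?_
  refine ⟨conj_mem_of_norm (h1 hx) ha.1, mul_mem (mul_mem (h2 hx) ha.2.1) (inv_mem (h2 hx)), fun j hj => ?_⟩
  have h3 := ha.2.2 (x⁻¹ * j * x⁻¹⁻¹) (conj_mem_of_norm (hJ (inv_mem hx)) hj)
  have h4 := conj_mem_of_norm (h2 hx) h3
  have e : x * (x⁻¹ * j * x⁻¹⁻¹ * a * (x⁻¹ * j * x⁻¹⁻¹)⁻¹ * a⁻¹) * x⁻¹ =
      j * (x * a * x⁻¹) * j⁻¹ * (x * a * x⁻¹)⁻¹ := by group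
  rwa [e] at h4

/-- The subgroup generated by commutators. -/
def cc (A B : Subgroup X) : Subgroup X := closure {x | ∃ a ∈ A, ∃ b ∈ B, x = a * b * a⁻¹ * b⁻¹}

theorem cc_le_iff {A B C : Subgroup X} : cc A B ≤ C ↔ ∀ a ∈ A, ∀ b ∈ B, a * b * a⁻¹ * b⁻¹ ∈ C := by
  rw [cc, closure_le]
  constructor
  · intro h a ha b hb
    exact h ⟨a, ha, b, hb, rfl⟩
  · rintro h _ ⟨a, ha, b, hb, rfl⟩
    exact h a ha b hb

theorem mem_cc {A B : Subgroup X} {a b : X} (ha : a ∈ A) (hb : b ∈ B) : a * b * a⁻¹ * b⁻¹ ∈ cc A B :=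
  subset_closure ⟨a, ha, b, hb, rfl⟩

theorem cc_mono {A A' B B' : Subgroup X} (hA : A ≤ A') (hB : B ≤ B') : cc A B ≤ cc A' B' :=
  cc_le_iff.2 fun a ha b hb => mem_cc (hA ha) (hB hb)

theorem norm_cc {H A B : Subgroup X} (hA : H ≤ normalizer (A : Set X)) (hB : H ≤ normalizer (B : Set X)) :
    H ≤ normalizer (cc A B : Set X) := by
  refine le_norm_of fun x hx a ha => ?_
  have h1 : cc A B ≤ (cc A B).comap (MulAut.conj x).toMonoidHom := by
    rw [cc_le_iff]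
    intro a ha b hb
    rw [mem_comap]
    have h2 := mem_cc (conj_mem_of_norm (hA hx) ha) (conj_mem_of_norm (hB hx) hb)
    have e : x * a * x⁻¹ * (x * b * x⁻¹) * (x * a * x⁻¹)⁻¹ * (x * b * x⁻¹)⁻¹ = x * (a * b * a⁻¹ * b⁻¹) * x⁻¹ := by group
    rw [e] at h2
    exact h2
  exact h1 ha

section

variable {p : ℕ} [Fact p.Prime] [Finite X] {N E H H0 K : Subgroup X}

theorem Par.inv_of_section (h : Par p N E H H0) {R₁ R₂ : Subgroup X} (n1 : H ≤ normalizer (R₁ : Set X))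
    (n2 : H ≤ normalizer (R₂ : Set X)) (m1 : H0 ≤ normalizer (R₁ : Set X)) (m2 : H0 ≤ normalizer (R₂ : Set X))
    (hnpt : ¬ PT p (Lc N H) R₁ R₂) (hE : E ≤ cs R₁ R₂) : H0 ≤ normalizer (E : Set X) := by
  have h1 : N ⊓ cs R₁ R₂ = E := by
    apply le_antisymm
    · exact fun n hn => h.not_mem_of_not_pt n1 n2 hnpt hn.1 hn.2
    · exact le_inf h.EN hE
  rw [← h1]
  exact norm_inf h.H0N (norm_cs m1 m2)

/-- `L` acts as a `p`-group on `K / Fr K`. -/
theorem IsCo.ptK (c : IsCo E H H0 K) (h : Par p N E H H0) (hr : SR p N)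
    (nn : ¬ H0 ≤ normalizer (E : Set X)) : PT p (Lc N H) K (Fr p K) := by
  have hpp : p.Prime := Fact.out
  by_contra hnpt
  obtain ⟨F, hF⟩ : ∃ F, F = Fr p K := ⟨_, rfl⟩
  rw [← hF] at hnpt
  have hKp : IsPGroup p K := h.pE.to_le c.le
  have hFK : F ≤ K := hF ▸ Fr_le p K
  have nF : H ≤ normalizer (F : Set X) := hF ▸ norm_Fr c.n
  have nF0 : H0 ≤ normalizer (F : Set X) := hF ▸ norm_Fr c.n0
  have hKF : K ≤ normalizer (F : Set X) := (c.le.trans h.EH).trans nF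
  have hs : Sct p H K F := ⟨hFK, c.n, nF, hKF, fun a ha b hb => hF ▸ comm_mem_Fr ha hb,
    fun a ha => hF ▸ pow_mem_Fr ha⟩
  have hcard : F.relIndex K ≤ p ^ 3 := hr K F hFK (c.le.trans h.EN) hs.comm hs.pow
  have hEF : E ≤ normalizer (F : Set X) := h.EH.trans nF
  have hNF : N ≤ normalizer (F : Set X) := h.NH.trans nF
  have hEne : ¬ E ≤ cs K F := fun hE => nn (h.inv_of_section c.n nF c.n0 nF0 hnpt hE)
  -- the fixed points of `E`
  obtain ⟨U, hU⟩ : ∃ U, U = fx E K F := ⟨_, rfl⟩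
  have hUK : U ≤ K := hU ▸ fx_le
  have hFU : F ≤ U := hU ▸ le_fx hFK hEF
  have nU : H ≤ normalizer (U : Set X) := hU ▸ norm_fx h.HE c.n nF
  have hEU : E ≤ cs U F := hU ▸ le_cs_fx hEF
  have hKU : ¬ K ≤ U := fun hh => hEne fun e he => ⟨hEF he, fun r hr' => by
    have := hh hr'
    rw [hU] at this
    exact this.2.2 e he⟩
  have hKnU : K ≤ normalizer (U : Set X) := (c.le.trans h.EH).trans nU
  -- the fixed points of `N`
  obtain ⟨x, hxK, hxF, -, hxN⟩ := exists_mod_in h.pN (c.le.trans h.EN) hFK (fun hh => hKU (hh.trans hFU)) hNF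
    (h.NH.trans c.n)
  have hUc : F.relIndex U * U.relIndex K = F.relIndex K := relIndex_mul_relIndex _ _ _ hFU hUK
  have hUF : ¬ U ≤ F := fun hh => hxF (hh (by
    rw [hU]; exact ⟨hxK, hKF hxK, fun e he => hxN e (h.EN he)⟩))
  -- `p`-powers
  have hpow : ∀ {A B : Subgroup X}, B ≤ K → ∃ i, A.relIndex B = p ^ i := by
    intro A B hB
    obtain ⟨i, hi⟩ := (hKp.to_le hB).exists_card_eq
    exact (Nat.dvd_prime_pow hpp).1 (hi ▸ relIndex_dvd_card A B) |>.imp fun _ h => h.2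
  obtain ⟨i, hi⟩ := hpow (A := F) hUK
  obtain ⟨j, hj⟩ := hpow (A := U) (B := K) le_rfl
  have hi0 : i ≠ 0 := by
    rintro rfl
    rw [pow_zero, relIndex_eq_one] at hi
    exact hUF hi
  have hj0 : j ≠ 0 := by
    rintro rfl
    rw [pow_zero, relIndex_eq_one] at hj
    exact hKU hj
  have hij : i + j ≤ 3 := by
    rw [hi, hj, ← pow_add] at hUc
    rw [← hUc] at hcard
    exact (Nat.pow_le_pow_iff_right hpp.one_lt).1 hcard
  have hLK : Lc N H ≤ normalizer (K : Set X) := h.LH.trans c.n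
  have hLF : Lc N H ≤ normalizer (F : Set X) := h.LH.trans nF
  have hLU : Lc N H ≤ normalizer (U : Set X) := h.LH.trans nU
  have hUp : IsPGroup p U := hKp.to_le hUK
  rcases Nat.lt_or_ge 1 i with h1 | h1
  · -- `|U / F| = p²`, `|K / U| = p`
    have hj1 : j = 1 := by omega
    have hi2 : i = 2 := by omega
    rw [hj1, pow_one] at hj
    rw [hi2] at hi
    have hcsKU : N ≤ cs K U := N_le_cs h.pN hUK hKnU (h.NH.trans c.n) (h.NH.trans nU) hKp hj.le
    have hptKU : PT p (Lc N H) K U := PT.of_cs (Lc_le_cs' c.n nU hcsKU)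
    have hnptU : ¬ PT p (Lc N H) U F := fun hh => hnpt (hptKU.trans hUp hh)
    have hsU : Sct p H U F := ⟨hFU, nU, nF, hUK.trans hKF, fun a ha b hb => hs.comm a (hUK ha) b (hUK hb),
      fun a ha => hs.pow a (hUK ha)⟩
    obtain ⟨D, hD⟩ : ∃ D, D = cc E K ⊔ F := ⟨_, rfl⟩
    obtain ⟨D', hD'⟩ : ∃ D', D' = cc N K ⊔ F := ⟨_, rfl⟩
    have hDD' : D ≤ D' := by rw [hD, hD']; exact sup_le_sup_right (cc_mono h.EN le_rfl) _
    have hD'U : D' ≤ U := by
      rw [hD']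
      refine sup_le (cc_le_iff.2 fun a ha b hb => (hcsKU ha).2 b hb) hFU
    have hDF : ¬ D = F := by
      intro hh
      apply hEne
      intro e he
      refine ⟨hEF he, fun r hr' => ?_⟩
      rw [← hh, hD]
      exact mem_sup_left (mem_cc he hr')
    have nD : H ≤ normalizer (D : Set X) := hD ▸ norm_sup (norm_cc h.HE c.n) nF
    have nD' : H0 ≤ normalizer (D' : Set X) := hD' ▸ norm_sup (norm_cc h.H0N c.n0) nF0
    rcases irr2 h.pN h.NH hsU hUp hi hnptU (by rw [hD]; exact le_sup_right) (hDD'.trans hD'U) (h.LH.trans nD) with h2 | h2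
    · exact hDF h2
    · have h3 : D' = U := le_antisymm hD'U (h2 ▸ hDD')
      rw [h3] at nD'
      exact nn (h.inv_of_section nU nF nD' nF0 hnptU hEU)
  · -- `|U / F| = p`
    have hi1 : i = 1 := by omega
    rw [hi1, pow_one] at hi
    -- `U` is `H0`-invariant
    obtain ⟨W, hW⟩ : ∃ W, W = fx N K F := ⟨_, rfl⟩
    have hWU : W ≤ U := by rw [hW, hU]; exact fx_anti h.EN
    have nW : H0 ≤ normalizer (W : Set X) := hW ▸ norm_fx h.H0N c.n0 nF0
    have hxW : x ∈ W := by rw [hW]; exact ⟨hxK, hKF hxK, hxN⟩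
    have hFW : F ≤ W := hW ▸ le_fx hFK hNF
    have hWU' : W = U := by
      apply le_antisymm hWU
      have h2 : F.relIndex W * W.relIndex U = F.relIndex U := relIndex_mul_relIndex _ _ _ hFW hWU
      rw [hi] at h2
      have h3 : F.relIndex W ≠ 1 := fun hh => hxF ((relIndex_eq_one.1 hh) hxW)
      have h4 : W.relIndex U = 1 := by
        have h5 : F.relIndex W ∣ p := ⟨_, h2.symm⟩
        rcases (Nat.dvd_prime hpp).1 h5 with h6 | h6
        · exact absurd h6 h3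
        · rw [h6] at h2
          exact Nat.eq_of_mul_eq_mul_left hpp.pos (by rw [h2, mul_one])
      exact relIndex_eq_one.1 h4
    rw [hWU'] at nW
    have hcsUF : Lc N H ≤ cs U F := Lc_le_cs h.pN hFU (hUK.trans hKF) hLU hLF hUp hi.le
    have hnptK : ¬ PT p (Lc N H) K U := fun hh => hnpt (hh.trans hUp (PT.of_cs hcsUF))
    rcases Nat.lt_or_ge 1 j with h1 | h1
    · have hj2 : j = 2 := by omega
      rw [hj2] at hj
      have hsK : Sct p H K U := ⟨hUK, c.n, nU, hKnU, fun a ha b hb => hFU (hs.comm a ha b hb),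
        fun a ha => hFU (hs.pow a ha)⟩
      have hEnU : E ≤ normalizer (U : Set X) := h.EH.trans nU
      obtain ⟨U', hU'⟩ : ∃ U', U' = fx E K U := ⟨_, rfl⟩
      have nU' : H ≤ normalizer (U' : Set X) := hU' ▸ norm_fx h.HE c.n nU
      obtain ⟨y, hyK, hyU, -, hyN⟩ := exists_mod_in h.pN (c.le.trans h.EN) hUK hKU (h.NH.trans nU) (h.NH.trans c.n)
      rcases irr2 h.pN h.NH hsK hKp hj hnptK (hU' ▸ le_fx hUK hEnU) (hU' ▸ fx_le) (h.LH.trans nU') with h2 | h2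
      · apply hyU
        rw [← h2, hU']
        exact ⟨hyK, hKnU hyK, fun e he => hyN e (h.EN he)⟩
      · have hE : E ≤ cs K U := by
          have := le_cs_fx (R₁ := K) hEnU
          rw [← hU', h2] at this
          exact this
        exact nn (h.inv_of_section c.n nU c.n0 nW hnptK hE)
    · have hj1 : j = 1 := by omega
      rw [hj1, pow_one] at hj
      exact hnptK (PT.of_cs (Lc_le_cs h.pN hUK hKnU hLK hLU hKp hj.le))

theorem IsCo.ptK' (c : IsCo E H H0 K) (h : Par p N E H H0) (hr : SR p N)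
    (nn : ¬ H0 ≤ normalizer (E : Set X)) : PT p (Lc N H) K ⊥ :=
  (c.ptK h hr nn).frattini (h.pE.to_le c.le) (h.LH.trans c.n)

end

end Cfsg.Agent.H765
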