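import Cfsg.Agent.H765.CoreA

/-!
# Inverted elements; the structure of `E` over the core (helper765)
-/

set_option autoImplicit false
set_option linter.unusedSectionVars false
set_option linter.unusedSimpArgs false
set_option linter.unusedVariables false

namespace Cfsg.Agent.H765

open Module Subgroup

universe u

variable {X : Type u} [Group X]

theorem comm_closure {T : Set X} (h1 : ∀ s ∈ T, ∀ t ∈ T, s * t = t * s) :
    ∀ x ∈ closure T, ∀ y ∈ closure T, x * y = y * x := by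
  have h2 : closure T ≤ centralizer T := by
    rw [closure_le]
    exact fun s hs => mem_centralizer_iff.2 fun t ht => h1 t ht s hs
  have h3 : closure T ≤ centralizer (closure T : Set X) := by
    rw [closure_le]
    intro s hs
    rw [SetLike.mem_coe, mem_centralizer_iff]
    intro t ht
    exact (mem_centralizer_iff.1 (h2 ht) s hs).symm
  exact fun x hx y hy => mem_centralizer_iff.1 (h3 hy) x hx

theorem EA_closure {p : ℕ} {T : Set X} (h1 : ∀ s ∈ T, ∀ t ∈ T, s * t = t * s) (h2 : ∀ t ∈ T, t ^ p = 1) :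
    EA p (closure T) := by
  have h3 := comm_closure h1
  refine ⟨h3, fun a ha => ?_⟩
  induction ha using closure_induction with
  | mem x hx => exact h2 x hx
  | one => exact one_pow p
  | mul x y hx hy ihx ihy =>
    have h4 : Commute x y := h3 x hx y hy
    rw [h4.mul_pow, ihx, ihy, one_mul]
  | inv x hx ih => rw [inv_pow, ih, inv_one]

theorem qf_eq_one {K : Subgroup X} {x : normalizer (K : Set X)} : qf K x = 1 ↔ (x : X) ∈ K := by
  rw [← MonoidHom.mem_ker, qf_ker, mem_subgroupOf]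

theorem EA_mod {p : ℕ} {B : Subgroup X} {T : Set X} (hT : T ⊆ normalizer (B : Set X))
    (h1 : ∀ s ∈ T, ∀ t ∈ T, s * t * s⁻¹ * t⁻¹ ∈ B) (h2 : ∀ t ∈ T, t ^ p ∈ B) :
    (∀ x ∈ closure T, ∀ y ∈ closure T, x * y * x⁻¹ * y⁻¹ ∈ B) ∧ ∀ x ∈ closure T, x ^ p ∈ B := by
  have hTn : closure T ≤ normalizer (B : Set X) := (closure_le _).2 hT
  obtain ⟨T', hT'⟩ : ∃ T' : Set (Qt B), T' = {z | ∃ t, ∃ h : t ∈ T, z = qf B ⟨t, hT h⟩} := ⟨_, rfl⟩
  have ea : EA p (closure T') := by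
    apply EA_closure
    · rw [hT']
      rintro _ ⟨s, hs, rfl⟩ _ ⟨t, ht, rfl⟩
      have h3 : qf B (⟨s, hT hs⟩ * ⟨t, hT ht⟩ * ⟨s, hT hs⟩⁻¹ * ⟨t, hT ht⟩⁻¹) = 1 := qf_eq_one.2 (h1 s hs t ht)
      rw [map_mul, map_mul, map_mul, map_inv, map_inv, mul_inv_eq_one, mul_inv_eq_iff_eq_mul] at h3
      exact h3
    · rw [hT']
      rintro _ ⟨s, hs, rfl⟩
      rw [← map_pow]
      exact qf_eq_one.2 (h2 s hs)
  have h3 : closure T ≤ pre B (closure T') := by
    rw [closure_le]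
    intro t ht
    rw [SetLike.mem_coe, mem_pre (hT ht)]
    apply Subgroup.subset_closure
    rw [hT']
    exact ⟨t, ht, rfl⟩
  constructor
  · intro x hx y hy
    have h4 := (mem_pre (hTn hx)).1 (h3 hx)
    have h5 := (mem_pre (hTn hy)).1 (h3 hy)
    have h6 := ea.comm _ h4 _ h5
    have h7 : qf B (⟨x, hTn hx⟩ * ⟨y, hTn hy⟩ * ⟨x, hTn hx⟩⁻¹ * ⟨y, hTn hy⟩⁻¹) = 1 := by
      rw [map_mul, map_mul, map_mul, map_inv, map_inv, h6, mul_inv_cancel_right, mul_inv_cancel]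
    exact qf_eq_one.1 h7
  · intro x hx
    have h4 := ea.pow _ ((mem_pre (hTn hx)).1 (h3 hx))
    rw [← map_pow] at h4
    exact qf_eq_one.1 h4

/-- The Frattini subgroup consists of non-generators. -/
theorem Fr_sup_eq {p : ℕ} [Fact p.Prime] {K A : Subgroup X} [Finite K] (hK : IsPGroup p K) (hA : A ≤ K)
    (h : K ≤ A ⊔ Fr p K) : A = K := by
  have h1 : A.subgroupOf K ⊔ frattini K = ⊤ := by
    rw [eq_top_iff]
    rintro ⟨k, hk⟩ -
    have h2 : A ⊔ Fr p K ≤ (A.subgroupOf K ⊔ frattini K).map K.subtype := by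
      refine sup_le (fun a ha => ⟨⟨a, hA ha⟩, mem_sup_left (mem_subgroupOf.2 ha), rfl⟩) ?_
      refine (Fr_le_frattini hK).trans (map_mono le_sup_right)
    obtain ⟨y, hy, hyk⟩ := h2 (h hk)
    have : y = ⟨k, hk⟩ := Subtype.ext hyk
    rw [← this]
    exact hy
  have h2 := frattini_nongenerating h1
  rw [subgroupOf_eq_top] at h2
  exact le_antisymm hA h2

section

variable {p : ℕ} [Fact p.Prime] [Finite X] {N E H H0 K : Subgroup X}

/-- `N` acts trivially on `K / Fr K`. -/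
theorem IsCo.csK (c : IsCo E H H0 K) (h : Par p N E H H0) (hr : SR p N) (nn : ¬ H0 ≤ normalizer (E : Set X))
    (hcomm : ∀ a ∈ E, ∀ b ∈ E, a * b * a⁻¹ * b⁻¹ ∈ K) (hpow : ∀ a ∈ E, a ^ p ∈ K) (hc2 : K.relIndex E = p ^ 2)
    (npt : ¬ PT p (Lc N H) E K) : N ≤ cs K (Fr p K) := by
  have hpp : p.Prime := Fact.out
  have hpt := c.ptK h hr nn
  have hKp : IsPGroup p K := h.pE.to_le c.le
  have nF : H ≤ normalizer (Fr p K : Set X) := norm_Fr c.n
  have nF0 : H0 ≤ normalizer (Fr p K : Set X) := norm_Fr c.n0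
  have hEK : E ≤ normalizer (K : Set X) := h.EH.trans c.n
  have hEF : E ≤ normalizer (Fr p K : Set X) := h.EH.trans nF
  have hs : Sct p H E K := ⟨c.le, h.HE, c.n, hEK, hcomm, hpow⟩
  have hKC : K ≤ E ⊓ cs K (Fr p K) := fun k hk =>
    Subgroup.mem_inf.2 ⟨c.le hk, (c.le.trans hEF) hk, fun r hr => comm_mem_Fr hk hr⟩
  have nC : H ≤ normalizer ((E ⊓ cs K (Fr p K) : Subgroup X) : Set X) := norm_inf h.HE (norm_cs c.n nF)
  have hE : E ≤ cs K (Fr p K) := by
    rcases irr2 h.pN h.NH hs h.pE hc2 npt hKC inf_le_left (h.LH.trans nC) with h1 | h1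
    · exfalso
      apply npt
      intro j hj
      have hjH := h.LH hj
      obtain ⟨k, hk⟩ := hpt j hj
      obtain ⟨l, hl⟩ := exists_coprime_pow (p := p) j
      have h2 : j ^ p ^ l ∈ cs K (Fr p K) := by
        refine mem_cs_of_coprime hl (k := k) ?_
        rw [← pow_mul, mul_comm, pow_mul]
        exact pow_mem hk _
      have hlH : j ^ p ^ l ∈ H := pow_mem hjH _
      refine ⟨l, c.n hlH, fun e he => ?_⟩
      rw [← h1]
      refine Subgroup.mem_inf.2 ⟨mul_mem (conj_mem_of_norm (h.HE hlH) he) (inv_mem he), ?_⟩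
      have h3 : e * (j ^ p ^ l)⁻¹ * e⁻¹ ∈ cs K (Fr p K) := cs_conj c.n nF (h.EH he) (inv_mem h2)
      have h4 := mul_mem h2 h3
      have e1 : j ^ p ^ l * (e * (j ^ p ^ l)⁻¹ * e⁻¹) = j ^ p ^ l * e * (j ^ p ^ l)⁻¹ * e⁻¹ := by group
      rwa [e1] at h4
    · rw [← h1]
      exact inf_le_right
  obtain ⟨g, hg, hgE⟩ : ∃ g ∈ H0, cj g E ≠ E := by
    by_contra hno
    push Not at hno
    exact nn fun g hg => mem_norm_of_cj (hno g hg)
  have hgcs : cj g E ≤ cs K (Fr p K) := by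
    rintro _ ⟨e, he, rfl⟩
    exact cs_conj c.n0 nF0 hg (hE he)
  have hne : ¬ cj g E ≤ E := fun hh => hgE (Subgroup.eq_of_le_of_card_ge hh cj_card.ge)
  obtain ⟨y, hy, hyE⟩ := SetLike.not_le_iff_exists.1 hne
  have hyN : y ∈ N := by
    have : cj g E ≤ cj g N := cj_mono h.EN
    rw [cj_eq (h.H0N hg)] at this
    exact this hy
  exact h.le_of_not_mem hyN hyE hE (hgcs hy)

/-- The torus element for the section `E / K`. -/
theorem IsCo.exists_tau (hp2 : p ≠ 2) (c : IsCo E H H0 K) (h : Par p N E H H0) (hr : SR p N)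
    (nn : ¬ H0 ≤ normalizer (E : Set X))
    (hcomm : ∀ a ∈ E, ∀ b ∈ E, a * b * a⁻¹ * b⁻¹ ∈ K) (hpow : ∀ a ∈ E, a ^ p ∈ K) (hc2 : K.relIndex E = p ^ 2)
    (npt : ¬ PT p (Lc N H) E K) : ∃ τ, τ ∈ H0 ∧ τ ∈ Lc N H ⊔ CE H E ∧ (orderOf τ).Coprime p ∧ τ ∈ cs K ⊥ ∧
      (∀ v ∈ E, τ * v * τ⁻¹ * v ∈ K) ∧ τ ∈ cs N E := by
  have hpp : p.Prime := Fact.out
  have hEK : E ≤ normalizer (K : Set X) := h.EH.trans c.n
  have hs : Sct p H E K := ⟨c.le, h.HE, c.n, hEK, hcomm, hpow⟩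
  obtain ⟨Z, hZ2, hZ1, hZc, hZN⟩ := h.exists_Z hs le_rfl hc2
  obtain ⟨V₁, V₂, τ, ht⟩ := h.exists_tau hp2 hs le_rfl (fun e he => ⟨hEK he, fun r hr => hcomm e he r hr⟩)
    (by rw [hc2]; exact Nat.pow_le_pow_right hpp.pos (by norm_num)) npt hZ2 hZ1 hZc hZN
  have hV2 : V₂ = E := by
    refine Subgroup.eq_of_le_of_card_ge ht.le2' ?_
    have h1 := card_mul_relIndex' ht.le2
    have h2 := card_mul_relIndex' c.le
    rw [ht.card2, ← hc2, h2] at h1
    exact h1.le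
  refine ⟨τ, ht.t0, ht.tL, ht.tp, ?_, fun v hv => ht.t2 v (hV2 ▸ hv), ht.tN⟩
  exact h.tau_mem_cs ht.tL ht.tp c.le bot_le c.n (norm_bot H) (c.ptK' h hr nn)

/-- A coprime automorphism inverting `E / K` and centralizing `K`. -/
structure IT (p : ℕ) (E K : Subgroup X) (τ : X) : Prop where
  pE : IsPGroup p E
  KE : K ≤ E
  nK : E ≤ normalizer (K : Set X)
  pow : ∀ a ∈ E, a ^ p ∈ K
  tE : τ ∈ normalizer (E : Set X)
  tp : (orderOf τ).Coprime p
  tK : ∀ k ∈ K, τ * k = k * τ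
  inv : ∀ v ∈ E, τ * v * τ⁻¹ * v ∈ K

theorem IT.tnK {τ : X} (i : IT p E K τ) : τ ∈ normalizer (K : Set X) := by
  rw [mem_normalizer_iff]
  intro x
  constructor
  · intro hx
    have := i.tK x hx
    rw [this, mul_inv_cancel_right]
    exact hx
  · intro hx
    have h1 := i.tK _ hx
    have h2 : τ * x * τ⁻¹ = x := by
      have h3 : τ * (τ * x * τ⁻¹) = τ * x * τ⁻¹ * τ := h1
      rw [inv_mul_cancel_right] at h3
      exact mul_left_cancel h3
    rwa [h2] at hx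

/-- `τ²` centralizes `E`. -/
theorem IT.sq {τ : X} (i : IT p E K τ) : τ ^ 2 ∈ cs E ⊥ := by
  have hKp := i.pE.to_le i.KE
  have h1 : (orderOf (τ ^ 2)).Coprime p := Nat.Coprime.coprime_dvd_left (orderOf_pow_dvd 2) i.tp
  refine cs_trans hKp h1 (R₂ := K) ⟨pow_mem i.tnK 2, fun v hv => ?_⟩ ?_
  · have e : τ ^ 2 * v * (τ ^ 2)⁻¹ * v⁻¹ = (τ * (τ * v * τ⁻¹) * τ⁻¹ * (τ * v * τ⁻¹)) *
        (v * (τ * v * τ⁻¹ * v) * v⁻¹)⁻¹ := by
      rw [pow_two]
      simp only [mul_inv_rev, inv_inv, mul_assoc, inv_mul_cancel_left, mul_inv_cancel_left, mul_inv_cancel,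
        inv_mul_cancel, mul_one]
    rw [e]
    exact mul_mem (i.inv _ (conj_mem_of_norm i.tE hv)) (inv_mem (conj_mem_of_norm (i.nK hv) (i.inv v hv)))
  · exact pow_mem (mem_cs_bot.2 fun r hr => i.tK r hr) 2

/-- An inverted element in each coset. -/
theorem IT.exists_inv (hp2 : p ≠ 2) {τ : X} (i : IT p E K τ) {e : X} (he : e ∈ E) :
    ∃ w ∈ E, τ * w * τ⁻¹ = w⁻¹ ∧ w * e⁻¹ ∈ K := by
  have hpp : p.Prime := Fact.out
  obtain ⟨m, hm⟩ := hpp.odd_of_ne_two hp2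
  obtain ⟨f, hf⟩ : ∃ f, f = e ^ (m + 1) := ⟨_, rfl⟩
  have hfE : f ∈ E := hf ▸ pow_mem he _
  have h1 := i.sq
  rw [mem_cs_bot] at h1
  have h2 := h1 f hfE
  refine ⟨(τ * f * τ⁻¹)⁻¹ * f, mul_mem (inv_mem (conj_mem_of_norm i.tE hfE)) hfE, ?_, ?_⟩
  · have e1 : τ * (τ * f * τ⁻¹) * τ⁻¹ = f := by
      have e2 : τ * (τ * f * τ⁻¹) * τ⁻¹ = τ ^ 2 * f * (τ ^ 2)⁻¹ := by rw [pow_two]; group
      rw [e2, h2, mul_inv_cancel_right]
    have e3 : τ * ((τ * f * τ⁻¹)⁻¹ * f) * τ⁻¹ = (τ * (τ * f * τ⁻¹) * τ⁻¹)⁻¹ * (τ * f * τ⁻¹) := by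
      simp only [mul_inv_rev, inv_inv, mul_assoc, inv_mul_cancel_left, mul_inv_cancel_left]
    rw [e3, e1, mul_inv_rev, inv_inv]
  · have h3 := i.inv f hfE
    have e4 : (τ * f * τ⁻¹)⁻¹ * f * e⁻¹ = f * (τ * f * τ⁻¹ * f)⁻¹ * f⁻¹ * (f * f * e⁻¹) := by group
    rw [e4]
    refine mul_mem (conj_mem_of_norm (i.nK hfE) (inv_mem h3)) ?_
    have e5 : f * f * e⁻¹ = e ^ p := by
      rw [hf, ← pow_add, hm]
      have : m + 1 + (m + 1) = (2 * m + 1) + 1 := by ring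
      rw [this, pow_succ, mul_inv_cancel_right]
    rw [e5]
    exact i.pow e he

theorem mem_of_sq_mem {p : ℕ} [Fact p.Prime] (hp2 : p ≠ 2) {E A : Subgroup X} (hE : IsPGroup p E) {w : X}
    (hw : w ∈ E) (h : w ^ 2 ∈ A) : w ∈ A := by
  have hpp : p.Prime := Fact.out
  obtain ⟨k, hk⟩ := hE ⟨w, hw⟩
  have hk' : w ^ p ^ k = 1 := congrArg Subtype.val hk
  obtain ⟨m, hm⟩ := (hpp.odd_of_ne_two hp2).pow (n := k)
  have h1 : (w ^ 2) ^ (m + 1) = w := by
    rw [← pow_mul]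
    have : 2 * (m + 1) = p ^ k + 1 := by omega
    rw [this, pow_succ, hk', one_mul]
  rw [← h1]
  exact pow_mem h _

/-- Inverted elements centralize `K` and have order `p`. -/
theorem IT.cen (hp2 : p ≠ 2) {τ : X} (i : IT p E K τ) {w : X} (hw : w ∈ E) (h : τ * w * τ⁻¹ = w⁻¹) :
    (∀ k ∈ K, w * k = k * w) ∧ w ^ p = 1 := by
  constructor
  · intro k hk
    have h1 : w * k * w⁻¹ ∈ K := conj_mem_of_norm (i.nK hw) hk
    have h2 := i.tK _ h1
    have h3 := i.tK _ hk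
    have h4 : τ * (w * k * w⁻¹) * τ⁻¹ = w * k * w⁻¹ := by rw [h2, mul_inv_cancel_right]
    have h5 : τ * (w * k * w⁻¹) * τ⁻¹ = (τ * w * τ⁻¹) * (τ * k * τ⁻¹) * (τ * w * τ⁻¹)⁻¹ := by group
    rw [h, h3, mul_inv_cancel_right, h4] at h5
    have h6 : w ^ 2 ∈ centralizer {k} := by
      rw [mem_centralizer_singleton_iff, pow_two]
      have h7 : w * (w * k * w⁻¹) * w = w * (w⁻¹ * k * w⁻¹⁻¹) * w := by rw [h5]
      have h8 : w * (w * k * w⁻¹) * w = w * w * k := by group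
      have h9 : w * (w⁻¹ * k * w⁻¹⁻¹) * w = k * (w * w) := by group
      rw [h8, h9] at h7
      exact h7
    have h7 := mem_of_sq_mem hp2 i.pE hw h6
    rw [mem_centralizer_singleton_iff] at h7
    exact h7
  · have h1 := i.tK _ (i.pow w hw)
    have h2 : τ * w ^ p * τ⁻¹ = w ^ p := by rw [h1, mul_inv_cancel_right]
    rw [← conj_pow, h, inv_pow] at h2
    have h3 : (w ^ p) ^ 2 ∈ (⊥ : Subgroup X) := by
      rw [mem_bot, pow_two]
      nth_rewrite 1 [← h2]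
      rw [inv_mul_cancel]
    have h4 := mem_of_sq_mem hp2 i.pE (pow_mem hw p) h3
    rwa [mem_bot] at h4

/-- Generators of `E` modulo `K`. -/
structure DD (p : ℕ) (E K : Subgroup X) (a b : X) : Prop where
  ae : a ∈ E
  be : b ∈ E
  KE : K ≤ E
  gen : E ≤ closure ({a, b} ∪ (K : Set X))
  ap : a ^ p = 1
  bp : b ^ p = 1
  ak : ∀ k ∈ K, a * k = k * a
  bk : ∀ k ∈ K, b * k = k * b
  ab : a * b * a⁻¹ * b⁻¹ ∈ K

/-- Generators from a chain `K < D < E`. -/
theorem IT.exists_DD (hp2 : p ≠ 2) {τ : X} (i : IT p E K τ) (hcomm : ∀ a ∈ E, ∀ b ∈ E, a * b * a⁻¹ * b⁻¹ ∈ K)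
    (hc2 : K.relIndex E = p ^ 2) {D : Subgroup X} (hKD : K ≤ D) (hDE : D ≤ E) (hDc : K.relIndex D = p) :
    ∃ a ∈ D, ∃ b, a ∉ K ∧ b ∉ D ∧ τ * a * τ⁻¹ = a⁻¹ ∧ τ * b * τ⁻¹ = b⁻¹ ∧ DD p E K a b ∧
      D ≤ closure ({a} ∪ (K : Set X)) := by
  have hpp : p.Prime := Fact.out
  have h1 : ¬ D ≤ K := fun hh => by
    rw [relIndex_eq_one.2 hh] at hDc
    exact hpp.one_lt.ne hDc
  have h3 : K.relIndex D * D.relIndex E = K.relIndex E := relIndex_mul_relIndex _ _ _ hKD hDE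
  have hDE' : D.relIndex E = p := by
    rw [hDc, hc2, pow_two] at h3
    exact Nat.eq_of_mul_eq_mul_left hpp.pos h3
  have h2 : ¬ E ≤ D := fun hh => by
    rw [relIndex_eq_one.2 hh] at hDE'
    exact hpp.one_lt.ne hDE'
  obtain ⟨a₀, ha₀, ha₀K⟩ := SetLike.not_le_iff_exists.1 h1
  obtain ⟨b₀, hb₀, hb₀D⟩ := SetLike.not_le_iff_exists.1 h2
  obtain ⟨a, haE, hat, haK⟩ := i.exists_inv hp2 (hDE ha₀)
  obtain ⟨b, hbE, hbt, hbK⟩ := i.exists_inv hp2 hb₀
  have haD : a ∈ D := by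
    have := mul_mem (hKD haK) ha₀
    rwa [inv_mul_cancel_right] at this
  have haK' : a ∉ K := by
    intro hh
    apply ha₀K
    have := mul_mem (inv_mem haK) hh
    have e : (a * a₀⁻¹)⁻¹ * a = a₀ := by group
    rwa [e] at this
  have hbD' : b ∉ D := by
    intro hh
    apply hb₀D
    have := mul_mem (inv_mem (hKD hbK)) hh
    have e : (b * b₀⁻¹)⁻¹ * b = b₀ := by group
    rwa [e] at this
  obtain ⟨ca, pa⟩ := i.cen hp2 haE hat
  obtain ⟨cb, pb⟩ := i.cen hp2 hbE hbt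
  have hKc : Nat.card K * p = Nat.card D := by rw [← hDc]; exact card_mul_relIndex' hKD
  have hDc' : Nat.card D * p = Nat.card E := by rw [← hDE']; exact card_mul_relIndex' hDE
  have hDp : IsPGroup p D := i.pE.to_le hDE
  have g1 : D ≤ closure ({a} ∪ (K : Set X)) :=
    le_of_card_p hDp hKD hKc.ge (fun k hk => subset_closure (Or.inr hk)) haD haK' (subset_closure (Or.inl rfl))
  have g2 : E ≤ closure ({a, b} ∪ (K : Set X)) := by
    refine le_of_card_p i.pE hDE hDc'.ge (g1.trans (closure_mono ?_)) hbE hbD' (subset_closure (Or.inl (Or.inr rfl)))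
    rintro x (hx | hx)
    · exact Or.inl (Or.inl hx)
    · exact Or.inr hx
  exact ⟨a, haD, b, haK', hbD', hat, hbt, ⟨haE, hbE, i.KE, g2, pa, pb, ca, cb, hcomm a haE b hbE⟩, g1⟩

namespace DD

variable {a b : X} (d : DD p E K a b)

include d

/-- `[a, b]` is central in `E`. -/
theorem c_cen : ∀ e ∈ E, e * (a * b * a⁻¹ * b⁻¹) = (a * b * a⁻¹ * b⁻¹) * e := by
  obtain ⟨c, hc⟩ : ∃ c, c = a * b * a⁻¹ * b⁻¹ := ⟨_, rfl⟩
  rw [← hc]
  have hcK : c ∈ K := hc ▸ d.ab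
  have hkc : ∀ k ∈ K, k * c = c * k := by
    intro k hk
    have h1 : Commute k a := (d.ak k hk).symm
    have h2 : Commute k b := (d.bk k hk).symm
    have h3 : Commute k (a * b * a⁻¹ * b⁻¹) := ((h1.mul_right h2).mul_right h1.inv_right).mul_right h2.inv_right
    rw [hc]
    exact h3
  have h1 : E ≤ centralizer {c} := by
    refine d.gen.trans ((closure_le _).2 ?_)
    rintro x (hx | hx)
    · rcases hx with rfl | rfl
      · rw [SetLike.mem_coe, mem_centralizer_singleton_iff]; exact d.ak c hcK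
      · rw [SetLike.mem_coe, mem_centralizer_singleton_iff]; exact d.bk c hcK
    · rw [SetLike.mem_coe, mem_centralizer_singleton_iff]; exact hkc x hx
  intro e he
  have := h1 he
  rw [mem_centralizer_singleton_iff] at this
  exact this

theorem c_pow : (a * b * a⁻¹ * b⁻¹) ^ p = 1 := by
  have h1 := d.c_cen a d.ae
  obtain ⟨c, hc⟩ : ∃ c, c = a * b * a⁻¹ * b⁻¹ := ⟨_, rfl⟩
  rw [← hc] at h1 ⊢
  have h2 : Commute a c := h1
  -- `b a b⁻¹ = c⁻¹ a`
  have h3 : b * a * b⁻¹ = c⁻¹ * a := by rw [hc]; group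
  have h4 : (b * a * b⁻¹) ^ p = 1 := by rw [conj_pow, d.ap]; group
  rw [h3, (h2.symm.inv_left).mul_pow, d.ap, mul_one, inv_pow, inv_eq_one] at h4
  exact h4

/-- The index of `⟨c⟩ Fr K` in `K`. -/
theorem relIndex_B (hr : SR p E) (hc2 : K.relIndex E = p ^ 2) :
    (zpowers (a * b * a⁻¹ * b⁻¹) ⊔ Fr p K).relIndex K ≤ p := by
  have hpp : p.Prime := Fact.out
  obtain ⟨B, hB⟩ : ∃ B, B = zpowers (a * b * a⁻¹ * b⁻¹) ⊔ Fr p K := ⟨_, rfl⟩
  rw [← hB]
  have hQK : zpowers (a * b * a⁻¹ * b⁻¹) ≤ K := by rw [zpowers_le]; exact d.ab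
  have hBK : B ≤ K := hB ▸ sup_le hQK (Fr_le p K)
  have hKB : K ≤ normalizer (B : Set X) := by
    rw [hB]
    refine norm_sup (le_norm_of fun x hx y hy => ?_) (norm_Fr (norm_self K))
    obtain ⟨n, rfl⟩ := hy
    have h1 : Commute x (a * b * a⁻¹ * b⁻¹) := d.c_cen x (d.KE hx)
    have h2 : Commute x ((a * b * a⁻¹ * b⁻¹) ^ n) := h1.zpow_right n
    show x * (a * b * a⁻¹ * b⁻¹) ^ n * x⁻¹ ∈ _
    rw [h2.eq, mul_inv_cancel_right]
    exact zpow_mem (mem_zpowers _) n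
  have hcn : ∀ x : X, (∀ k ∈ K, x * k = k * x) → x ∈ normalizer (B : Set X) := by
    intro x hx
    have h1 : zpowers x ≤ normalizer (B : Set X) := by
      refine le_norm_of fun y hy k hk => ?_
      have h2 : y ∈ centralizer (K : Set X) := by
        have h3 : zpowers x ≤ centralizer (K : Set X) := by
          rw [zpowers_le, mem_centralizer_iff]
          exact fun k hk => (hx k hk).symm
        exact h3 hy
      have h3 := mem_centralizer_iff.1 h2 k (hBK hk)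
      rw [← h3, mul_inv_cancel_right]
      exact hk
    exact h1 (mem_zpowers x)
  have hEA := EA_mod (p := p) (B := B) (T := {a, b} ∪ (K : Set X)) (by
      rintro x (hx | hx)
      · rcases hx with rfl | rfl
        · exact hcn _ d.ak
        · exact hcn _ d.bk
      · exact hKB hx) (by
      have hc : a * b * a⁻¹ * b⁻¹ ∈ B := by rw [hB]; exact mem_sup_left (mem_zpowers _)
      have hc' : b * a * b⁻¹ * a⁻¹ ∈ B := by
        have := inv_mem hc
        have e : (a * b * a⁻¹ * b⁻¹)⁻¹ = b * a * b⁻¹ * a⁻¹ := by group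
        rwa [e] at this
      have h1 : ∀ x y : X, x * y = y * x → x * y * x⁻¹ * y⁻¹ ∈ B := by
        intro x y h
        rw [h, mul_inv_cancel_right, mul_inv_cancel]
        exact one_mem _
      rintro s (hs | hs) t (ht | ht)
      · rcases hs with rfl | rfl <;> rcases ht with rfl | rfl
        · exact h1 _ _ rfl
        · exact hc
        · exact hc'
        · exact h1 _ _ rfl
      · rcases hs with rfl | rfl
        · exact h1 _ _ (d.ak t ht)
        · exact h1 _ _ (d.bk t ht)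
      · rcases ht with rfl | rfl
        · exact h1 _ _ (d.ak s hs).symm
        · exact h1 _ _ (d.bk s hs).symm
      · rw [hB]
        exact mem_sup_right (comm_mem_Fr hs ht)) (by
      rintro t (ht | ht)
      · rcases ht with rfl | rfl
        · rw [d.ap]; exact one_mem _
        · rw [d.bp]; exact one_mem _
      · rw [hB]
        exact mem_sup_right (pow_mem_Fr ht))
  have h1 : B.relIndex E ≤ p ^ 3 := hr E B (hBK.trans d.KE) le_rfl (fun x hx y hy => hEA.1 x (d.gen hx) y (d.gen hy))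
    (fun x hx => hEA.2 x (d.gen hx))
  have h2 : B.relIndex K * K.relIndex E = B.relIndex E := relIndex_mul_relIndex _ _ _ hBK d.KE
  rw [← h2, hc2] at h1
  have h3 : B.relIndex K * p ^ 2 ≤ p * p ^ 2 := by
    calc _ ≤ p ^ 3 := h1
      _ = p * p ^ 2 := by ring
  exact Nat.le_of_mul_le_mul_right h3 (pow_pos hpp.pos 2)

/-- `K` is generated by one element and `[a, b]`. -/
theorem exists_k (hE : IsPGroup p E) (hr : SR p E) (hc2 : K.relIndex E = p ^ 2) :
    ∃ k ∈ K, zpowers k ⊔ zpowers (a * b * a⁻¹ * b⁻¹) = K := by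
  have hpp : p.Prime := Fact.out
  have hKp := hE.to_le d.KE
  have h1 := d.relIndex_B hr hc2
  have hQK : zpowers (a * b * a⁻¹ * b⁻¹) ≤ K := by rw [zpowers_le]; exact d.ab
  have hBK : zpowers (a * b * a⁻¹ * b⁻¹) ⊔ Fr p K ≤ K := sup_le hQK (Fr_le p K)
  by_cases hK : K ≤ zpowers (a * b * a⁻¹ * b⁻¹) ⊔ Fr p K
  · refine ⟨1, one_mem _, ?_⟩
    rw [zpowers_one_eq_bot, bot_sup_eq]
    exact Fr_sup_eq hKp hQK hK
  · obtain ⟨k, hk, hkB⟩ := SetLike.not_le_iff_exists.1 hK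
    refine ⟨k, hk, Fr_sup_eq hKp (sup_le (by rwa [zpowers_le]) hQK) ?_⟩
    refine le_of_card_p hKp hBK ?_ (sup_le (le_sup_of_le_left le_sup_right) le_sup_right) hk hkB
      (mem_sup_left (mem_sup_left (mem_zpowers k)))
    have h2 := card_mul_relIndex' hBK
    rw [← h2]
    exact Nat.mul_le_mul_left _ h1

/-- **`K` is central in `E`.** -/
theorem K_cen (hE : IsPGroup p E) (hr : SR p E) (hc2 : K.relIndex E = p ^ 2) :
    ∀ k ∈ K, ∀ e ∈ E, e * k = k * e := by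
  obtain ⟨k₀, hk₀, hgen⟩ := d.exists_k hE hr hc2
  obtain ⟨c, hc⟩ : ∃ c, c = a * b * a⁻¹ * b⁻¹ := ⟨_, rfl⟩
  rw [← hc] at hgen
  have hcc : ∀ e ∈ E, e * c = c * e := hc ▸ d.c_cen
  have h1 : K ≤ closure ({k₀, c} : Set X) := by
    rw [← hgen]
    refine sup_le ?_ ?_
    · rw [zpowers_le]; exact subset_closure (Or.inl rfl)
    · rw [zpowers_le]; exact subset_closure (Or.inr rfl)
  have h2 := comm_closure (T := ({k₀, c} : Set X)) (by
    rintro s (rfl | rfl) t (rfl | rfl)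
    · rfl
    · exact hcc _ (d.KE hk₀)
    · exact (hcc _ (d.KE hk₀)).symm
    · rfl)
  have h3 : E ≤ centralizer (K : Set X) := by
    refine d.gen.trans ((closure_le _).2 ?_)
    rintro x (hx | hx)
    · rcases hx with rfl | rfl
      · rw [SetLike.mem_coe, mem_centralizer_iff]; exact fun k hk => (d.ak k hk).symm
      · rw [SetLike.mem_coe, mem_centralizer_iff]; exact fun k hk => (d.bk k hk).symm
    · rw [SetLike.mem_coe, mem_centralizer_iff]
      exact fun k hk => h2 k (h1 hk) x (h1 hx)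
  intro k hk e he
  exact (mem_centralizer_iff.1 (h3 he) k hk).symm

end DD

end

end Cfsg.Agent.H765
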