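import Cfsg.Agent.H765.CoreB

/-!
# The `SL₃`-type configuration: elimination (helper765)
-/

set_option autoImplicit false
set_option linter.unusedSectionVars false
set_option linter.unusedSimpArgs false
set_option linter.unusedVariables false

namespace Cfsg.Agent.H765

open Module Subgroup

universe u

variable {X : Type u} [Group X]

section

variable {p : ℕ} [Fact p.Prime] [Finite X] {N E H H0 K : Subgroup X}

/-- Pearls. -/
theorem DD.pearl (hp2 : p ≠ 2) {a b : X} (d : DD p E K a b) (hE : IsPGroup p E) (hc2 : K.relIndex E = p ^ 2)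
    (hKF : K ≤ Fr p E) : (EA p E ∧ Nat.card E = p ^ 2) ∨
      (Nat.card E = p ^ 3 ∧ (∀ x ∈ E, x ^ p = 1) ∧ ∃ x ∈ E, ∃ y ∈ E, x * y ≠ y * x) := by
  have hpp : p.Prime := Fact.out
  have h1 : closure ({a, b} : Set X) = E := by
    refine Fr_sup_eq hE ((closure_le _).2 ?_) (d.gen.trans ((closure_le _).2 ?_))
    · rintro x (rfl | rfl)
      · exact d.ae
      · exact d.be
    · rintro x (hx | hx)
      · exact mem_sup_left (subset_closure hx)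
      · exact mem_sup_right (hKF hx)
  have hcc := d.c_cen
  have hcp := d.c_pow
  obtain ⟨c, hc⟩ : ∃ c, c = a * b * a⁻¹ * b⁻¹ := ⟨_, rfl⟩
  rw [← hc] at hcc hcp
  have hcK : c ∈ K := hc ▸ d.ab
  have hQn : E ≤ normalizer ((zpowers c : Subgroup X) : Set X) := by
    refine le_norm_of fun x hx y hy => ?_
    obtain ⟨n, rfl⟩ := hy
    have h1 : Commute x c := hcc x hx
    have h2 : Commute x (c ^ n) := h1.zpow_right n
    show x * c ^ n * x⁻¹ ∈ _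
    rw [h2.eq, mul_inv_cancel_right]
    exact zpow_mem (mem_zpowers _) n
  have hEA := EA_mod (p := p) (B := zpowers c) (T := {a, b}) (by
      rintro x (rfl | rfl)
      · exact hQn d.ae
      · exact hQn d.be) (by
      have hc1 : a * b * a⁻¹ * b⁻¹ ∈ zpowers c := by rw [← hc]; exact mem_zpowers _
      have hc' : b * a * b⁻¹ * a⁻¹ ∈ zpowers c := by
        have := inv_mem hc1
        have e : (a * b * a⁻¹ * b⁻¹)⁻¹ = b * a * b⁻¹ * a⁻¹ := by group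
        rwa [e] at this
      have hxx : ∀ x : X, x * x * x⁻¹ * x⁻¹ ∈ zpowers c := by
        intro x
        rw [mul_inv_cancel_right, mul_inv_cancel]
        exact one_mem _
      rintro s (rfl | rfl) t (rfl | rfl)
      · exact hxx _
      · exact hc1
      · exact hc'
      · exact hxx _) (by
      rintro t (rfl | rfl)
      · rw [d.ap]; exact one_mem _
      · rw [d.bp]; exact one_mem _)
  rw [h1] at hEA
  have hFQ : Fr p E ≤ zpowers c := Fr_le_iff.2 hEA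
  have hKQ : K = zpowers c := le_antisymm (hKF.trans hFQ) (by rw [zpowers_le]; exact hcK)
  have hcard := card_mul_relIndex' d.KE
  rw [hc2] at hcard
  by_cases hc1 : c = 1
  · left
    rw [hc1, zpowers_one_eq_bot] at hKQ hFQ
    rw [hKQ, card_bot, one_mul] at hcard
    exact ⟨EA_of_Fr (le_bot_iff.1 hFQ), hcard.symm⟩
  · right
    have hKc : Nat.card K = p := by
      rw [hKQ, Nat.card_zpowers, orderOf_eq_prime hcp hc1]
    rw [hKc] at hcard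
    refine ⟨by rw [← hcard]; ring, ?_, a, d.ae, b, d.be, fun hab => hc1 (by rw [hc, hab]; group)⟩
    let T : Subgroup X :=
      { carrier := {u | u ∈ E ∧ u ^ p = 1}
        one_mem' := ⟨one_mem _, one_pow p⟩
        mul_mem' := by
          rintro x y ⟨hx, hx'⟩ ⟨hy, hy'⟩
          refine ⟨mul_mem hx hy, ?_⟩
          have h3 : (y⁻¹ * x⁻¹ * y⁻¹⁻¹ * x⁻¹⁻¹) ∈ zpowers c := hEA.1 _ (inv_mem hy) _ (inv_mem hx)
          have h4 : ∀ e ∈ E, e * (y⁻¹ * x⁻¹ * y⁻¹⁻¹ * x⁻¹⁻¹) = (y⁻¹ * x⁻¹ * y⁻¹⁻¹ * x⁻¹⁻¹) * e := by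
            intro e he
            obtain ⟨n, hn⟩ := h3
            have h5 : Commute e (c ^ n) := (show Commute e c from hcc e he).zpow_right n
            have h6 : c ^ n = y⁻¹ * x⁻¹ * y⁻¹⁻¹ * x⁻¹⁻¹ := hn
            rw [← h6]
            exact h5
          have h5 : (y⁻¹ * x⁻¹ * y⁻¹⁻¹ * x⁻¹⁻¹) ^ p = 1 := by
            obtain ⟨n, hn⟩ := h3
            have h6 : c ^ n = y⁻¹ * x⁻¹ * y⁻¹⁻¹ * x⁻¹⁻¹ := hn
            rw [← h6, ← zpow_natCast, ← zpow_mul, mul_comm, zpow_mul, zpow_natCast, hcp, one_zpow]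
          rw [Cfsg.Agent.Transfer.PGroupNormal.mul_pow_prime hpp hp2 (c := y⁻¹ * x⁻¹ * y⁻¹⁻¹ * x⁻¹⁻¹)
            (by group) (h4 x hx).symm (h4 y hy).symm h5, hx', hy', one_mul]
        inv_mem' := by
          rintro x ⟨hx, hx'⟩
          exact ⟨inv_mem hx, by rw [inv_pow, hx', inv_one]⟩ }
    have hT : E ≤ T := by
      rw [← h1, closure_le]
      rintro x (rfl | rfl)
      · exact ⟨d.ae, d.ap⟩
      · exact ⟨d.be, d.bp⟩
    exact fun x hx => (hT hx).2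

/-- The configuration with `|E / K| = p²`. -/
structure PC (p : ℕ) (N E H H0 K : Subgroup X) : Prop where
  h : Par p N E H H0
  sr : SR p N
  nn : ¬ H0 ≤ normalizer (E : Set X)
  c : IsCo E H H0 K
  hcomm : ∀ a ∈ E, ∀ b ∈ E, a * b * a⁻¹ * b⁻¹ ∈ K
  hpow : ∀ a ∈ E, a ^ p ∈ K
  hc2 : K.relIndex E = p ^ 2
  npt : ¬ PT p (Lc N H) E K

namespace PC

variable (q : PC p N E H H0 K)

include q

theorem exists_g : ∃ g ∈ H0, ∃ y ∈ cj g E, y ∈ N ∧ y ∉ E := by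
  obtain ⟨g, hg, hgE⟩ : ∃ g ∈ H0, cj g E ≠ E := by
    by_contra hno
    push Not at hno
    exact q.nn fun g hg => mem_norm_of_cj (hno g hg)
  have hne : ¬ cj g E ≤ E := fun hh => hgE (Subgroup.eq_of_le_of_card_ge hh cj_card.ge)
  obtain ⟨y, hy, hyE⟩ := SetLike.not_le_iff_exists.1 hne
  refine ⟨g, hg, y, hy, ?_, hyE⟩
  have : cj g E ≤ cj g N := cj_mono q.h.EN
  rw [cj_eq (q.h.H0N hg)] at this
  exact this hy

/-- Something `H0`-invariant containing `E` contains `N`. -/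
theorem N_le {R : Subgroup X} (hR : H0 ≤ normalizer (R : Set X)) (hE : E ≤ R) : N ≤ R := by
  obtain ⟨g, hg, y, hy, hyN, hyE⟩ := q.exists_g
  refine q.h.le_of_not_mem hyN hyE hE ?_
  have : cj g E ≤ cj g R := cj_mono hE
  rw [cj_eq (hR hg)] at this
  exact this hy

theorem EnK : E ≤ normalizer (K : Set X) := q.h.EH.trans q.c.n

/-- the torus element -/
theorem exists_tau (hp2 : p ≠ 2) : ∃ τ, τ ∈ H0 ∧ τ ∈ Lc N H ⊔ CE H E ∧ IT p E K τ ∧ τ ∈ cs N E := by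
  obtain ⟨τ, h1, h2, h3, h4, h5, h6⟩ := q.c.exists_tau hp2 q.h q.sr q.nn q.hcomm q.hpow q.hc2 q.npt
  have hH : τ ∈ H := (sup_le q.h.LH inf_le_left : Lc N H ⊔ CE H E ≤ H) h2
  exact ⟨τ, h1, h2, ⟨q.h.pE, q.c.le, q.EnK, q.hpow, q.h.HE hH, h3, mem_cs_bot.1 h4, h5⟩, h6⟩

theorem exists_DD (hp2 : p ≠ 2) : ∃ a b, DD p E K a b := by
  obtain ⟨τ, -, -, i, -⟩ := q.exists_tau hp2
  obtain ⟨Z, hZ2, hZ1, hZc, -⟩ := q.h.exists_Z ⟨q.c.le, q.h.HE, q.c.n, q.EnK, q.hcomm, q.hpow⟩ le_rfl q.hc2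
  obtain ⟨a, -, b, -, -, -, -, d, -⟩ := i.exists_DD hp2 q.hcomm q.hc2 hZ2 hZ1 hZc
  exact ⟨a, b, d⟩

/-- `K` is central in `N`. -/
theorem cenK (hp2 : p ≠ 2) : ∀ k ∈ K, ∀ n ∈ N, n * k = k * n := by
  obtain ⟨a, b, d⟩ := q.exists_DD hp2
  have h1 := d.K_cen q.h.pE (q.sr.mono q.h.EN) q.hc2
  have h2 : N ≤ centralizer (K : Set X) := q.N_le (norm_centralizer q.c.n0) fun e he =>
    mem_centralizer_iff.2 fun k hk => (h1 k hk e he).symm
  exact fun k hk n hn => (mem_centralizer_iff.1 (h2 hn) k hk).symm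

/-- The preimage of `Z(N / K)`. -/
theorem exists_D : ∃ D, K ≤ D ∧ D ≤ E ∧ K.relIndex D = p ∧ N ≤ cs E D ∧
    (∀ x, x ∈ D ↔ x ∈ N ∧ ∀ n ∈ N, n * x * n⁻¹ * x⁻¹ ∈ K) ∧ H0 ≤ normalizer (D : Set X) ∧
    ∀ a ∈ N, ∀ b ∈ N, a * b * a⁻¹ * b⁻¹ ∈ D := by
  have hpp : p.Prime := Fact.out
  have hs : Sct p H E K := ⟨q.c.le, q.h.HE, q.c.n, q.EnK, q.hcomm, q.hpow⟩
  obtain ⟨Z, hZ2, hZ1, hZc, hZN⟩ := q.h.exists_Z hs le_rfl q.hc2
  have hNK : N ≤ normalizer (K : Set X) := q.h.NH.trans q.c.n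
  have hNZ : N ≤ normalizer (Z : Set X) := fun n hn => (hZN hn).1
  have hZp := q.h.pE.to_le hZ1
  have h1 : N ≤ cs Z K := N_le_cs q.h.pN hZ2 ((hZ1.trans q.EnK)) hNZ hNK hZp hZc.le
  obtain ⟨D, hD⟩ : ∃ D, D = fx N N K := ⟨_, rfl⟩
  have hDm : ∀ x, x ∈ D ↔ x ∈ N ∧ ∀ n ∈ N, n * x * n⁻¹ * x⁻¹ ∈ K := by
    intro x
    rw [hD, mem_fx]
    exact ⟨fun h => ⟨h.1, h.2.2⟩, fun h => ⟨h.1, hNK h.1, h.2⟩⟩
  have hDE : D ≤ E := by
    intro x hx
    rw [hDm] at hx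
    refine q.h.not_mem_of_not_pt q.h.HE q.c.n q.npt hx.1 ⟨hNK hx.1, fun r hr => ?_⟩
    have h2 := inv_mem (hx.2 r (q.h.EN hr))
    have e : (r * x * r⁻¹ * x⁻¹)⁻¹ = x * r * x⁻¹ * r⁻¹ := by group
    rwa [e] at h2
  have hZD : Z ≤ D := fun z hz => (hDm z).2 ⟨q.h.EN (hZ1 hz), fun n hn => (h1 hn).2 z hz⟩
  have hDne : ¬ E ≤ D := by
    intro hh
    apply q.npt
    refine PT.of_cs (Lc_le_cs' q.h.HE q.c.n fun n hn => ⟨hNK hn, fun r hr => ?_⟩)
    exact ((hDm r).1 (hh hr)).2 n hn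
  have hDZ : D ≤ Z := by
    by_contra hno
    obtain ⟨x, hx, hxZ⟩ := SetLike.not_le_iff_exists.1 hno
    apply hDne
    have h3 : K.relIndex Z * Z.relIndex E = K.relIndex E := relIndex_mul_relIndex _ _ _ hZ2 hZ1
    rw [hZc, q.hc2, pow_two] at h3
    have h4 := Nat.eq_of_mul_eq_mul_left hpp.pos h3
    have h5 := card_mul_relIndex' hZ1
    rw [h4] at h5
    exact le_of_card_p q.h.pE hZ1 h5.ge hZD (hDE hx) hxZ hx
  have hDZ' : D = Z := le_antisymm hDZ hZD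
  have hDc : N ≤ cs E D := hDZ' ▸ hZN
  refine ⟨D, hZ2.trans hZD, hDE, hDZ' ▸ hZc, hDc, hDm, hD ▸ norm_fx q.h.H0N q.h.H0N q.c.n0, ?_⟩
  intro a ha b hb
  by_cases haE : a ∈ E
  · have h2 := inv_mem ((hDc hb).2 a haE)
    have e : (b * a * b⁻¹ * a⁻¹)⁻¹ = a * b * a⁻¹ * b⁻¹ := by group
    rwa [e] at h2
  · have hn := (hDc ha).1
    have h2 : N ≤ sc a D := by
      refine q.h.le_of_not_mem ha haE (fun e he => ⟨(hDc (q.h.EN he)).1, (hDc ha).2 e he⟩) ⟨hn, ?_⟩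
      rw [mul_inv_cancel_right, mul_inv_cancel]
      exact one_mem _
    exact (h2 hb).2

/-- The case `D` not central. -/
theorem D_cen (hp2 : p ≠ 2) (top : Top p N H0) {D : Subgroup X} (hKD : K ≤ D) (hDE : D ≤ E) (hDc : K.relIndex D = p)
    (hDcs : N ≤ cs E D) (hDm : ∀ x, x ∈ D ↔ x ∈ N ∧ ∀ n ∈ N, n * x * n⁻¹ * x⁻¹ ∈ K)
    (nD : H0 ≤ normalizer (D : Set X)) (hND : ∀ a ∈ N, ∀ b ∈ N, a * b * a⁻¹ * b⁻¹ ∈ D) :
    ∀ d ∈ D, ∀ n ∈ N, n * d = d * n := by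
  have hpp : p.Prime := Fact.out
  by_contra hno
  have hnoN : ¬ N ≤ centralizer (D : Set X) := fun hh =>
    hno fun d hd n hn => (mem_centralizer_iff.1 (hh hn) d hd).symm
  have hKc := q.cenK hp2
  obtain ⟨τ, hτ0, hτL, i, hτN⟩ := q.exists_tau hp2
  obtain ⟨a, haD, b, haK, hbD, hat, hbt, d, hDg⟩ := i.exists_DD hp2 q.hcomm q.hc2 hKD hDE hDc
  obtain ⟨g, hg, y, hy, hyN, hyE⟩ := q.exists_g
  have hDN := hDE.trans q.h.EN
  -- `D` is abelian
  have hDab : ∀ x ∈ D, ∀ y ∈ D, x * y = y * x := by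
    have h1 := comm_closure (T := {a} ∪ (K : Set X)) (by
      rintro s (hs | hs) t (ht | ht)
      · rw [Set.mem_singleton_iff.1 hs, Set.mem_singleton_iff.1 ht]
      · rw [Set.mem_singleton_iff.1 hs]; exact d.ak t ht
      · rw [Set.mem_singleton_iff.1 ht]; exact (d.ak s hs).symm
      · exact hKc t ht s (q.h.EN (q.c.le hs)))
    exact fun x hx y hy => h1 x (hDg hx) y (hDg hy)
  obtain ⟨M, hM⟩ : ∃ M, M = N ⊓ centralizer (D : Set X) := ⟨_, rfl⟩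
  have nM : H0 ≤ normalizer (M : Set X) := hM ▸ norm_inf q.h.H0N (norm_centralizer nD)
  have hDM : D ≤ M := by
    rw [hM]
    exact le_inf hDN fun x hx => mem_centralizer_iff.2 fun z hz => hDab z hz x hx
  have hMN : M ≤ N := hM ▸ inf_le_left
  have hEM : E ⊓ M ≤ D := by
    intro x hx
    by_contra hxD
    apply hnoN
    have h3 : K.relIndex D * D.relIndex E = K.relIndex E := relIndex_mul_relIndex _ _ _ hKD hDE
    rw [hDc, q.hc2, pow_two] at h3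
    have h4 := Nat.eq_of_mul_eq_mul_left hpp.pos h3
    have h5 := card_mul_relIndex' hDE
    rw [h4] at h5
    have h6 : E ≤ M := le_of_card_p q.h.pE hDE h5.ge hDM hx.1 hxD hx.2
    refine (q.N_le nM h6).trans ?_
    rw [hM]
    exact inf_le_right
  obtain ⟨τ', hτ'⟩ : ∃ τ', τ' = g * τ * g⁻¹ := ⟨_, rfl⟩
  have hτ'0 : τ' ∈ H0 := by rw [hτ']; exact mul_mem (mul_mem hg hτ0) (inv_mem hg)
  -- (a)
  have ha1 : τ ∈ cs M D := by
    refine ⟨nD hτ0, fun r hr => hEM (Subgroup.mem_inf.2 ⟨hτN.2 r (hMN hr), ?_⟩)⟩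
    exact mul_mem (conj_mem_of_norm (nM hτ0) hr) (inv_mem hr)
  have ha2 : τ' ∈ cs M D := by
    rw [hτ']
    exact cs_conj nM nD hg ha1
  -- (b)
  have hb1 : ∀ s ∈ N, τ * s * τ⁻¹ * s ∈ M := by
    intro s hs
    have ht : τ * s * τ⁻¹ ∈ N := conj_mem_of_norm (q.h.H0N hτ0) hs
    rw [hM]
    refine Subgroup.mem_inf.2 ⟨mul_mem ht hs, mem_centralizer_iff.2 fun x hx => ?_⟩
    obtain ⟨t, htdef⟩ : ∃ t, t = τ * s * τ⁻¹ := ⟨_, rfl⟩
    obtain ⟨z, hz⟩ : ∃ z, z = s * x * s⁻¹ * x⁻¹ := ⟨_, rfl⟩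
    obtain ⟨κ, hκ⟩ : ∃ κ, κ = τ * x * τ⁻¹ * x := ⟨_, rfl⟩
    have hzK : z ∈ K := hz ▸ ((hDm x).1 hx).2 s hs
    have hκK : κ ∈ K := hκ ▸ i.inv x (hDE hx)
    have hxN := hDN hx
    rw [← htdef] at ht ⊢
    have e1 : τ * z * τ⁻¹ = z := by rw [i.tK z hzK, mul_inv_cancel_right]
    have e2 : τ * z * τ⁻¹ = t * (κ * x⁻¹) * t⁻¹ * (κ * x⁻¹)⁻¹ := by
      rw [hz, htdef, hκ]; group
    have e3 : t * (κ * x⁻¹) * t⁻¹ * (κ * x⁻¹)⁻¹ = t * x⁻¹ * t⁻¹ * x := by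
      have h1 : t * κ = κ * t := hKc κ hκK t ht
      have h2 : (t * x⁻¹ * t⁻¹ * x) * κ = κ * (t * x⁻¹ * t⁻¹ * x) :=
        hKc κ hκK _ (mul_mem (mul_mem (mul_mem ht (inv_mem hxN)) (inv_mem ht)) hxN)
      calc t * (κ * x⁻¹) * t⁻¹ * (κ * x⁻¹)⁻¹ = (t * κ) * x⁻¹ * t⁻¹ * x * κ⁻¹ := by group
        _ = κ * (t * x⁻¹ * t⁻¹ * x) * κ⁻¹ := by rw [h1]; group
        _ = _ := by rw [← h2, mul_inv_cancel_right]
    have e4 : t * x⁻¹ * t⁻¹ = z * x⁻¹ := by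
      rw [e2, e3] at e1
      rw [← e1]; group
    have e5 : t * x * t⁻¹ = x * z⁻¹ := by
      have : t * x * t⁻¹ = (t * x⁻¹ * t⁻¹)⁻¹ := by group
      rw [this, e4]; group
    have e6 : s * x * s⁻¹ = z * x := by rw [hz]; group
    have h3 : t * z = z * t := hKc z hzK t ht
    have h4 : x * z = z * x := hKc z hzK x hxN
    have e7 : t * s * x * (t * s)⁻¹ = x := by
      calc t * s * x * (t * s)⁻¹ = t * (s * x * s⁻¹) * t⁻¹ := by group
        _ = (t * z) * x * t⁻¹ := by rw [e6]; group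
        _ = z * (t * x * t⁻¹) := by rw [h3]; group
        _ = (z * x) * z⁻¹ := by rw [e5]; group
        _ = x := by rw [← h4, mul_inv_cancel_right]
    rw [mul_inv_eq_iff_eq_mul] at e7
    exact e7.symm
  have hb2 : ∀ s ∈ N, τ' * s * τ'⁻¹ * s ∈ M := by
    intro s hs
    have h1 : g⁻¹ * s * g⁻¹⁻¹ ∈ N := conj_mem_of_norm (q.h.H0N (inv_mem hg)) hs
    have h2 := conj_mem_of_norm (nM hg) (hb1 _ h1)
    have e : g * (τ * (g⁻¹ * s * g⁻¹⁻¹) * τ⁻¹ * (g⁻¹ * s * g⁻¹⁻¹)) * g⁻¹ = τ' * s * τ'⁻¹ * s := by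
      rw [hτ']
      simp only [mul_inv_rev, inv_inv, mul_assoc, inv_mul_cancel_left, mul_inv_cancel_left, mul_inv_cancel, mul_one]
    rwa [e] at h2
  obtain ⟨x, hx⟩ : ∃ x, x = τ * τ' := ⟨_, rfl⟩
  have hx0 : x ∈ H0 := hx ▸ mul_mem hτ0 hτ'0
  have hxM : x ∈ cs M D := hx ▸ mul_mem ha1 ha2
  have hxN : x ∈ cs N M := by
    refine ⟨nM hx0, fun s hs => ?_⟩
    obtain ⟨s', hs'⟩ : ∃ s', s' = τ' * s * τ'⁻¹ := ⟨_, rfl⟩
    have hs'N : s' ∈ N := hs' ▸ conj_mem_of_norm (q.h.H0N hτ'0) hs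
    have h1 := hb1 s' hs'N
    have h2 := hb2 s hs
    rw [← hs'] at h2
    have e : x * s * x⁻¹ * s⁻¹ = (τ * s' * τ⁻¹ * s') * (s * (s' * s)⁻¹ * s⁻¹) := by
      rw [hx, hs']; group
    rw [e]
    exact mul_mem h1 (conj_mem_of_norm ((q.h.N0.trans nM) hs) (inv_mem h2))
  obtain ⟨m, hm⟩ := exists_pow_mem (R := M) (q.h.pN.to_le hMN)
  have hxp : x ^ p ^ m ∈ cs N D := cs_pow_chain hxN hxM fun s hs => by rw [hm s hs]; exact one_mem _
  have h1 := top.mem q.h.pN q.h.N0 q.h.H0N (R₁ := N) (R₂ := D) hDN le_rfl q.h.H0N nD hx0 hxp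
  have h2 : N ≤ cs N D := fun n hn => ⟨(hDcs hn).1, fun r hr => hND n hn r hr⟩
  have h3 : x ∈ cs N D := (sup_le h2 inf_le_right : N ⊔ (H0 ⊓ cs N D) ≤ cs N D) h1
  -- contradiction on `y`
  have h4 := h3.2 y hyN
  have h5 : τ' * y * τ'⁻¹ * y ∈ K := by
    obtain ⟨e, he, hey⟩ := hy
    have hey' : y = g * e * g⁻¹ := hey.symm
    have h6 := conj_mem_of_norm (q.c.n0 hg) (i.inv e he)
    have e1 : g * (τ * e * τ⁻¹ * e) * g⁻¹ = τ' * y * τ'⁻¹ * y := by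
      rw [hey', hτ']
      simp only [mul_inv_rev, inv_inv, mul_assoc, inv_mul_cancel_left, mul_inv_cancel_left, mul_inv_cancel, mul_one]
    rwa [e1] at h6
  obtain ⟨k, hk⟩ : ∃ k, k = τ' * y * τ'⁻¹ * y := ⟨_, rfl⟩
  rw [← hk] at h5
  have h6 : τ * k * τ⁻¹ = k := by rw [i.tK k h5, mul_inv_cancel_right]
  have h7 := hτN.2 y hyN
  obtain ⟨w, hw⟩ : ∃ w, w = τ * y * τ⁻¹ * y⁻¹ := ⟨_, rfl⟩
  rw [← hw] at h7
  have e2 : x * y * x⁻¹ * y⁻¹ = k * (y⁻¹ * w⁻¹ * y⁻¹⁻¹) * (y ^ 2)⁻¹ := by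
    have e3 : x * y * x⁻¹ = τ * k * τ⁻¹ * (τ * y * τ⁻¹)⁻¹ := by
      rw [hx, hk]; group
    rw [e3, h6, hw, pow_two]
    group
  rw [e2] at h4
  have h8 : (y ^ 2)⁻¹ ∈ E := by
    have h9 := mul_mem (inv_mem (mul_mem (q.c.le h5) (conj_mem_of_norm (q.h.NE (inv_mem hyN)) (inv_mem h7)))) (hDE h4)
    have e4 : (k * (y⁻¹ * w⁻¹ * y⁻¹⁻¹))⁻¹ * (k * (y⁻¹ * w⁻¹ * y⁻¹⁻¹) * (y ^ 2)⁻¹) = (y ^ 2)⁻¹ := by group
    rwa [e4] at h9
  rw [inv_mem_iff] at h8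
  exact hyE (mem_of_sq_mem hp2 q.h.pN hyN h8)

/-- **Lemma E**: an invariant subgroup. -/
theorem lemE (hp2 : p ≠ 2) (top : Top p N H0) (hK : K ≠ ⊥) : ∃ R, R ≠ ⊥ ∧ R ≤ N ∧ H0 ≤ normalizer (R : Set X) ∧
    ∀ E₃ H₃, Par p N E₃ H₃ H0 → ¬ PT p (Lc N H₃) E₃ ⊥ → R ≤ E₃ ∧ H₃ ≤ normalizer (R : Set X) := by
  have hpp : p.Prime := Fact.out
  obtain ⟨D, hKD, hDE, hDc, hDcs, hDm, nD, hND⟩ := q.exists_D
  have hDcen := q.D_cen hp2 top hKD hDE hDc hDcs hDm nD hND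
  have hKc := q.cenK hp2
  obtain ⟨τ, hτ0, hτL, i, hτN⟩ := q.exists_tau hp2
  obtain ⟨a, haD, b, haK, hbD, hat, hbt, d, hDg⟩ := i.exists_DD hp2 q.hcomm q.hc2 hKD hDE hDc
  obtain ⟨g, hg, y, hy, hyN, hyE⟩ := q.exists_g
  have hDN := hDE.trans q.h.EN
  have hKN := q.c.le.trans q.h.EN
  have hab : a * b = b * a := (hDcen a haD b (q.h.EN d.be)).symm
  have hKp := q.h.pE.to_le q.c.le
  have nF0 : H0 ≤ normalizer (Fr p K : Set X) := norm_Fr q.c.n0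
  -- `p`-th powers
  have hEF : ∀ e ∈ E, e ^ p ∈ Fr p K := by
    have hTcom : ∀ s ∈ ({a, b} ∪ (K : Set X)), ∀ t ∈ ({a, b} ∪ (K : Set X)), s * t = t * s := by
      rintro s (hs | hs) t (ht | ht)
      · rcases hs with rfl | rfl <;> rcases ht with rfl | rfl
        · rfl
        · exact hab
        · exact hab.symm
        · rfl
      · rcases hs with rfl | rfl
        · exact d.ak t ht
        · exact d.bk t ht
      · rcases ht with rfl | rfl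
        · exact (d.ak s hs).symm
        · exact (d.bk s hs).symm
      · exact hKc t ht s (hKN hs)
    have h1 := EA_mod (p := p) (B := Fr p K) (T := {a, b} ∪ (K : Set X)) (by
        intro x hx
        have hxN : x ∈ N := by
          rcases hx with hx | hx
          · rcases hx with rfl | rfl
            · exact q.h.EN d.ae
            · exact q.h.EN d.be
          · exact hKN hx
        exact nF0 (q.h.N0 hxN)) (by
        intro s hs t ht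
        rw [hTcom s hs t ht, mul_inv_cancel_right, mul_inv_cancel]
        exact one_mem _) (by
        rintro t (ht | ht)
        · rcases ht with rfl | rfl
          · rw [d.ap]; exact one_mem _
          · rw [d.bp]; exact one_mem _
        · exact pow_mem_Fr ht)
    exact fun e he => h1.2 e (d.gen he)
  have hNF : ∀ s ∈ N, s ^ p ∈ Fr p K := by
    intro s hs
    have hgE : cj g E ≤ normalizer (E : Set X) := by
      have h1 : cj g E ≤ cj g N := cj_mono q.h.EN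
      rw [cj_eq (q.h.H0N hg)] at h1
      exact h1.trans q.h.NE
    have h1 : N ≤ cj g E ⊔ E := q.h.le_of_not_mem hyN hyE le_sup_right (mem_sup_left hy)
    obtain ⟨u, hu, v, hv, rfl⟩ := (mem_sup_iff hgE).1 (h1 hs)
    have huN : u ∈ N := by
      have h1 : cj g E ≤ cj g N := cj_mono q.h.EN
      rw [cj_eq (q.h.H0N hg)] at h1
      exact h1 hu
    have hvN := q.h.EN hv
    have hup : u ^ p ∈ Fr p K := by
      obtain ⟨e, he, heu⟩ := hu
      have heu' : u = g * e * g⁻¹ := heu.symm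
      rw [heu', conj_pow]
      exact conj_mem_of_norm (nF0 hg) (hEF e he)
    have hvp := hEF v hv
    obtain ⟨z, hz⟩ : ∃ z, z = v⁻¹ * u⁻¹ * v⁻¹⁻¹ * u⁻¹⁻¹ := ⟨_, rfl⟩
    have hzD : z ∈ D := hz ▸ hND _ (inv_mem hvN) _ (inv_mem huN)
    have hzp : z ^ p = 1 := by
      have h2 : v⁻¹ * u⁻¹ * v⁻¹⁻¹ = z * u⁻¹ := by rw [hz]; group
      have h3 : (v⁻¹ * u⁻¹ * v⁻¹⁻¹) ^ p = u⁻¹ ^ p := by
        rw [conj_pow, inv_pow]
        have h4 := hKc _ (Fr_le p K hup) v hvN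
        have h5 : Commute v (u ^ p) := h4
        have h6 : Commute v⁻¹ (u ^ p)⁻¹ := h5.inv_left.inv_right
        rw [h6.eq, mul_inv_cancel_right]
      rw [h2] at h3
      have h4 : Commute z u⁻¹ := (hDcen z hzD u⁻¹ (inv_mem huN)).symm
      rw [h4.mul_pow] at h3
      exact mul_eq_right.1 h3
    rw [Cfsg.Agent.Transfer.PGroupNormal.mul_pow_prime hpp hp2 (c := z)
      (by rw [hz]; group) (hDcen z hzD u huN).symm (hDcen z hzD v hvN).symm hzp]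
    exact mul_mem hup hvp
  have hEc : Nat.card D * p = Nat.card E := by
    have h3 : K.relIndex D * D.relIndex E = K.relIndex E := relIndex_mul_relIndex _ _ _ hKD hDE
    rw [hDc, q.hc2, pow_two] at h3
    have h4 := Nat.eq_of_mul_eq_mul_left hpp.pos h3
    have h5 := card_mul_relIndex' hDE
    rwa [h4] at h5
  -- the others
  have hE3 : ∀ E₃ H₃, Par p N E₃ H₃ H0 → ¬ PT p (Lc N H₃) E₃ ⊥ → D ≤ E₃ ∧ (∀ x ∈ E₃, ∀ y ∈ E₃, x * y = y * x) := by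
    intro E₃ H₃ h₃ np₃
    have h1 : D ≤ E₃ := fun x hx => h₃.mem_of_commute np₃ (hDN hx) fun e he => (hDcen x hx e (h₃.EN he)).symm
    refine ⟨h1, ?_⟩
    have h2 : Nat.card E₃ ≤ Nat.card D * p := by rw [hEc]; exact (card_E_eq h₃ q.h).le
    by_cases h3 : E₃ ≤ D
    · exact fun x hx y hy => (hDcen x (h3 hx) y (h₃.EN hy)).symm
    · obtain ⟨x₀, hx₀, hx₀D⟩ := SetLike.not_le_iff_exists.1 h3
      have h4 : E₃ ≤ closure ({x₀} ∪ (D : Set X)) := le_of_card_p h₃.pE h1 h2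
        (fun k hk => subset_closure (Or.inr hk)) hx₀ hx₀D (subset_closure (Or.inl rfl))
      have h5 := comm_closure (T := {x₀} ∪ (D : Set X)) (by
        rintro s (hs | hs) t (ht | ht)
        · rw [Set.mem_singleton_iff.1 hs, Set.mem_singleton_iff.1 ht]
        · rw [Set.mem_singleton_iff.1 hs]
          exact hDcen t ht x₀ (h₃.EN hx₀)
        · rw [Set.mem_singleton_iff.1 ht]
          exact (hDcen s hs x₀ (h₃.EN hx₀)).symm
        · exact hDcen t ht s (hDN hs))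
      exact fun x hx y hy => h5 x (h4 hx) y (h4 hy)
  by_cases hF : Fr p K = ⊥
  · -- `|K| = p`
    have hcen1 : a * b * a⁻¹ * b⁻¹ = 1 := by rw [hab]; group
    have hKc1 : Nat.card K ≤ p := by
      have h1 := d.relIndex_B (q.sr.mono q.h.EN) q.hc2
      rw [hcen1, zpowers_one_eq_bot, hF, bot_sup_eq, relIndex_bot_left] at h1
      exact h1
    have hKcard : Nat.card K = p := by
      refine le_antisymm hKc1 ?_
      have h1 := card_mul_p_le hKp (bot_le : (⊥ : Subgroup X) ≤ K) (fun hh => hK (le_bot_iff.1 hh))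
      rwa [card_bot, one_mul] at h1
    refine ⟨K, hK, hKN, q.c.n0, fun E₃ H₃ h₃ np₃ => ?_⟩
    obtain ⟨hD3, hab3⟩ := hE3 E₃ H₃ h₃ np₃
    refine ⟨hKD.trans hD3, ?_⟩
    have hDcard : Nat.card D = p ^ 2 := by
      have := card_mul_relIndex' hKD
      rw [hDc, hKcard] at this
      rw [← this, pow_two]
    have hE3card : Nat.card E₃ = p ^ 3 := by
      rw [card_E_eq h₃ q.h, ← hEc, hDcard]; ring
    have ea3 : EA p E₃ := ⟨hab3, fun x hx => by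
      have := hNF x (h₃.EN hx)
      rwa [hF, mem_bot] at this⟩
    have hs3 : Sct p H₃ E₃ ⊥ := ⟨bot_le, h₃.HE, norm_bot _, norm_bot _, fun x hx y hy => by
      rw [mem_bot, hab3 x hx y hy]; group, fun x hx => by rw [mem_bot]; exact ea3.pow x hx⟩
    have hEcs : E₃ ≤ cs E₃ ⊥ := fun e he => mem_cs_bot.2 fun r hr => hab3 e he r hr
    obtain ⟨Z', -, hZ'1, hZ'c, hZ'N⟩ := h₃.exists_Z' hs3 le_rfl hEcs np₃ (C := D) bot_le hD3 (by
      refine relIndex_le_of_card hD3 ?_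
      rw [hE3card, hDcard]
      exact (by ring : p ^ 3 = p * p ^ 2).le) (fun n hn => mem_cs_bot.2 fun r hr => hDcen r hr n hn)
    obtain ⟨V₁, V₂, τ₃, t₃⟩ := h₃.exists_tau hp2 hs3 le_rfl hEcs (by rw [relIndex_bot_left, hE3card]) np₃ bot_le hZ'1
      hZ'c hZ'N
    have hV1c : Nat.card V₁ = p := t₃.card_V1 hab3 hE3card
    have hV2c : Nat.card V₂ = p ^ 2 := by
      have := t₃.card2
      rwa [relIndex_bot_left] at this
    -- `[N, E₃]` is in `V₂`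
    have hNV2 : ∀ n ∈ N, ∀ e ∈ E₃, n * e * n⁻¹ * e⁻¹ ∈ V₂ := fun n hn e he => (t₃.L2 (le_Lc _ _ hn)).2 e he
    -- `V₂` is not contained in `D`
    have hV2D : ¬ V₂ ≤ D := by
      intro hh
      apply t₃.npt
      refine PT.of_cs (Lc_le_cs' t₃.n2 (norm_bot _) fun n hn => mem_cs_bot.2 fun r hr => hDcen r (hh hr) n hn)
    have hE3D : ¬ E₃ ≤ D := by
      intro hh
      have := Subgroup.card_le_of_le hh
      rw [hE3card, hDcard] at this
      exact absurd ((Nat.pow_le_pow_iff_right hpp.one_lt).1 this) (by norm_num)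
    obtain ⟨e, he, heD⟩ := SetLike.not_le_iff_exists.1 hE3D
    have hex : ∃ n ∈ N, n * e * n⁻¹ * e⁻¹ ∉ K := by
      by_contra hno
      push Not at hno
      exact heD ((hDm e).2 ⟨h₃.EN he, hno⟩)
    obtain ⟨n, hn, hne⟩ := hex
    have hKV2 : ¬ K ≤ V₂ := by
      intro hh
      apply hV2D
      have hw2 := hNV2 n hn e he
      have hwD := hND n hn e (h₃.EN he)
      refine le_of_card_p (A := K) (K := D) (h₃.pE.to_le t₃.le2') hh ?_ hKD hw2 hne hwD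
      rw [hV2c, hKcard, pow_two]
    obtain ⟨k, hk, hkV⟩ := SetLike.not_le_iff_exists.1 hKV2
    obtain ⟨v₁, hv₁, v₂, hv₂, hv⟩ := t₃.sup k (hD3 (hKD hk))
    have hv1E := t₃.le1' hv₁
    have hv2E := t₃.le2' hv₂
    have hτv1 : τ₃ * v₁ * τ₃⁻¹ = v₁ := by
      have := mem_cs_bot.1 t₃.t1 v₁ hv₁
      rw [this, mul_inv_cancel_right]
    have hτv2 : τ₃ * v₂ * τ₃⁻¹ = v₂⁻¹ := by
      have := t₃.t2 v₂ hv₂
      rwa [mem_bot, mul_eq_one_iff_eq_inv] at this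
    have h1 : τ₃ * k * τ₃⁻¹ ∈ K := conj_mem_of_norm (q.c.n0 t₃.t0) hk
    have h2 : τ₃ * k * τ₃⁻¹ = v₁ * v₂⁻¹ := by
      rw [← hv]
      calc τ₃ * (v₁ * v₂) * τ₃⁻¹ = (τ₃ * v₁ * τ₃⁻¹) * (τ₃ * v₂ * τ₃⁻¹) := by group
        _ = _ := by rw [hτv1, hτv2]
    have h3 : v₁ ^ 2 ∈ K := by
      have h4 := mul_mem h1 hk
      rw [h2, ← hv] at h4
      have e1 : v₁ * v₂⁻¹ * (v₁ * v₂) = v₁ ^ 2 := by
        have c1 : Commute v₂⁻¹ v₁ := (show Commute v₂ v₁ from hab3 v₂ hv2E v₁ hv1E).inv_left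
        calc v₁ * v₂⁻¹ * (v₁ * v₂) = v₁ * (v₂⁻¹ * v₁) * v₂ := by group
          _ = v₁ * (v₁ * v₂⁻¹) * v₂ := by rw [c1.eq]
          _ = v₁ ^ 2 := by rw [pow_two]; group
      rwa [e1] at h4
    have h4 : v₁ ∈ K := mem_of_sq_mem hp2 h₃.pE hv1E h3
    have hv1ne : v₁ ≠ 1 := by
      rintro rfl
      apply hkV
      rw [← hv, one_mul]
      exact hv₂
    have h5 : V₁ ≤ K := le_of_card_p (A := (⊥ : Subgroup X)) (h₃.pE.to_le t₃.le1') bot_le
      (by rw [hV1c, card_bot, one_mul]) bot_le hv₁ (by rwa [mem_bot]) h4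
    have h6 : V₁ = K := Subgroup.eq_of_le_of_card_ge h5 (by rw [hV1c, hKcard])
    rw [← h6]
    exact t₃.n1
  · refine ⟨Fr p K, hF, (Fr_le p K).trans hKN, nF0, fun E₃ H₃ h₃ np₃ => ?_⟩
    obtain ⟨hD3, hab3⟩ := hE3 E₃ H₃ h₃ np₃
    have hK3 := hKD.trans hD3
    refine ⟨(Fr_le p K).trans hK3, ?_⟩
    have h1 : Fr p E₃ = Fr p K := by
      apply le_antisymm
      · rw [Fr_le_iff]
        constructor
        · intro x hx y hy
          rw [hab3 x hx y hy, mul_inv_cancel_right, mul_inv_cancel]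
          exact one_mem _
        · exact fun x hx => hNF x (h₃.EN hx)
      · exact Fr_mono hK3
    rw [← h1]
    exact norm_Fr h₃.HE

end PC

end

end Cfsg.Agent.H765
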