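import Cfsg.Agent.H802.FusEss
import Cfsg.Agent.H744.EssRad
import Cfsg.Agent.H759.FusNormal

/-!
# Essential subgroups: normal `p`-subgroups of `Aut_F(E)` are inner, chains (helper765)
-/

set_option autoImplicit false

namespace Cfsg.Agent.H765.Ess

open Cfsg Cfsg.FusionSystem Cfsg.Agent.H802

variable {Ω : Type*} [Group Ω] {S : Subgroup Ω} {p : ℕ} [Fact p.Prime] [Finite S]

/-- A normal `p`-subgroup of `Aut_F(E)`, `E` essential, consists of inner automorphisms. -/
theorem le_inn (hS : IsPGroup p S) {F : FusionSystem S} {E : Subgroup Ω} (hE : F.IsEssential p E)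
    (K : Subgroup (MulAut E)) (hKA : K ≤ F.autGroup E)
    (hKn : ∀ a ∈ F.autGroup E, ∀ k ∈ K, a * k * a⁻¹ ∈ K) (hK : IsPGroup p K) : K ≤ Inn E := by
  have hr := (Cfsg.Agent.H744.isRadical_of_isEssential hS hE).2
  have hfinE : Finite E := finite_of_le hE.1.1
  have h1 : (K.subgroupOf (F.autGroup E)).Normal := ⟨fun n hn g => hKn g g.2 n hn⟩
  have h2 : IsPGroup p (K.subgroupOf (F.autGroup E)) :=
    hK.comap_of_injective (F.autGroup E).subtype (F.autGroup E).subtype_injective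
  have h3 := Cfsg.Agent.Lib.Cores.le_pCore h1 h2
  have h4 := Subgroup.map_mono (f := (F.autGroup E).subtype) h3
  rw [hr, Subgroup.subgroupOf_map_subtype, inf_eq_left.2 hKA] at h4
  exact h4

/-- An element of `S` inducing on the essential subgroup `E` an automorphism that stabilizes a chain of
`Aut_F(E)`-invariant subgroups lies in `E`. -/
theorem mem_of_chain (hS : IsPGroup p S) {F : FusionSystem S} {E : Subgroup Ω}
    (hE : F.IsEssential p E) (n : ℕ) (c : ℕ → Subgroup E) (h0 : c 0 = ⊤) (hn : c n = ⊥)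
    (hinv : ∀ i ≤ n, ∀ α ∈ F.autGroup E, ∀ x ∈ c i, α x ∈ c i)
    {g : Ω} (hg : g ∈ S) {τ : MulAut E} (hτ : ∀ x : E, ((τ x : E) : Ω) = g * x * g⁻¹)
    (hst : ∀ i < n, ∀ x ∈ c i, x⁻¹ * τ x ∈ c (i + 1)) : g ∈ E := by
  have hES : E ≤ S := hE.1.1
  have hfinE : Finite E := finite_of_le hES
  have hEp : IsPGroup p E := hS.to_le hES
  have hτA : τ ∈ F.autGroup E := autInducedBy_le_autGroup F hES (conj_mem_autInducedBy hg hτ)
  let K : Subgroup (MulAut E) :=
    { carrier := {α | α ∈ F.autGroup E ∧ ∀ i < n, ∀ x ∈ c i, x⁻¹ * α x ∈ c (i + 1)}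
      one_mem' := ⟨one_mem _, fun i _ x _ => by simp⟩
      mul_mem' := by
        rintro a b ⟨ha, ha'⟩ ⟨hb, hb'⟩
        refine ⟨mul_mem ha hb, fun i hi x hx => ?_⟩
        have h1 := hb' i hi x hx
        have h2 := ha' i hi (b x) (hinv i hi.le b hb x hx)
        have : x⁻¹ * (a * b) x = (x⁻¹ * b x) * ((b x)⁻¹ * a (b x)) := by
          rw [MulAut.mul_apply]; group
        rw [this]
        exact mul_mem h1 h2
      inv_mem' := by
        rintro a ⟨ha, ha'⟩
        refine ⟨inv_mem ha, fun i hi x hx => ?_⟩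
        have h2 := ha' i hi (a⁻¹ x) (hinv i hi.le a⁻¹ (inv_mem ha) x hx)
        have h3 : a (a⁻¹ x) = x := a.apply_symm_apply x
        rw [h3] at h2
        have := inv_mem h2
        rwa [mul_inv_rev, inv_inv] at this }
  have hKp : IsPGroup p K := by
    rintro ⟨κ, hκ⟩
    obtain ⟨k, hk⟩ := Cfsg.Agent.H759.exists_pow_eq_one_of_chain hEp κ n c h0 hn
      (fun i hi x hx => hinv i hi κ hκ.1 x hx) hκ.2
    exact ⟨k, Subtype.ext hk⟩
  have hKn : ∀ a ∈ F.autGroup E, ∀ k ∈ K, a * k * a⁻¹ ∈ K := by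
    rintro a ha k ⟨hk, hk'⟩
    refine ⟨mul_mem (mul_mem ha hk) (inv_mem ha), fun i hi x hx => ?_⟩
    have h1 := hk' i hi (a⁻¹ x) (hinv i hi.le a⁻¹ (inv_mem ha) x hx)
    have h2 := hinv (i + 1) hi a ha _ h1
    rw [map_mul, map_inv] at h2
    have h3 : a (a⁻¹ x) = x := a.apply_symm_apply x
    rw [h3] at h2
    exact h2
  have hle := le_inn hS hE K (fun α hα => hα.1) hKn hKp
  exact mem_of_conj_mem_inn hES (hE.1.2 E (isConj_refl F hES)) hg hτ (hle ⟨hτA, hst⟩)

end Cfsg.Agent.H765.Ess
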