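import Cfsg.Agent.H765.CaseA2

/-!
# A weight argument (helper765)
-/

set_option autoImplicit false
set_option linter.unusedSectionVars false
set_option linter.unusedSimpArgs false
set_option linter.unusedVariables false

namespace Cfsg.Agent.H765

open Module Subgroup

universe u

variable {Y : Type u} [Group Y]

theorem mem_of_pow_eq {p : ℕ} [hp : Fact p.Prime] {A : Subgroup Y} {w : Y} (hw : w ^ p ∈ A) {a b : ℕ}
    (hab : (a : ZMod p) ≠ b) (h : w ^ a * (w ^ b)⁻¹ ∈ A) : w ∈ A := by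
  have h1 : w ^ ((a : ℤ) - b) ∈ A := by
    rw [zpow_sub, zpow_natCast, zpow_natCast]
    exact h
  have h2 : IsCoprime ((a : ℤ) - b) (p : ℤ) := by
    rw [isCoprime_comm, (Nat.prime_iff_prime_int.1 hp.out).coprime_iff_not_dvd, ← ZMod.intCast_zmod_eq_zero_iff_dvd]
    push_cast
    exact sub_ne_zero.2 hab
  obtain ⟨u, v, huv⟩ := h2
  have h3 : w ^ (u * ((a : ℤ) - b) + v * (p : ℤ)) ∈ A := by
    rw [zpow_add, mul_comm u, mul_comm v, zpow_mul, zpow_mul, zpow_natCast]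
    exact mul_mem (zpow_mem h1 u) (zpow_mem hw v)
  rwa [huv, zpow_one] at h3

/-- **The weight argument**. -/
theorem fin_lemma {p : ℕ} [hp : Fact p.Prime] {D M N Z : Subgroup Y} {γ x h : Y} {c : ℕ} (hDM : D ≤ M) (hMN : M ≤ N)
    (hZD : Z ≤ D) (nN : x ∈ normalizer (N : Set Y)) (xp : x ^ p ∈ N)
    (cen : ∀ d ∈ D, ∀ n ∈ N, n * d = d * n) (xD : ∀ d ∈ D, x * d = d * x) (exp : ∀ n ∈ N, n ^ p = 1)
    (γM : γ ∈ M) (γgen : ∀ m ∈ M, ∃ d ∈ D, ∃ i : ℕ, m = d * γ ^ i)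
    (comm : ∀ a ∈ N, ∀ b ∈ N, a * b * a⁻¹ * b⁻¹ ∈ Z) (sur : ∀ w ∈ Z, ∃ n ∈ N, n * γ * n⁻¹ = w * γ)
    (self : ∀ n ∈ N, n * γ = γ * n → n ∈ M) (hγ : x * γ * x⁻¹ * γ⁻¹ ∈ D)
    (hD : ∀ d ∈ D, h * d * h⁻¹ * d⁻¹ ∈ Z) (hM : ∀ m ∈ M, h * m * h⁻¹ * (m ^ (c * c))⁻¹ ∈ D)
    (hZ : ∀ w ∈ Z, h * w * h⁻¹ * (w ^ c)⁻¹ = 1) (hN : h ∈ normalizer (N : Set Y))
    (hx : h * x * h⁻¹ * (x ^ (c * c * c))⁻¹ ∈ N) (c0 : (c : ZMod p) ≠ 0) (c1 : (c : ZMod p) ≠ 1)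
    (c2 : (c : ZMod p) * c ≠ 1) (c3 : (c : ZMod p) * c * c ≠ 1) (c5 : (c : ZMod p) * c * c * c * c ≠ 1) :
    ∃ n ∈ N, (n * x) ^ p = 1 ∧ ∀ m ∈ M, (n * x) * m = m * (n * x) := by
  obtain ⟨k, hk⟩ : ∃ k, k = c * c * c := ⟨_, rfl⟩
  obtain ⟨j, hj⟩ : ∃ j, j = c * c := ⟨_, rfl⟩
  rw [← hk] at hx
  rw [← hj] at hM
  have hDN := hDM.trans hMN
  have γN := hMN γM
  -- step 1
  obtain ⟨δ, hδ⟩ : ∃ δ, δ = x * γ * x⁻¹ * γ⁻¹ := ⟨_, rfl⟩
  rw [← hδ] at hγ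
  have hxγ : x * γ * x⁻¹ = δ * γ := by rw [hδ]; group
  have hxδ : Commute x δ := xD δ hγ
  have hγδ : Commute γ δ := cen δ hγ γ γN
  have hpow : ∀ i : ℕ, x ^ i * γ * (x ^ i)⁻¹ = δ ^ i * γ := by
    intro i
    induction i with
    | zero => simp
    | succ i ih =>
      have e : x ^ (i + 1) * γ * (x ^ (i + 1))⁻¹ = x * (x ^ i * γ * (x ^ i)⁻¹) * x⁻¹ := by
        rw [pow_succ']; group
      rw [e, ih]
      have e2 : x * (δ ^ i * γ) * x⁻¹ = (x * δ ^ i) * γ * x⁻¹ := by group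
      have e3 : x * δ ^ i = δ ^ i * x := (hxδ.pow_right i).eq
      rw [e2, e3]
      have e4 : δ ^ i * x * γ * x⁻¹ = δ ^ i * (x * γ * x⁻¹) := by group
      rw [e4, hxγ, pow_succ]
      group
  have hxk : ∀ d ∈ D, x ^ k * d = d * x ^ k := fun d hd => ((show Commute x d from xD d hd).pow_left k).eq
  obtain ⟨n', hn'⟩ : ∃ n', n' = h * x * h⁻¹ * (x ^ k)⁻¹ := ⟨_, rfl⟩
  rw [← hn'] at hx
  have hx' : h * x * h⁻¹ = n' * x ^ k := by rw [hn']; group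
  obtain ⟨d', hd'⟩ : ∃ d', d' = h * γ * h⁻¹ * (γ ^ j)⁻¹ := ⟨_, rfl⟩
  have hd'D : d' ∈ D := hd' ▸ hM γ γM
  have hγ' : h * γ * h⁻¹ = d' * γ ^ j := by rw [hd']; group
  have hδZ : δ ∈ Z := by
    obtain ⟨ζ, hζ⟩ : ∃ ζ, ζ = n' * γ ^ j * n'⁻¹ * (γ ^ j)⁻¹ := ⟨_, rfl⟩
    have hζZ : ζ ∈ Z := hζ ▸ comm n' hx _ (pow_mem γN j)
    have e1 : x ^ k * γ ^ j * (x ^ k)⁻¹ = δ ^ (k * j) * γ ^ j := by
      rw [← conj_pow, hpow, (show Commute (δ ^ k) γ from (hγδ.symm.pow_left k)).mul_pow, ← pow_mul]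
    have e2 : h * (x * γ * x⁻¹) * h⁻¹ = (h * x * h⁻¹) * (h * γ * h⁻¹) * (h * x * h⁻¹)⁻¹ := by group
    have e3 : (h * x * h⁻¹) * (h * γ * h⁻¹) * (h * x * h⁻¹)⁻¹ = d' * δ ^ (k * j) * ζ * γ ^ j := by
      rw [hx', hγ']
      have hdd : d' * δ ^ (k * j) ∈ D := mul_mem hd'D (pow_mem hγ _)
      calc n' * x ^ k * (d' * γ ^ j) * (n' * x ^ k)⁻¹ = n' * ((x ^ k * d') * γ ^ j * (x ^ k)⁻¹) * n'⁻¹ := by group
        _ = n' * (d' * (x ^ k * γ ^ j * (x ^ k)⁻¹)) * n'⁻¹ := by rw [hxk d' hd'D]; group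
        _ = (n' * (d' * δ ^ (k * j))) * γ ^ j * n'⁻¹ := by rw [e1]; group
        _ = (d' * δ ^ (k * j)) * (n' * γ ^ j * n'⁻¹) := by rw [cen _ hdd n' hx]; group
        _ = _ := by rw [hζ]; group
    have e4 : h * (x * γ * x⁻¹) * h⁻¹ = (h * δ * h⁻¹) * (d' * γ ^ j) := by
      rw [hxγ, ← hγ']; group
    rw [e2, e3] at e4
    have e5 : h * δ * h⁻¹ = d' * δ ^ (k * j) * ζ * d'⁻¹ := by
      have : h * δ * h⁻¹ = (h * δ * h⁻¹) * (d' * γ ^ j) * (d' * γ ^ j)⁻¹ := by group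
      rw [this, ← e4]; group
    have e6 : d' * δ ^ (k * j) * ζ * d'⁻¹ = δ ^ (k * j) * ζ := by
      have hdd : δ ^ (k * j) * ζ ∈ D := mul_mem (pow_mem hγ _) (hZD hζZ)
      have := cen _ hdd d' (hDN hd'D)
      rw [mul_assoc d', this, mul_inv_cancel_right]
    have h1 := hD δ hγ
    rw [e5, e6] at h1
    refine mem_of_pow_eq (p := p) (a := k * j) (b := 1) (by rw [exp δ (hDN hγ)]; exact one_mem _) ?_ ?_
    · rw [hk, hj]
      push_cast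
      intro hh
      exact c5 (by rw [← hh]; ring)
    · rw [pow_one]
      have hcomm : ζ * δ⁻¹ = δ⁻¹ * ζ := cen _ (inv_mem hγ) ζ (hDN (hZD hζZ))
      have h2 : δ ^ (k * j) * ζ * δ⁻¹ = δ ^ (k * j) * δ⁻¹ * ζ := by rw [mul_assoc, hcomm, mul_assoc]
      rw [h2] at h1
      have h3 := mul_mem h1 (inv_mem hζZ)
      rwa [mul_inv_cancel_right] at h3
  -- step 2
  obtain ⟨n, hn, hnγ⟩ := sur δ⁻¹ (inv_mem hδZ)
  obtain ⟨x₁, hx₁⟩ : ∃ x₁, x₁ = n * x := ⟨_, rfl⟩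
  have hx₁D : ∀ d ∈ D, x₁ * d = d * x₁ := by
    intro d hd
    rw [hx₁, mul_assoc, xD d hd, ← mul_assoc, cen d hd n hn, mul_assoc]
  have hx₁γ : x₁ * γ = γ * x₁ := by
    have e1 : x₁ * γ * x₁⁻¹ = γ := by
      calc x₁ * γ * x₁⁻¹ = n * (x * γ * x⁻¹) * n⁻¹ := by rw [hx₁]; group
        _ = (n * δ) * γ * n⁻¹ := by rw [hxγ]; group
        _ = δ * (n * γ * n⁻¹) := by rw [cen δ hγ n hn]; group
        _ = γ := by rw [hnγ]; group
    rwa [mul_inv_eq_iff_eq_mul] at e1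
  have hx₁M : ∀ m ∈ M, x₁ * m = m * x₁ := by
    intro m hm
    obtain ⟨d, hd, i, rfl⟩ := γgen m hm
    exact ((show Commute x₁ d from hx₁D d hd).mul_right ((show Commute x₁ γ from hx₁γ).pow_right i)).eq
  -- step 3
  obtain ⟨w, hw⟩ : ∃ w, w = x₁ ^ p := ⟨_, rfl⟩
  have hwN : w ∈ N := by
    have h1 := pow_mod (D := N) hn nN p
    have h2 := mul_mem h1 xp
    rw [inv_mul_cancel_right] at h2
    rw [hw, hx₁]
    exact h2
  have hwM : w ∈ M := self w hwN (by rw [hw]; exact ((show Commute x₁ γ from hx₁γ).pow_left p).eq)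
  -- step 4
  obtain ⟨u, hu⟩ : ∃ u, u = h * x₁ * h⁻¹ := ⟨_, rfl⟩
  obtain ⟨n₂, hn₂⟩ : ∃ n₂, n₂ = u * (x₁ ^ k)⁻¹ := ⟨_, rfl⟩
  have hn₂N : n₂ ∈ N := by
    have h1 := pow_mod (D := N) hn nN k
    have e1 : n₂ = (h * n * h⁻¹) * n' * ((n * x) ^ k * (x ^ k)⁻¹)⁻¹ := by
      rw [hn₂, hu, hx₁]
      have : h * (n * x) * h⁻¹ = (h * n * h⁻¹) * (h * x * h⁻¹) := by group
      rw [this, hx']
      group
    rw [e1]
    exact mul_mem (mul_mem (conj_mem_of_norm hN hn) hx) (inv_mem h1)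
  have hu2 : u = n₂ * x₁ ^ k := by rw [hn₂]; group
  have huD : ∀ d ∈ D, u * d = d * u := by
    intro d hd
    rw [hu2]
    exact ((show Commute n₂ d from cen d hd n₂ hn₂N).mul_left ((show Commute x₁ d from hx₁D d hd).pow_left k)).eq
  have huγ' : Commute u (d' * γ ^ j) := by
    rw [← hγ', hu]
    have : h * x₁ * h⁻¹ * (h * γ * h⁻¹) = h * γ * h⁻¹ * (h * x₁ * h⁻¹) := by
      calc h * x₁ * h⁻¹ * (h * γ * h⁻¹) = h * (x₁ * γ) * h⁻¹ := by group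
        _ = _ := by rw [hx₁γ]; group
    exact this
  have huγj : Commute u (γ ^ j) := by
    have h1 : Commute u d'⁻¹ := (show Commute u d' from huD d' hd'D).inv_right
    have h2 := h1.mul_right huγ'
    rwa [inv_mul_cancel_left] at h2
  have huγ : Commute u γ := by
    have h1 : γ ∈ centralizer ({u} : Set Y) := by
      refine mem_of_coprime_pow (m := j) (n := p) ?_ ?_ ?_
      · rw [mem_centralizer_iff]
        rintro _ rfl
        exact huγj.eq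
      · rw [exp γ γN]; exact one_mem _
      · rw [Nat.coprime_comm]
        refine (Nat.Prime.coprime_iff_not_dvd hp.out).2 fun hd => ?_
        rw [hj] at hd
        rcases (Nat.Prime.dvd_mul hp.out).1 hd with h1 | h1 <;>
          exact c0 ((ZMod.natCast_eq_zero_iff _ _).2 h1)
    exact mem_centralizer_iff.1 h1 u rfl
  have hn₂M : n₂ ∈ M := by
    refine self n₂ hn₂N ?_
    rw [hn₂]
    exact (huγ.mul_left ((show Commute x₁ γ from hx₁γ).pow_left k).inv_left).eq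
  have hwh : h * w * h⁻¹ = w ^ k := by
    have e1 : h * w * h⁻¹ = (h * x₁ * h⁻¹) ^ p := by rw [hw, conj_pow]
    have e2 : Commute n₂ (x₁ ^ k) := ((show Commute x₁ n₂ from hx₁M n₂ hn₂M).pow_left k).symm
    rw [e1, ← hu, hu2, e2.mul_pow, exp n₂ hn₂N, one_mul, hw, ← pow_mul, ← pow_mul, mul_comm]
  -- step 5
  have hwp : w ^ p = 1 := exp w hwN
  have hwD : w ∈ D := by
    have h1 := hM w hwM
    rw [hwh] at h1
    refine mem_of_pow_eq (p := p) (by rw [hwp]; exact one_mem _) ?_ h1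
    rw [hk, hj]
    push_cast
    intro hh
    have h2 : (c : ZMod p) * c * (c - 1) = 0 := by linear_combination hh
    rcases mul_eq_zero.1 h2 with h3 | h3
    · rcases mul_eq_zero.1 h3 with h4 | h4 <;> exact c0 h4
    · exact c1 (sub_eq_zero.1 h3)
  have hwZ : w ∈ Z := by
    have h1 := hD w hwD
    rw [hwh] at h1
    refine mem_of_pow_eq (p := p) (a := k) (b := 1) (by rw [hwp]; exact one_mem _) ?_ (by rwa [pow_one])
    rw [hk]
    push_cast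
    exact c3
  have hw1 : w = 1 := by
    have h1 := hZ w hwZ
    rw [hwh] at h1
    have h2 : w ∈ (⊥ : Subgroup Y) := by
      refine mem_of_pow_eq (p := p) (a := k) (b := c) (by rw [hwp]; exact one_mem _) ?_ (mem_bot.2 h1)
      rw [hk]
      push_cast
      intro hh
      have h2 : (c : ZMod p) * (c * c - 1) = 0 := by linear_combination hh
      rcases mul_eq_zero.1 h2 with h3 | h3
      · exact c0 h3
      · exact c2 (sub_eq_zero.1 h3)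
    exact mem_bot.1 h2
  refine ⟨n, hn, ?_, ?_⟩
  · rw [← hx₁, ← hw, hw1]
  · rw [← hx₁]; exact hx₁M

end Cfsg.Agent.H765
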