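import Cfsg.Agent.H765.Real3

/-!
# If all essential subgroups are normal in `S`, they are invariant under `Aut_F(S)` (helper765)
-/

set_option autoImplicit false
set_option linter.unusedSectionVars false
set_option linter.unusedSimpArgs false
set_option linter.unusedVariables false

namespace Cfsg.Agent.H765

open Module Subgroup Cfsg Cfsg.FusionSystem Cfsg.Agent.H802

universe u

variable {Ω : Type u} [Group Ω] {S : Subgroup Ω} {p : ℕ} [Fact p.Prime] [Finite S]

theorem nIn_eq {E : Subgroup Ω} (h : S ≤ normalizer (E : Set Ω)) : normalizerIn S E = S := inf_eq_left.2 h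

theorem par_of_normal {F : FusionSystem S} {E : Subgroup Ω} (hS : IsPGroup p S) (hF : F.IsSaturated p)
    (hE : F.IsEssential p E) (hr : SR p (Rg S S)) (hn : S ≤ normalizer (E : Set Ω)) :
    Par p (Rg S S) (Rg S E) (Hs S (F.autGroup E)) (Hs S (F.autGroup S)) := by
  have h1 := par_of_essential hS hF hE (ix_of_essential hS hF hE hr)
  rwa [nIn_eq hn] at h1

theorem np_of_normal {F : FusionSystem S} {E : Subgroup Ω} (hS : IsPGroup p S) (hF : F.IsSaturated p)
    (hE : F.IsEssential p E) (hn : S ≤ normalizer (E : Set Ω)) :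
    ¬ PT p (Lc (Rg S S) (Hs S (F.autGroup E))) (Rg S E) ⊥ := by
  have h1 := np_of_essential hS hF hE
  rwa [nIn_eq hn] at h1

/-- `S` has sectional rank at most two if it is a nonabelian group of order `p³`. -/
theorem sectional_of_card (hS : IsPGroup p S) (hc : Nat.card S = p ^ 3) (hab : ∃ a ∈ S, ∃ b ∈ S, a * b ≠ b * a) :
    SectionalPRankLE p 2 ↥S := by
  have hpp : p.Prime := Fact.out
  rw [TwoFusion.SectionalRank.sectionalPRankLE_iff]
  intro A B h
  by_contra hno
  rw [not_le] at hno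
  obtain ⟨i, hi⟩ := (hS.to_subgroup A).exists_card_eq
  obtain ⟨j, hj⟩ := (hS.to_subgroup B).exists_card_eq
  have hA : Nat.card A ∣ p ^ 3 := hc ▸ Subgroup.card_subgroup_dvd_card A
  have hi3 : i ≤ 3 := by
    rw [hi] at hA
    exact (Nat.pow_dvd_pow_iff_le_right hpp.one_lt).1 hA
  have hij : 2 + j < i := by
    rw [hi, hj, ← pow_add] at hno
    exact (Nat.pow_lt_pow_iff_right hpp.one_lt).1 hno
  have hj0 : j = 0 := by omega
  have hi3' : i = 3 := by omega
  have hAt : A = ⊤ := by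
    apply Subgroup.eq_top_of_card_eq
    rw [hi, hi3', hc]
  have hBb : B = ⊥ := by
    rw [← Subgroup.card_eq_one, hj, hj0, pow_zero]
  obtain ⟨a, ha, b, hb, hne⟩ := hab
  have h1 := h.comm ⟨a, ha⟩ (hAt ▸ mem_top _) ⟨b, hb⟩ (hAt ▸ mem_top _)
  rw [hBb, mem_bot, mul_inv_eq_one, mul_inv_eq_iff_eq_mul] at h1
  exact hne (congrArg Subtype.val h1)

/-- If all essential subgroups are normal in `S`, they are `Aut_F(S)`-invariant. -/
theorem char_of_normal {F : FusionSystem S} (hp2 : p ≠ 2) (hS : IsPGroup p S) (hF : F.IsSaturated p) (hO : F.core = ⊥)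
    (h3 : SectionalPRankLE p 3 ↥S) (h2 : ¬ SectionalPRankLE p 2 ↥S)
    (hn : ∀ E : Subgroup Ω, F.IsEssential p E → S ≤ normalizer (E : Set Ω)) {E : Subgroup Ω}
    (hE : F.IsEssential p E) : Hs S (F.autGroup S) ≤ normalizer (Rg S E : Set (Equiv.Perm ↥S)) := by
  have hpp : p.Prime := Fact.out
  by_contra nn
  have hr := SR_of h3
  have h := par_of_normal hS hF hE hr (hn E hE)
  have np := np_of_normal hS hF hE (hn E hE)
  have top := top_of_sat hS hF
  obtain ⟨K, c⟩ := exists_core (Rg S E) (Hs S (F.autGroup E)) (Hs S (F.autGroup S))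
  obtain ⟨hcomm, hpow, -⟩ := h.pu_core hp2 np hr nn c
  have hc2 := h.pu_core_top hp2 np hr nn top c
  have q : PC p (Rg S S) (Rg S E) (Hs S (F.autGroup E)) (Hs S (F.autGroup S)) K :=
    ⟨h, hr, nn, c, hcomm, hpow, hc2, c.npt h hr np nn⟩
  have hK : K ≠ ⊥ := by
    rintro rfl
    apply h2
    have h1 : Nat.card (Rg S E) = p ^ 2 := by rw [← relIndex_bot_left]; exact hc2
    have h4 := card_mul_relIndex' h.EN
    rw [h1, h.ix, Rg_card le_rfl] at h4
    refine sectional_of_card hS (by rw [← h4]; ring) ?_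
    by_contra hno
    push Not at hno
    apply np
    refine PT.of_cs (Lc_le_cs' h.HE (norm_bot _) fun n hn' => mem_cs_bot.2 fun r hr' => ?_)
    obtain ⟨a, ha, rfl⟩ := (mem_Rg le_rfl).1 hn'
    obtain ⟨b, hb, rfl⟩ := (mem_Rg le_rfl).1 (h.EN hr')
    rw [← La_mul ha hb, ← La_mul hb ha, hno a ha b hb]
  obtain ⟨R, hR, hRS, nR, hall⟩ := q.lemE hp2 top hK
  apply hR
  refine eq_bot_of_core hS hF hO hRS ?_
  rintro P (rfl | hP)
  · exact ⟨hRS, nR⟩
  · exact hall _ _ (par_of_normal hS hF hP hr (hn P hP)) (np_of_normal hS hF hP (hn P hP))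

/-- Translation of invariance. -/
theorem map_eq_of_char {F : FusionSystem S} {E : Subgroup Ω} (hES : E ≤ S)
    (h : Hs S (F.autGroup S) ≤ normalizer (Rg S E : Set (Equiv.Perm ↥S))) :
    ∀ φ : MulAut ↥S, φ ∈ F.autGroup S → (E.subgroupOf S).map φ.toMonoidHom = E.subgroupOf S := by
  have key : ∀ β ∈ F.autGroup S, ∀ x : S, (x : Ω) ∈ E → ((β x : S) : Ω) ∈ E := by
    intro β hβ x hx
    obtain ⟨y, hy, hyβ⟩ := exists_Hs (S := S) le_rfl hβ
    rw [← La_mem_Rg hES (β x).2, ← hyβ]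
    exact conj_mem_of_norm (h hy) ((La_mem_Rg hES x.2).2 hx)
  intro α hα
  apply le_antisymm
  · rintro _ ⟨x, hx, rfl⟩
    exact mem_subgroupOf.2 (key α hα x (mem_subgroupOf.1 hx))
  · intro x hx
    refine ⟨α⁻¹ x, mem_subgroupOf.2 (key α⁻¹ (inv_mem hα) x (mem_subgroupOf.1 hx)), ?_⟩
    exact MulAut.apply_inv_self _ _ _

/-- If all essential subgroups are normal in `S`, there are two distinct `F`-characteristic essential subgroups. -/
theorem exists_two {F : FusionSystem S} (hp2 : p ≠ 2) (hS : IsPGroup p S) (hF : F.IsSaturated p) (hO : F.core = ⊥)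
    (h3 : SectionalPRankLE p 3 ↥S) (h2 : ¬ SectionalPRankLE p 2 ↥S)
    (hn : ∀ E : Subgroup Ω, F.IsEssential p E → S ≤ normalizer (E : Set Ω)) :
    ∃ E₁ E₂ : Subgroup Ω, E₁ ≠ E₂ ∧ F.IsEssential p E₁ ∧ F.IsEssential p E₂ ∧
      (∀ φ : MulAut ↥S, φ ∈ F.autGroup S → (E₁.subgroupOf S).map φ.toMonoidHom = E₁.subgroupOf S) ∧
      (∀ φ : MulAut ↥S, φ ∈ F.autGroup S → (E₂.subgroupOf S).map φ.toMonoidHom = E₂.subgroupOf S) := by
  have hchar := fun E (hE : F.IsEssential p E) => char_of_normal hp2 hS hF hO h3 h2 hn hE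
  by_cases hex : ∃ E, F.IsEssential p E
  · obtain ⟨E, hE⟩ := hex
    by_cases hex2 : ∃ E', F.IsEssential p E' ∧ E ≠ E'
    · obtain ⟨E', hE', hne⟩ := hex2
      exact ⟨E, E', hne, hE, hE', map_eq_of_char hE.1.1 (hchar E hE), map_eq_of_char hE'.1.1 (hchar E' hE')⟩
    · exfalso
      push Not at hex2
      have h1 := eq_bot_of_core hS hF hO (R := Rg S E) (Rg_mono hE.1.1) (by
        rintro P (rfl | hP)
        · exact ⟨Rg_mono hE.1.1, hchar E hE⟩
        · obtain rfl := hex2 P hP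
          exact ⟨le_rfl, Hs_norm hE.1.1 _⟩)
      apply np_of_normal hS hF hE (hn E hE)
      rw [h1]
      exact PT.of_cs fun x hx => mem_cs_bot.2 fun r hr => by rw [mem_bot] at hr; rw [hr]; group
  · exfalso
    push Not at hex
    have h1 := eq_bot_of_core hS hF hO (R := Rg S S) le_rfl (by
      rintro P (rfl | hP)
      · exact ⟨le_rfl, Hs_norm le_rfl _⟩
      · exact absurd hP (hex P))
    apply h2
    have h4 : Nat.card S = 1 := by
      rw [← Rg_card (S := S) le_rfl, h1, card_bot]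
    rw [TwoFusion.SectionalRank.sectionalPRankLE_iff]
    intro A B h
    have h5 : Nat.card A ≤ 1 := by rw [← h4]; exact Subgroup.card_le_card_group A
    have h6 : 0 < p ^ 2 * Nat.card B := Nat.mul_pos (pow_pos (Fact.out : p.Prime).pos 2) Nat.card_pos
    omega

end Cfsg.Agent.H765
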