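import Cfsg.Agent.H765.Real4
import Cfsg.Agent.H765.Nonchar

/-!
# Essential subgroups of rank three (helper765)
-/

set_option autoImplicit false
set_option linter.unusedSectionVars false
set_option linter.unusedSimpArgs false
set_option linter.unusedVariables false

namespace Cfsg.Agent.H765

open Module Subgroup Cfsg Cfsg.FusionSystem Cfsg.Agent.H802

universe u

theorem frattini_index_equiv {A : Type*} {B : Type*} [Group A] [Group B] (e : A ≃* B) :
    (frattini A).index = (frattini B).index := by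
  have h1 : (frattini A).map e.toMonoidHom = frattini B := OrderIso.map_radical e.mapSubgroup
  rw [← h1]
  exact (Subgroup.index_map_equiv (frattini A) e).symm

variable {Ω : Type u} [Group Ω] {S : Subgroup Ω} {p : ℕ} [Fact p.Prime] [Finite S]

/-- The configuration of an essential subgroup that is not normal in `S`. -/
structure NC (p : ℕ) (S : Subgroup Ω) (F : FusionSystem S) (E : Subgroup Ω) (K : Subgroup (Equiv.Perm ↥S)) : Prop where
  par : Par p (Rg S (normalizerIn S E)) (Rg S E) (Hs S (F.autGroup E)) (Hs S (F.autGroup (normalizerIn S E)))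
  sr : SR p (Rg S S)
  np : ¬ PT p (Lc (Rg S (normalizerIn S E)) (Hs S (F.autGroup E))) (Rg S E) ⊥
  nn : ¬ Hs S (F.autGroup (normalizerIn S E)) ≤ normalizer (Rg S E : Set (Equiv.Perm ↥S))
  c : IsCo (Rg S E) (Hs S (F.autGroup E)) (Hs S (F.autGroup (normalizerIn S E))) K
  hcomm : ∀ a ∈ Rg S E, ∀ b ∈ Rg S E, a * b * a⁻¹ * b⁻¹ ∈ K
  hpow : ∀ a ∈ Rg S E, a ^ p ∈ K
  hK : K.relIndex (Rg S E) = p ^ 2 ∨ K.relIndex (Rg S E) = p ^ 3
  npt : ¬ PT p (Lc (Rg S (normalizerIn S E)) (Hs S (F.autGroup E))) (Rg S E) K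

theorem exists_NC (hp2 : p ≠ 2) (hS : IsPGroup p S) (h3 : SectionalPRankLE p 3 ↥S) {F : FusionSystem S}
    (hF : F.IsSaturated p) {E : Subgroup Ω} (hE : F.IsEssential p E) (hn : ¬ S ≤ normalizer (E : Set Ω)) :
    ∃ K, NC p S F E K := by
  have hr := SR_of h3
  have h := par_of_essential hS hF hE (ix_of_essential hS hF hE hr)
  have np := np_of_essential hS hF hE
  have hrN := hr.mono (Rg_mono (nIn_le S E))
  obtain ⟨P, hNP, hPS, hPN, hPc, hPE⟩ := exists_P hS hE hn
  have nn : ¬ Hs S (F.autGroup (normalizerIn S E)) ≤ normalizer (Rg S E : Set (Equiv.Perm ↥S)) := fun hh =>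
    not_Rg_norm hE.1.1 hPS hPE ((Rg_le_Hs (nIn_le S E) hPS hPN).trans hh)
  obtain ⟨K, c⟩ := exists_core (Rg S E) (Hs S (F.autGroup E)) (Hs S (F.autGroup (normalizerIn S E)))
  obtain ⟨hcomm, hpow, hK⟩ := h.pu_core hp2 np hrN nn c
  exact ⟨K, h, hr, np, nn, c, hcomm, hpow, hK, c.npt h hrN np nn⟩

theorem NC.pc {F : FusionSystem S} {E : Subgroup Ω} {K : Subgroup (Equiv.Perm ↥S)} (q : NC p S F E K)
    (hc : K.relIndex (Rg S E) = p ^ 2) :
    PC p (Rg S (normalizerIn S E)) (Rg S E) (Hs S (F.autGroup E)) (Hs S (F.autGroup (normalizerIn S E))) K :=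
  ⟨q.par, q.sr.mono (Rg_mono (nIn_le S E)), q.nn, q.c, q.hcomm, q.hpow, hc, q.npt⟩

/-- **S5180**. -/
theorem normal_of_rank_three (hp5 : 5 ≤ p) (hS : IsPGroup p S) (h3 : SectionalPRankLE p 3 ↥S) {F : FusionSystem S}
    (hF : F.IsSaturated p) {E : Subgroup Ω} (hE : F.IsEssential p E) (hrk : (frattini ↥E).index = p ^ 3) :
    S ≤ normalizer (E : Set Ω) := by
  have hpp : p.Prime := Fact.out
  have hp2 : p ≠ 2 := by omega
  by_contra hn
  obtain ⟨E', hE', hfull, ⟨e⟩, hcard⟩ := exists_full hS hF hE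
  have hrk' : (frattini ↥E').index = p ^ 3 := by rw [← frattini_index_equiv e, hrk]
  have hn' : ¬ S ≤ normalizer (E' : Set Ω) := by
    intro hh
    apply hn
    have h1 : normalizerIn S E = S := by
      refine eq_of_le_card_eq (nIn_le S E) ?_
      rw [← hcard, nIn_eq hh]
    rw [← h1]
    exact inf_le_right
  obtain ⟨K, q⟩ := exists_NC hp2 hS h3 hF hE' hn'
  have ad := ad_of_essential hS hF hE'
  rcases q.hK with hc | hc
  · obtain ⟨P, hNP, hPS, hPN, hPc, hPE⟩ := exists_P hS hE' hn'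
    have hES := hE'.1.1
    have h1 : (Fr p (Rg S E')).relIndex K = p := by
      have h2 : (Fr p (Rg S E')).relIndex (Rg S E') = p ^ 3 := by rw [Fr_relIndex hS hES, hrk']
      have h4 : Fr p (Rg S E') ≤ K := Fr_le_iff.2 ⟨q.hcomm, q.hpow⟩
      have h5 := relIndex_mul_relIndex _ _ _ h4 q.c.le
      rw [h2, hc] at h5
      have h6 : (Fr p (Rg S E')).relIndex K * p ^ 2 = p * p ^ 2 := by rw [h5]; ring
      exact Nat.eq_of_mul_eq_mul_right (pow_pos hpp.pos 2) h6
    refine caseA1 hp5 (q.pc hc) ad h1 (P := Rg S P) (Rg_mono hNP) (Rg_le_Hs (nIn_le S E') hPS hPN) (Rg_pgroup hS P)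
      (by rw [Rg_relIndex hPS]; exact hPc) (q.sr.mono (Rg_mono hPS)) (not_Rg_norm hES hPS hPE)
      (ext_full hS hF hfull hNP hPS hPN fun x hx hxc => ?_)
    apply le_nIn hE'
    apply hE'.1.2 E' (isConj_refl F hES)
    refine Subgroup.mem_inf.2 ⟨hx, mem_centralizer_iff.2 fun r hr => mem_centralizer_iff.1 hxc r (le_nIn hE' hr)⟩
  · exact caseA2 hp5 q.par ad q.nn q.c q.hcomm q.hpow q.npt hc

end Cfsg.Agent.H765
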