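import Cfsg.Agent.H765.Final
import Cfsg.Agent.J2Type.ExtCube

/-!
# Pearls (helper765)
-/

set_option autoImplicit false
set_option linter.unusedSectionVars false
set_option linter.unusedSimpArgs false
set_option linter.unusedVariables false

namespace Cfsg.Agent.H765

open Module Subgroup Cfsg Cfsg.FusionSystem Cfsg.Agent.H802

universe u

variable {Ω : Type u} [Group Ω] {S : Subgroup Ω} {p : ℕ} [Fact p.Prime] [Finite S]

/-- Essential subgroups not normal in `S` are pearls. -/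
theorem pearl_of_not_normal (hp5 : 5 ≤ p) (hS : IsPGroup p S) (h3 : SectionalPRankLE p 3 ↥S) {F : FusionSystem S}
    (hF : F.IsSaturated p) {E : Subgroup Ω} (hE : F.IsEssential p E) (hn : ¬ S ≤ normalizer (E : Set Ω)) :
    (IsElementaryAbelian p E ∧ Nat.card E = p ^ 2) ∨
      (IsExtraspecial p ↥E ∧ Nat.card E = p ^ 3 ∧ ∀ x ∈ E, x ^ p = 1) := by
  have hpp : p.Prime := Fact.out
  have hp2 : p ≠ 2 := by omega
  have hES := hE.1.1
  have hfE : Finite E := finite_of_le hES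
  obtain ⟨K, q⟩ := exists_NC hp2 hS h3 hF hE hn
  have hrk : (frattini ↥E).index ≠ p ^ 3 := fun hh => hn (normal_of_rank_three hp5 hS h3 hF hE hh)
  rw [← Fr_relIndex hS hES] at hrk
  have hFK : Fr p (Rg S E) ≤ K := Fr_le_iff.2 ⟨q.hcomm, q.hpow⟩
  have hle : (Fr p (Rg S E)).relIndex (Rg S E) ≤ p ^ 3 :=
    q.sr _ _ (Fr_le p _) (Rg_mono hES) (fun a ha b hb => comm_mem_Fr ha hb) (fun a ha => pow_mem_Fr ha)
  have hmul := relIndex_mul_relIndex _ _ _ hFK q.c.le
  have hEp := Rg_pgroup (p := p) hS E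
  -- the index is a power of `p`
  obtain ⟨n, hn'⟩ : ∃ n, (Fr p (Rg S E)).relIndex (Rg S E) = p ^ n := by
    have h1 : (Fr p (Rg S E)).relIndex (Rg S E) ∣ Nat.card (Rg S E) := Subgroup.index_dvd_card _
    obtain ⟨m, hm⟩ := IsPGroup.iff_card.1 hEp
    rw [hm] at h1
    obtain ⟨n, -, hn⟩ := (Nat.dvd_prime_pow hpp).1 h1
    exact ⟨n, hn⟩
  have hn3 : n ≤ 3 := by
    rw [hn'] at hle
    exact (Nat.pow_le_pow_iff_right hpp.one_lt).1 hle
  have hn3' : n ≠ 3 := by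
    rintro rfl
    exact hrk hn'
  have hKdvd : K.relIndex (Rg S E) ∣ p ^ n := by
    rw [← hn', ← hmul]
    exact dvd_mul_left _ _
  have hc : K.relIndex (Rg S E) = p ^ 2 ∧ n = 2 := by
    rcases q.hK with h1 | h1
    · rw [h1, Nat.pow_dvd_pow_iff_le_right hpp.one_lt] at hKdvd
      exact ⟨h1, by omega⟩
    · rw [h1, Nat.pow_dvd_pow_iff_le_right hpp.one_lt] at hKdvd
      omega
  obtain ⟨hc, rfl⟩ := hc
  have hKF : K ≤ Fr p (Rg S E) := by
    rw [← relIndex_eq_one]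
    rw [hn', hc] at hmul
    exact Nat.eq_of_mul_eq_mul_right (pow_pos hpp.pos 2) (by rw [hmul, one_mul])
  have pc := q.pc hc
  obtain ⟨a, b, d⟩ := pc.exists_DD hp2
  rcases d.pearl hp2 hEp hc hKF with ⟨hEA, hcard⟩ | ⟨hcard, hexp, x, hx, y, hy, hxy⟩
  · left
    rw [Rg_card hES] at hcard
    refine ⟨⟨⟨⟨fun x y => Subtype.ext ?_⟩⟩, fun x hx => ?_⟩, hcard⟩
    · have h1 := hEA.comm _ ((La_mem_Rg hES (hES x.2)).2 x.2) _ ((La_mem_Rg hES (hES y.2)).2 y.2)
      rw [← La_mul (hES x.2) (hES y.2), ← La_mul (hES y.2) (hES x.2)] at h1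
      exact La_inj (mul_mem (hES x.2) (hES y.2)) (mul_mem (hES y.2) (hES x.2)) h1
    · have h1 := hEA.pow _ ((La_mem_Rg hES (hES hx)).2 hx)
      rw [← La_pow (hES hx), ← La_one] at h1
      exact La_inj (pow_mem (hES hx) p) (one_mem _) h1
  · right
    rw [Rg_card hES] at hcard
    refine ⟨J2Type.ExtCube.isExtraspecial_of_card_cube hcard ?_, hcard, fun x hx => ?_⟩
    · obtain ⟨x', hx', rfl⟩ := (mem_Rg hES).1 hx
      obtain ⟨y', hy', rfl⟩ := (mem_Rg hES).1 hy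
      refine ⟨⟨x', hx'⟩, ⟨y', hy'⟩, fun hab => hxy ?_⟩
      rw [← La_mul (hES hx') (hES hy'), ← La_mul (hES hy') (hES hx')]
      congr 1
      exact congrArg Subtype.val hab
    · have h1 := hexp _ ((La_mem_Rg hES (hES hx)).2 hx)
      rw [← La_pow (hES hx), ← La_one] at h1
      exact La_inj (pow_mem (hES hx) p) (one_mem _) h1

end Cfsg.Agent.H765
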