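import Mathlib
import Cfsg.Agent.Lib.PGroupFixedVector
import Cfsg.Agent.H569.Strong

/-!
# Subgroups of `GL_3(p)` with a strongly `p`-embedded subgroup (helper765)

A finite group acting faithfully on a space of dimension at most 3 over `ZMod p` and having a strongly
`p`-embedded subgroup has Sylow `p`-subgroups of order `p`.
-/

set_option autoImplicit false
set_option linter.unusedSectionVars false
set_option linter.unusedSimpArgs false
set_option linter.unusedVariables false

namespace Cfsg.Agent.H765.GL3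

open Module

variable {p : ℕ} [Fact p.Prime] {V : Type*} [AddCommGroup V] [Module (ZMod p) V]
variable {X : Type*} [Group X]

/-- Some element of `M` acts as the transvection `v ↦ v + f v • z`. -/
def Tr (ρ : X →* (V ≃ₗ[ZMod p] V)) (M : Subgroup X) (f : V →ₗ[ZMod p] ZMod p) (z : V) : Prop :=
  ∃ t ∈ M, ∀ v, ρ t v = v + f v • z

variable {ρ : X →* (V ≃ₗ[ZMod p] V)} {M : Subgroup X} {f f' : V →ₗ[ZMod p] ZMod p} {z z' : V}

theorem Tr.mono {M' : Subgroup X} (h : Tr ρ M f z) (hM : M ≤ M') : Tr ρ M' f z := by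
  obtain ⟨t, ht, h⟩ := h
  exact ⟨t, hM ht, h⟩

theorem Tr.add_left (hz' : f z' = 0) (h : Tr ρ M f z) (h' : Tr ρ M f z') : Tr ρ M f (z + z') := by
  obtain ⟨t, ht, h⟩ := h
  obtain ⟨t', ht', h'⟩ := h'
  refine ⟨t * t', M.mul_mem ht ht', fun v => ?_⟩
  rw [map_mul]
  show ρ t (ρ t' v) = _
  rw [h', h, map_add, map_smul, hz', smul_zero, add_zero, smul_add]
  abel

theorem Tr.add_right (hz : f z = 0) (h : Tr ρ M f z) (h' : Tr ρ M f' z) : Tr ρ M (f + f') z := by
  obtain ⟨t, ht, h⟩ := h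
  obtain ⟨t', ht', h'⟩ := h'
  refine ⟨t * t', M.mul_mem ht ht', fun v => ?_⟩
  rw [map_mul]
  show ρ t (ρ t' v) = _
  rw [h', h, map_add, map_smul, hz, smul_zero, add_zero, LinearMap.add_apply, add_smul]
  abel

theorem Tr.zero_left (ρ : X →* (V ≃ₗ[ZMod p] V)) (M : Subgroup X) (z : V) : Tr ρ M 0 z :=
  ⟨1, M.one_mem, fun v => by simp⟩

theorem Tr.smul (hz : f z = 0) (h : Tr ρ M f z) (c : ZMod p) : Tr ρ M (c • f) z := by
  have key : ∀ n : ℕ, Tr ρ M ((n : ZMod p) • f) z := by
    intro n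
    induction n with
    | zero => simpa using Tr.zero_left ρ M z
    | succ n ih =>
      have : ((n + 1 : ℕ) : ZMod p) • f = (n : ZMod p) • f + f := by
        push_cast
        rw [add_smul, one_smul]
      rw [this]
      exact Tr.add_right (by simp [hz]) ih h
  have := key c.val
  rwa [ZMod.natCast_zmod_val] at this

theorem Tr.smul' (hz : f z = 0) (h : Tr ρ M f z) (c : ZMod p) : Tr ρ M f (c • z) := by
  obtain ⟨t, ht, h⟩ := h.smul hz c
  refine ⟨t, ht, fun v => ?_⟩
  rw [h, LinearMap.smul_apply, smul_eq_mul, mul_comm, mul_smul]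

theorem Tr.congr {g : V →ₗ[ZMod p] ZMod p} {w : V} (h : Tr ρ M f z) (he : ∀ v, g v • w = f v • z) :
    Tr ρ M g w := by
  obtain ⟨t, ht, h⟩ := h
  exact ⟨t, ht, fun v => by rw [h, he]⟩

/-- Conjugation by an element acting as the transvection `(g, w)`. -/
theorem Tr.conj {g : V →ₗ[ZMod p] ZMod p} {w : V} (hw : g w = 0) (h : Tr ρ M f z) (hg : Tr ρ M g w) :
    Tr ρ M (f - f w • g) (z + g z • w) := by
  obtain ⟨t, ht, h⟩ := h
  obtain ⟨s, hs, hg⟩ := hg
  refine ⟨s * t * s⁻¹, M.mul_mem (M.mul_mem hs ht) (M.inv_mem hs), fun v => ?_⟩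
  rw [map_mul, map_mul]
  show ρ s (ρ t (ρ s⁻¹ v)) = _
  have hinv : ρ s⁻¹ v = v - g v • w := by
    have : ρ s (v - g v • w) = v := by
      rw [hg, map_sub, map_smul, hw, smul_zero, sub_zero, sub_add_cancel]
    rw [map_inv, ← this]
    show (ρ s).symm (ρ s (v - g v • w)) = _
    rw [LinearEquiv.symm_apply_apply, this]
  rw [hinv, h, hg]
  simp only [map_sub, map_add, map_smul, LinearMap.sub_apply, LinearMap.smul_apply, hw, smul_zero,
    sub_zero, smul_eq_mul, smul_add, sub_smul, add_smul, mul_smul, smul_sub, mul_comm (f w)]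
  module

/-- Transport of a transvection by conjugation with an arbitrary element of the group. -/
theorem Tr.map {g : X} (h : Tr ρ M f z) :
    Tr ρ (M.map (MulAut.conj g).toMonoidHom) (f ∘ₗ (ρ g⁻¹ : V ≃ₗ[ZMod p] V).toLinearMap) (ρ g z) := by
  obtain ⟨t, ht, h⟩ := h
  refine ⟨g * t * g⁻¹, ⟨t, ht, rfl⟩, fun v => ?_⟩
  rw [map_mul, map_mul]
  show ρ g (ρ t (ρ g⁻¹ v)) = _
  rw [h, map_add, map_smul]
  have : ρ g (ρ g⁻¹ v) = v := by
    rw [map_inv]
    exact (ρ g).apply_symm_apply v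
  rw [this]
  rfl

/-- The transvections of the group generated by the root groups `(f, z)`, `(f', z')` when `f z' = f' z = 1`. -/
theorem Tr.sl2 (hz : f z = 0) (hz' : f' z' = 0) (h1 : f z' = 1) (h2 : f' z = 1) (h : Tr ρ M f z)
    (h' : Tr ρ M f' z') (a b c : ZMod p) :
    Tr ρ M (c • (b • f' - a • f)) (a • z + b • z') := by
  by_cases hb : b = 0
  · subst hb
    refine (h.smul hz (-(c * a * a))).congr fun v => ?_
    have e : (c • ((0 : ZMod p) • f' - a • f)) v = -(c * (a * f v)) := by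
      simp [LinearMap.smul_apply, LinearMap.sub_apply]
    rw [e, zero_smul, add_zero, LinearMap.smul_apply, smul_eq_mul, smul_smul]
    congr 1
    ring
  · have e1 := (h'.smul hz' (c * b)).smul' (by simp [hz']) b
    have e2 : Tr ρ M ((a * b⁻¹) • f) z := h.smul hz _
    have e3 := e1.conj (by simp [hz]) e2
    refine e3.congr fun v => ?_
    simp only [LinearMap.smul_apply, LinearMap.sub_apply, smul_eq_mul, map_smul, h1, h2, mul_one]
    have hb' : b * b⁻¹ = 1 := mul_inv_cancel₀ hb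
    have e4 : b * (a * b⁻¹) = a := by rw [mul_comm a, ← mul_assoc, hb', one_mul]
    rw [e4, add_comm (b • z')]
    congr 1
    have e6 : c * b * (a * b⁻¹ * f v) = c * (a * f v) := by
      calc c * b * (a * b⁻¹ * f v) = c * (b * b⁻¹) * (a * f v) := by ring
        _ = _ := by rw [hb']; ring
    rw [e6]
    ring

theorem tr_ne_one {g : V →ₗ[ZMod p] ZMod p} {w : V} {s : X} (hg : g ≠ 0) (hw : w ≠ 0)
    (hs : ∀ v, ρ s v = v + g v • w) : s ≠ 1 := by
  intro h1
  apply hg
  ext v
  have := hs v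
  rw [h1, map_one] at this
  have h2 : g v • w = 0 := by
    have h3 : (1 : V ≃ₗ[ZMod p] V) v = v := rfl
    rw [h3] at this
    exact left_eq_add.mp this
  rcases smul_eq_zero.1 h2 with h | h
  · simpa using h
  · exact absurd h hw

theorem tr_pow_apply {g : V →ₗ[ZMod p] ZMod p} {w : V} {s : X} (hg : g w = 0)
    (hs : ∀ v, ρ s v = v + g v • w) (n : ℕ) (v : V) : ρ (s ^ n) v = v + ((n : ZMod p) * g v) • w := by
  induction n generalizing v with
  | zero => simp
  | succ n ih =>
    rw [pow_succ', map_mul]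
    show ρ s (ρ (s ^ n) v) = _
    rw [ih, hs, map_add, map_smul, hg, smul_zero, add_zero]
    push_cast
    rw [add_mul, one_mul, add_smul]
    abel

theorem tr_pow (hρ : Function.Injective ρ) {g : V →ₗ[ZMod p] ZMod p} {w : V} {s : X} (hg : g w = 0)
    (hs : ∀ v, ρ s v = v + g v • w) : s ^ p = 1 := by
  apply hρ
  rw [map_one]
  ext v
  rw [tr_pow_apply hg hs]
  simp

/-! ### The components -/

section Core

variable {C : Subgroup X → Prop}

/-- If two transvections have `f z' = 0` or `f' z = 0` then every "component" containing the first contains the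
second. -/
theorem connect (hρ : Function.Injective ρ)
    (c1 : ∀ M, C M → ∀ u ∈ M, u ≠ 1 → u ^ p = 1 → ∀ g, g * u = u * g → g ∈ M)
    {M : Subgroup X} (hM : C M) (hf : f ≠ 0) (hz0 : z ≠ 0) (hz : f z = 0)
    (hz' : f' z' = 0) (hz0' : z' ≠ 0) (h : Tr ρ M f z) (h' : Tr ρ ⊤ f' z') (hor : f z' = 0 ∨ f' z = 0) :
    Tr ρ M f' z' := by
  obtain ⟨t, ht, h⟩ := h
  obtain ⟨t', -, h'⟩ := h'
  have htinv : ∀ v, ρ t⁻¹ v = v - f v • z := by
    intro v
    have : ρ t (v - f v • z) = v := by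
      rw [h, map_sub, map_smul, hz, smul_zero, sub_zero, sub_add_cancel]
    rw [map_inv, ← this]
    show (ρ t).symm (ρ t (v - f v • z)) = _
    rw [LinearEquiv.symm_apply_apply, this]
  have ht'inv : ∀ v, ρ t'⁻¹ v = v - f' v • z' := by
    intro v
    have : ρ t' (v - f' v • z') = v := by
      rw [h', map_sub, map_smul, hz', smul_zero, sub_zero, sub_add_cancel]
    rw [map_inv, ← this]
    show (ρ t').symm (ρ t' (v - f' v • z')) = _
    rw [LinearEquiv.symm_apply_apply, this]
  obtain ⟨c, hc⟩ : ∃ c, c = t * t' * t⁻¹ * t'⁻¹ := ⟨_, rfl⟩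
  by_cases hc1 : c = 1
  · -- they commute
    have : t' * t = t * t' := by
      have h1 : t * t' * t⁻¹ * t'⁻¹ = 1 := hc ▸ hc1
      have := mul_inv_eq_one.1 h1
      rw [mul_inv_eq_iff_eq_mul] at this
      exact this.symm
    exact ⟨t', c1 M hM t ht (tr_ne_one hf hz0 h) (tr_pow hρ hz h) t' this, h'⟩
  · rcases hor with hor | hor
    · -- `f z' = 0`: the commutator is `(−f' z • f, z')`
      have hcv : ∀ v, ρ c v = v + (-(f' z) • f) v • z' := by
        intro v
        rw [hc, map_mul, map_mul, map_mul]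
        show ρ t (ρ t' (ρ t⁻¹ (ρ t'⁻¹ v))) = _
        rw [ht'inv, htinv, h', h]
        simp only [map_add, map_sub, map_smul, hz, hz', hor, smul_zero, sub_zero, add_zero,
          LinearMap.smul_apply, smul_eq_mul, neg_mul, neg_smul, sub_smul, mul_smul]
        have e : f v • f' z • z' = f' z • f v • z' := smul_comm _ _ _
        rw [← e]
        simp only [smul_smul]
        module
      have hcp : c ^ p = 1 := tr_pow hρ (by simp [hor]) hcv
      have hct : c * t = t * c := by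
        apply hρ
        ext v
        rw [map_mul, map_mul]
        show ρ c (ρ t v) = ρ t (ρ c v)
        rw [h, hcv, hcv, h]
        simp only [map_add, map_smul, LinearMap.smul_apply, hz, hor, smul_eq_mul, mul_zero, zero_smul,
          add_zero, smul_zero]
        abel
      have hct' : t' * c = c * t' := by
        apply hρ
        ext v
        rw [map_mul, map_mul]
        show ρ t' (ρ c v) = ρ c (ρ t' v)
        rw [hcv, h', h', hcv]
        simp only [map_add, map_smul, LinearMap.smul_apply, hz', hor, smul_eq_mul, mul_zero, zero_smul,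
          add_zero, smul_zero]
        abel
      have hcM : c ∈ M := c1 M hM t ht (tr_ne_one hf hz0 h) (tr_pow hρ hz h) c hct
      exact ⟨t', c1 M hM c hcM hc1 hcp t' hct', h'⟩
    · -- `f' z = 0`: the commutator is `(f z' • f', z)`
      have hcv : ∀ v, ρ c v = v + (f z' • f') v • z := by
        intro v
        rw [hc, map_mul, map_mul, map_mul]
        show ρ t (ρ t' (ρ t⁻¹ (ρ t'⁻¹ v))) = _
        rw [ht'inv, htinv, h', h]
        simp only [map_add, map_sub, map_smul, hz, hz', hor, smul_zero, sub_zero, add_zero,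
          LinearMap.smul_apply, smul_eq_mul, sub_smul, mul_smul]
        simp only [smul_smul]
        module
      have hcp : c ^ p = 1 := tr_pow hρ (by simp [hor]) hcv
      have hct : c * t = t * c := by
        apply hρ
        ext v
        rw [map_mul, map_mul]
        show ρ c (ρ t v) = ρ t (ρ c v)
        rw [h, hcv, hcv, h]
        simp only [map_add, map_smul, LinearMap.smul_apply, hz, hor, smul_eq_mul, mul_zero, zero_smul,
          add_zero, smul_zero]
        abel
      have hct' : t' * c = c * t' := by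
        apply hρ
        ext v
        rw [map_mul, map_mul]
        show ρ t' (ρ c v) = ρ c (ρ t' v)
        rw [hcv, h', h', hcv]
        simp only [map_add, map_smul, LinearMap.smul_apply, hz', hor, smul_eq_mul, mul_zero, zero_smul,
          add_zero, smul_zero]
        abel
      have hcM : c ∈ M := c1 M hM t ht (tr_ne_one hf hz0 h) (tr_pow hρ hz h) c hct
      exact ⟨t', c1 M hM c hcM hc1 hcp t' hct', h'⟩

theorem exists_comp (hρ : Function.Injective ρ) (c2 : ∀ u : X, u ≠ 1 → u ^ p = 1 → ∃ M, C M ∧ u ∈ M)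
    (hf : f ≠ 0) (hz0 : z ≠ 0) (hz : f z = 0) (h : Tr ρ ⊤ f z) : ∃ M, C M ∧ Tr ρ M f z := by
  obtain ⟨t, -, h⟩ := h
  obtain ⟨M, hM, ht⟩ := c2 t (tr_ne_one hf hz0 h) (tr_pow hρ hz h)
  exact ⟨M, hM, t, ht, h⟩

theorem decomp (h3 : finrank (ZMod p) V = 3) (hz : f z = 0) (hz' : f' z' = 0) (h1 : f z' = 1)
    (h2 : f' z = 1) {v₁ : V} (hv₁ : v₁ ≠ 0) (fv₁ : f v₁ = 0) (fv₁' : f' v₁ = 0) (v : V) :
    ∃ c : ZMod p, v = f' v • z + f v • z' + c • v₁ := by
  have hli : LinearIndependent (ZMod p) ![z, z', v₁] := by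
    rw [Fintype.linearIndependent_iff]
    intro g hg
    rw [Fin.sum_univ_three] at hg
    simp only [Matrix.cons_val_zero, Matrix.cons_val_one, Matrix.cons_val_two, Matrix.cons_val] at hg
    have e0 : g 0 = 0 := by
      have := congrArg f' hg
      simpa [hz', h2, fv₁'] using this
    have e1 : g 1 = 0 := by
      have := congrArg f hg
      simpa [hz, h1, fv₁] using this
    have e2 : g 2 = 0 := by
      rw [e0, e1, zero_smul, zero_smul, zero_add, zero_add] at hg
      exact (smul_eq_zero.1 hg).resolve_right hv₁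
    intro i
    fin_cases i
    · exact e0
    · exact e1
    · exact e2
  have hfin : Module.Finite (ZMod p) V := Module.finite_of_finrank_pos (by rw [h3]; norm_num)
  have hspan := hli.span_eq_top_of_card_eq_finrank (by simp [h3])
  have hv : v ∈ Submodule.span (ZMod p) (Set.range ![z, z', v₁]) := by rw [hspan]; trivial
  obtain ⟨g, hg⟩ := (Submodule.mem_span_range_iff_exists_fun (ZMod p)).1 hv
  rw [Fin.sum_univ_three] at hg
  simp only [Matrix.cons_val_zero, Matrix.cons_val_one, Matrix.cons_val_two, Matrix.cons_val] at hg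
  have e0 : f' v = g 0 := by
    rw [← hg]; simp [hz', h2, fv₁']
  have e1 : f v = g 1 := by
    rw [← hg]; simp [hz, h1, fv₁]
  exact ⟨g 2, by rw [e0, e1]; exact hg.symm⟩

/-- Two opposite transvections in different components: every transvection of the group lives on their plane. -/
theorem core (hρ : Function.Injective ρ) (h3 : finrank (ZMod p) V = 3)
    (c1 : ∀ M, C M → ∀ u ∈ M, u ≠ 1 → u ^ p = 1 → ∀ g, g * u = u * g → g ∈ M)
    (c2 : ∀ u : X, u ≠ 1 → u ^ p = 1 → ∃ M, C M ∧ u ∈ M)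
    (hz : f z = 0) (hz' : f' z' = 0) (h1 : f z' = 1) (h2 : f' z = 1) (h : Tr ρ ⊤ f z)
    (h' : Tr ρ ⊤ f' z') (c3 : ∀ M, C M → Tr ρ M f z → Tr ρ M f' z' → False)
    {f₂ : V →ₗ[ZMod p] ZMod p} {z₂ : V} (hf₂ : f₂ ≠ 0) (hz₂0 : z₂ ≠ 0) (hz₂ : f₂ z₂ = 0)
    (h₂ : Tr ρ ⊤ f₂ z₂) :
    z₂ = f z₂ • z' + f' z₂ • z ∧ f₂ = f₂ z' • f + f₂ z • f' := by
  have hf0 : f ≠ 0 := by rintro rfl; simp at h1
  have hf0' : f' ≠ 0 := by rintro rfl; simp at h2
  have hz0 : z ≠ 0 := by rintro rfl; simp at h2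
  have hz0' : z' ≠ 0 := by rintro rfl; simp at h1
  have claimA : ∀ (g : V →ₗ[ZMod p] ZMod p) (w : V), g ≠ 0 → w ≠ 0 → g w = 0 → Tr ρ ⊤ g w →
      ¬ (f w = 0 ∧ f' w = 0) := by
    rintro g w hg hw hgw hT ⟨e1, e2⟩
    obtain ⟨M, hM, hT'⟩ := exists_comp hρ c2 hg hw hgw hT
    exact c3 M hM (connect hρ c1 hM hg hw hgw hz hz0 hT' h (Or.inr e1))
      (connect hρ c1 hM hg hw hgw hz' hz0' hT' h' (Or.inr e2))
  have claimA' : ∀ (g : V →ₗ[ZMod p] ZMod p) (w : V), g ≠ 0 → w ≠ 0 → g w = 0 → Tr ρ ⊤ g w →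
      ¬ (g z = 0 ∧ g z' = 0) := by
    rintro g w hg hw hgw hT ⟨e1, e2⟩
    obtain ⟨M, hM, hT'⟩ := exists_comp hρ c2 hg hw hgw hT
    exact c3 M hM (connect hρ c1 hM hg hw hgw hz hz0 hT' h (Or.inl e1))
      (connect hρ c1 hM hg hw hgw hz' hz0' hT' h' (Or.inl e2))
  -- claim B
  have claimB : f z₂ * f₂ z' + f' z₂ * f₂ z = 0 := by
    by_contra hB
    obtain ⟨M, hM, hT⟩ := exists_comp hρ c2 hf₂ hz₂0 hz₂ h₂
    obtain ⟨a, ha⟩ : ∃ a, a = f₂ z' := ⟨_, rfl⟩
    obtain ⟨b, hb⟩ : ∃ b, b = -f₂ z := ⟨_, rfl⟩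
    obtain ⟨a₂, ha₂⟩ : ∃ a, a = f' z₂ := ⟨_, rfl⟩
    obtain ⟨b₂, hb₂⟩ : ∃ b, b = f z₂ := ⟨_, rfl⟩
    obtain ⟨δ, hδ⟩ : ∃ δ, δ = b * a₂ - a * b₂ := ⟨_, rfl⟩
    have hδ0 : δ ≠ 0 := by
      intro h0
      apply hB
      rw [← hb₂, ← ha, ← ha₂, show f₂ z = -b by rw [hb, neg_neg]]
      linear_combination -h0 + hδ
    have sw := h.sl2 hz hz' h1 h2 h' a b 1
    have sv := h.sl2 hz hz' h1 h2 h' a₂ b₂ 1
    rw [one_smul] at sw sv
    have fw : f (a • z + b • z') = b := by simp [hz, h1]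
    have fw' : f' (a • z + b • z') = a := by simp [hz', h2]
    have fv : f (a₂ • z + b₂ • z') = b₂ := by simp [hz, h1]
    have fv' : f' (a₂ • z + b₂ • z') = a₂ := by simp [hz', h2]
    have hw0 : a • z + b • z' ≠ 0 := by
      intro h0
      have e1 : b = 0 := by rw [← fw, h0, map_zero]
      have e2 : a = 0 := by rw [← fw', h0, map_zero]
      apply hδ0
      rw [hδ, e1, e2]
      ring
    have hv0 : a₂ • z + b₂ • z' ≠ 0 := by
      intro h0
      have e1 : b₂ = 0 := by rw [← fv, h0, map_zero]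
      have e2 : a₂ = 0 := by rw [← fv', h0, map_zero]
      apply hδ0
      rw [hδ, e1, e2]
      ring
    have gw : (b • f' - a • f) (a • z + b • z') = 0 := by
      rw [LinearMap.sub_apply, LinearMap.smul_apply, LinearMap.smul_apply, fw, fw']
      simp [mul_comm]
    have gv : (b₂ • f' - a₂ • f) (a₂ • z + b₂ • z') = 0 := by
      rw [LinearMap.sub_apply, LinearMap.smul_apply, LinearMap.smul_apply, fv, fv']
      simp [mul_comm]
    have Tw : Tr ρ M (b • f' - a • f) (a • z + b • z') := by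
      refine connect hρ c1 hM hf₂ hz₂0 hz₂ gw hw0 hT sw (Or.inl ?_)
      rw [map_add, map_smul, map_smul, smul_eq_mul, smul_eq_mul, ha, hb]
      ring
    have Tv : Tr ρ M (b₂ • f' - a₂ • f) (a₂ • z + b₂ • z') := by
      refine connect hρ c1 hM hf₂ hz₂0 hz₂ gv hv0 hT sv (Or.inr ?_)
      rw [LinearMap.sub_apply, LinearMap.smul_apply, LinearMap.smul_apply, ← ha₂, ← hb₂]
      simp [mul_comm]
    have Tw' := Tw.smul gw δ⁻¹
    have Tv' := Tv.smul gv (-δ⁻¹)
    have hdd : δ * δ⁻¹ = 1 := mul_inv_cancel₀ hδ0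
    have hd2 : δ * (δ⁻¹ * δ⁻¹) = δ⁻¹ := by rw [← mul_assoc, hdd, one_mul]
    have g1 : (δ⁻¹ • (b • f' - a • f)) (a • z + b • z') = 0 := by
      rw [LinearMap.smul_apply, gw, smul_zero]
    have g2 : (-δ⁻¹ • (b₂ • f' - a₂ • f)) (a₂ • z + b₂ • z') = 0 := by
      rw [LinearMap.smul_apply, gv, smul_zero]
    have g3 : (δ⁻¹ • (b • f' - a • f)) (a₂ • z + b₂ • z') = 1 := by
      rw [LinearMap.smul_apply, LinearMap.sub_apply, LinearMap.smul_apply, LinearMap.smul_apply, fv, fv',
        smul_eq_mul, smul_eq_mul, smul_eq_mul, ← hδ, mul_comm, hdd]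
    have g4 : (-δ⁻¹ • (b₂ • f' - a₂ • f)) (a • z + b • z') = 1 := by
      rw [LinearMap.smul_apply, LinearMap.sub_apply, LinearMap.smul_apply, LinearMap.smul_apply, fw, fw',
        smul_eq_mul, smul_eq_mul, smul_eq_mul, ← hdd, hδ]
      ring
    have key := fun α β c => Tw'.sl2 g1 g2 g3 g4 Tv' α β c
    refine c3 M hM ?_ ?_
    · have k1 := key (-b₂ * δ⁻¹) (b * δ⁻¹) δ
      refine k1.congr fun v => ?_
      have e1 : (-b₂ * δ⁻¹) • (a • z + b • z') + (b * δ⁻¹) • (a₂ • z + b₂ • z') = z := by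
        have : (-b₂ * δ⁻¹) • (a • z + b • z') + (b * δ⁻¹) • (a₂ • z + b₂ • z') =
            ((b * a₂ - a * b₂) * δ⁻¹) • z := by module
        rw [this, ← hδ, hdd, one_smul]
      rw [e1]
      congr 1
      simp only [LinearMap.smul_apply, LinearMap.sub_apply, smul_eq_mul]
      have : δ * (b * δ⁻¹ * (-δ⁻¹ * (b₂ * f' v - a₂ * f v)) - -b₂ * δ⁻¹ * (δ⁻¹ * (b * f' v - a * f v))) =
          δ * (δ⁻¹ * δ⁻¹) * (b * a₂ - a * b₂) * f v := by ring
      rw [this, hd2, ← hδ, mul_comm δ⁻¹, hdd, one_mul]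
    · have k1 := key (a₂ * δ⁻¹) (-a * δ⁻¹) (-δ)
      refine k1.congr fun v => ?_
      have e1 : (a₂ * δ⁻¹) • (a • z + b • z') + (-a * δ⁻¹) • (a₂ • z + b₂ • z') = z' := by
        have : (a₂ * δ⁻¹) • (a • z + b • z') + (-a * δ⁻¹) • (a₂ • z + b₂ • z') =
            ((b * a₂ - a * b₂) * δ⁻¹) • z' := by module
        rw [this, ← hδ, hdd, one_smul]
      rw [e1]
      congr 1
      simp only [LinearMap.smul_apply, LinearMap.sub_apply, smul_eq_mul]
      have : -δ * (-a * δ⁻¹ * (-δ⁻¹ * (b₂ * f' v - a₂ * f v)) - a₂ * δ⁻¹ * (δ⁻¹ * (b * f' v - a * f v))) =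
          δ * (δ⁻¹ * δ⁻¹) * (b * a₂ - a * b₂) * f' v := by ring
      rw [this, hd2, ← hδ, mul_comm δ⁻¹, hdd, one_mul]
  -- a scalar `c` with `c • ω_{v₂} = -(f₂ restricted)`
  have hc : ∃ c : ZMod p, c • (f z₂ • f' - f' z₂ • f) = -(f₂ z' • f + f₂ z • f') := by
    have hA := claimA f₂ z₂ hf₂ hz₂0 hz₂ h₂
    by_cases hb : f z₂ = 0
    · have ha : f' z₂ ≠ 0 := fun h => hA ⟨hb, h⟩
      have hz0 : f₂ z = 0 := by
        rw [hb, zero_mul, zero_add] at claimB
        exact (mul_eq_zero.1 claimB).resolve_left ha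
      refine ⟨f₂ z' * (f' z₂)⁻¹, ?_⟩
      have e0 : (0 : ZMod p) • f' = 0 := zero_smul _ _
      rw [hb, hz0, e0, zero_sub, add_zero, smul_neg, smul_smul, mul_assoc,
        inv_mul_cancel₀ ha, mul_one]
    · refine ⟨-f₂ z * (f z₂)⁻¹, ?_⟩
      have e : f₂ z' = -f₂ z * (f z₂)⁻¹ * f' z₂ := by
        have : f z₂ * f₂ z' = - (f' z₂ * f₂ z) := by linear_combination claimB
        calc f₂ z' = (f z₂)⁻¹ * (f z₂ * f₂ z') := by rw [← mul_assoc, inv_mul_cancel₀ hb, one_mul]
          _ = _ := by rw [this]; ring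
      rw [e, smul_sub, smul_smul, smul_smul]
      have e2 : -f₂ z * (f z₂)⁻¹ * f z₂ = -f₂ z := by rw [mul_assoc, inv_mul_cancel₀ hb, mul_one]
      rw [e2]
      module
  obtain ⟨c, hc⟩ := hc
  have Tv₂ : Tr ρ ⊤ (-(f₂ z' • f + f₂ z • f')) (f z₂ • z' + f' z₂ • z) := by
    have := h.sl2 hz hz' h1 h2 h' (f' z₂) (f z₂) c
    rwa [hc, add_comm (f' z₂ • z)] at this
  have hz₂eq : z₂ = f z₂ • z' + f' z₂ • z := by
    by_contra hne
    set v₁ := z₂ - (f z₂ • z' + f' z₂ • z) with hv₁
    have hv₁0 : v₁ ≠ 0 := fun h0 => hne (sub_eq_zero.1 h0)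
    have fv₁ : f v₁ = 0 := by rw [hv₁]; simp [hz, h1]
    have fv₁' : f' v₁ = 0 := by rw [hv₁]; simp [hz', h2]
    have f₂v₁ : f₂ v₁ = 0 := by
      rw [hv₁, map_sub, map_add, map_smul, map_smul, hz₂, smul_eq_mul, smul_eq_mul, claimB, sub_zero]
    have hdec := decomp h3 hz hz' h1 h2 hv₁0 fv₁ fv₁'
    have hf₂eq : f₂ = f₂ z' • f + f₂ z • f' := by
      ext v
      obtain ⟨c', hc'⟩ := hdec v
      conv_lhs => rw [hc']
      simp only [map_add, map_smul, f₂v₁, smul_eq_mul, mul_zero, add_zero, LinearMap.add_apply,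
        LinearMap.smul_apply]
      ring
    have hT : Tr ρ ⊤ f₂ v₁ := by
      rw [← hf₂eq] at Tv₂
      have hw : f₂ (-(f z₂ • z' + f' z₂ • z)) = 0 := by
        rw [map_neg, map_add, map_smul, map_smul, smul_eq_mul, smul_eq_mul, claimB, neg_zero]
      have T3 : Tr ρ ⊤ f₂ (-(f z₂ • z' + f' z₂ • z)) := by
        refine Tv₂.congr fun v => ?_
        rw [LinearMap.neg_apply, neg_smul, smul_neg]
      have := h₂.add_left hw T3
      rwa [← sub_eq_add_neg] at this
    exact claimA f₂ v₁ hf₂ hv₁0 f₂v₁ hT ⟨fv₁, fv₁'⟩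
  refine ⟨hz₂eq, ?_⟩
  by_contra hne
  have hg0 : f₂ + -(f₂ z' • f + f₂ z • f') ≠ 0 := fun h0 => hne (by
    rw [← sub_eq_add_neg] at h0
    exact sub_eq_zero.1 h0)
  have gz : (f₂ + -(f₂ z' • f + f₂ z • f')) z = 0 := by simp [hz, h2]
  have gz' : (f₂ + -(f₂ z' • f + f₂ z • f')) z' = 0 := by simp [hz', h1]
  have gz₂ : (f₂ + -(f₂ z' • f + f₂ z • f')) z₂ = 0 := by
    rw [hz₂eq, map_add, map_smul, map_smul, gz, gz', smul_zero, smul_zero, add_zero]
  rw [← hz₂eq] at Tv₂
  have hT := h₂.add_right hz₂ Tv₂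
  exact claimA' _ z₂ hg0 hz₂0 gz₂ hT ⟨gz, gz'⟩

end Core

/-! ### `p`-subgroups -/

/-- An operator of `p`-power order acts trivially on one-dimensional sections. -/
theorem char_one {g : V ≃ₗ[ZMod p] V} {m : ℕ} (hg : g ^ p ^ m = 1) (W : Submodule (ZMod p) V)
    (hW : ∀ w ∈ W, g w ∈ W) {v : V} (hv : v ∉ W) {c : ZMod p} (h : g v - c • v ∈ W) : c = 1 := by
  have key : ∀ n : ℕ, (g ^ n) v - c ^ n • v ∈ W := by
    intro n
    induction n with
    | zero => simp
    | succ n ih =>
      have e : (g ^ (n + 1)) v - c ^ (n + 1) • v = g ((g ^ n) v - c ^ n • v) + c ^ n • (g v - c • v) := by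
        rw [pow_succ' g, map_sub, map_smul, smul_sub, smul_smul, ← pow_succ]
        show g ((g ^ n) v) - _ = _
        abel
      rw [e]
      exact W.add_mem (hW _ ih) (W.smul_mem _ h)
  have h1 := key (p ^ m)
  rw [hg, ZMod.pow_card_pow] at h1
  have h2 : (1 - c) • v ∈ W := by
    rw [sub_smul, one_smul]
    exact h1
  by_contra hc
  have h3 : (1 - c) ≠ 0 := fun h0 => hc (sub_eq_zero.1 h0).symm
  apply hv
  have := W.smul_mem (1 - c)⁻¹ h2
  rwa [smul_smul, inv_mul_cancel₀ h3, one_smul] at this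

theorem exists_pow (P : Type*) [Group P] (hP : IsPGroup p P) (σ : P →* (V ≃ₗ[ZMod p] V)) (g : P) :
    ∃ m : ℕ, (σ g) ^ p ^ m = 1 := by
  obtain ⟨m, hm⟩ := hP g
  exact ⟨m, by rw [← map_pow, hm, map_one]⟩

/-- Fixed vectors in invariant subspaces. -/
theorem exists_fixed (P : Type*) [Group P] [Finite P] (hP : IsPGroup p P) (σ : P →* (V ≃ₗ[ZMod p] V))
    (W : Submodule (ZMod p) V) (hW : ∀ (g : P), ∀ v ∈ W, σ g v ∈ W) (hW0 : W ≠ ⊥) :
    ∃ v ∈ W, v ≠ 0 ∧ ∀ g : P, σ g v = v := by
  let τ : Representation (ZMod p) P V :=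
    (LinearEquiv.automorphismGroup.toLinearMapMonoidHom (R := ZMod p) (M := V)).comp σ
  obtain ⟨v, hv, hv0, h⟩ := Cfsg.Agent.Lib.PGroupFixedVector.exists_mem_ne_zero_fixed_rep hP τ W
    (fun g v hv => hW g v hv) hW0
  exact ⟨v, hv, hv0, fun g => h g⟩

/-- A `p`-group acting faithfully on `V = U + L` with `dim U = 2`, `dim L ≤ 1` has order at most `p`. -/
theorem card_le_p (P : Type*) [Group P] [Finite P] (hP : IsPGroup p P) (σ : P →* (V ≃ₗ[ZMod p] V))
    (hσ : Function.Injective σ) (U L : Submodule (ZMod p) V) (hU : ∀ (g : P), ∀ v ∈ U, σ g v ∈ U)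
    (hL : ∀ (g : P), ∀ v ∈ L, σ g v ∈ L) (hUr : finrank (ZMod p) U ≤ 2) (hLr : finrank (ZMod p) L ≤ 1)
    [Module.Finite (ZMod p) V] (hUL : U ⊔ L = ⊤) : Nat.card P ≤ p := by
  -- `P` acts trivially on `L`
  have hLt : ∀ (g : P), ∀ v ∈ L, σ g v = v := by
    intro g v hv
    by_cases hv0 : v = 0
    · rw [hv0, map_zero]
    · have h1 : σ g v ∈ L := hL g v hv
      obtain ⟨c, hc⟩ : ∃ c : ZMod p, c • v = σ g v := by
        have := (finrank_le_one_iff (K := ZMod p) (V := L)).1 hLr
        obtain ⟨w, hw⟩ := this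
        obtain ⟨a, ha⟩ := hw ⟨v, hv⟩
        obtain ⟨b, hb⟩ := hw ⟨σ g v, h1⟩
        have ha' : a • (w : V) = v := congrArg Subtype.val ha
        have hb' : b • (w : V) = σ g v := congrArg Subtype.val hb
        have ha0 : a ≠ 0 := by
          rintro rfl
          rw [zero_smul] at ha'
          exact hv0 ha'.symm
        refine ⟨b * a⁻¹, ?_⟩
        rw [← hb', ← ha', smul_smul, mul_assoc, inv_mul_cancel₀ ha0, mul_one]
      obtain ⟨m, hm⟩ := exists_pow P hP σ g
      have := char_one hm ⊥ (by intro w hw; rw [Submodule.mem_bot] at hw ⊢; rw [hw, map_zero])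
        (v := v) (by simpa using hv0) (c := c) (by rw [hc]; simp)
      rw [this, one_smul] at hc
      exact hc.symm
  by_cases hU0 : U = ⊥
  · -- `P` is trivial
    have : Subsingleton P := by
      refine ⟨fun a b => hσ ?_⟩
      ext v
      have hv : v ∈ L := by
        rw [hU0, bot_sup_eq] at hUL
        rw [hUL]; trivial
      rw [hLt a v hv, hLt b v hv]
    have h1 : Nat.card P ≤ 1 := Finite.card_le_one_iff_subsingleton.2 this
    exact h1.trans (Fact.out : p.Prime).one_lt.le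
  obtain ⟨w₁, hw₁, hw₁0, hfix⟩ := exists_fixed P hP σ U hU hU0
  by_cases hU1 : U ≤ Submodule.span (ZMod p) {w₁}
  · have : Subsingleton P := by
      refine ⟨fun a b => hσ ?_⟩
      have ht : ∀ g : P, ∀ v, σ g v = v := by
        intro g v
        have hv : v ∈ U ⊔ L := by rw [hUL]; trivial
        obtain ⟨u, hu, l, hl, rfl⟩ := Submodule.mem_sup.1 hv
        obtain ⟨c, rfl⟩ := Submodule.mem_span_singleton.1 (hU1 hu)
        rw [map_add, map_smul, hfix, hLt g l hl]
      ext v
      rw [ht, ht]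
    have h1 : Nat.card P ≤ 1 := Finite.card_le_one_iff_subsingleton.2 this
    exact h1.trans (Fact.out : p.Prime).one_lt.le
  · obtain ⟨w₂, hw₂, hw₂n⟩ := SetLike.not_le_iff_exists.1 hU1
    -- `U = ⟨w₁, w₂⟩`
    have hspan : ∀ u ∈ U, ∃ a b : ZMod p, u = a • w₁ + b • w₂ := by
      have hli : LinearIndependent (ZMod p) ![(⟨w₁, hw₁⟩ : U), ⟨w₂, hw₂⟩] := by
        rw [LinearIndependent.pair_iff]
        intro a b hab
        have hab' : a • w₁ + b • w₂ = 0 := congrArg Subtype.val hab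
        have hb : b = 0 := by
          by_contra hb
          apply hw₂n
          rw [Submodule.mem_span_singleton]
          refine ⟨-(b⁻¹ * a), ?_⟩
          have : b⁻¹ • (a • w₁ + b • w₂) = 0 := by rw [hab', smul_zero]
          rw [smul_add, smul_smul, smul_smul, inv_mul_cancel₀ hb, one_smul] at this
          rw [neg_smul]
          exact (eq_neg_of_add_eq_zero_right this).symm
        refine ⟨?_, hb⟩
        rw [hb, zero_smul, add_zero] at hab'
        exact (smul_eq_zero.1 hab').resolve_right hw₁0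
      have h2 : finrank (ZMod p) U = 2 := by
        refine le_antisymm hUr ?_
        have := hli.fintype_card_le_finrank
        simpa using this
      have hs := hli.span_eq_top_of_card_eq_finrank (by simp [h2])
      intro u hu
      have hv : (⟨u, hu⟩ : U) ∈ Submodule.span (ZMod p) (Set.range ![(⟨w₁, hw₁⟩ : U), ⟨w₂, hw₂⟩]) := by
        rw [hs]; trivial
      obtain ⟨g, hg⟩ := (Submodule.mem_span_range_iff_exists_fun (ZMod p)).1 hv
      rw [Fin.sum_univ_two] at hg
      have hg' : g 0 • w₁ + g 1 • w₂ = u := congrArg Subtype.val hg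
      exact ⟨g 0, g 1, hg'.symm⟩
    have hw : ∀ g : P, ∃ a : ZMod p, σ g w₂ = a • w₁ + w₂ := by
      intro g
      obtain ⟨a, b, hab⟩ := hspan _ (hU g w₂ hw₂)
      obtain ⟨m, hm⟩ := exists_pow P hP σ g
      have hb : b = 1 := by
        refine char_one hm (Submodule.span (ZMod p) {w₁}) ?_ hw₂n (c := b) ?_
        · intro w hw
          obtain ⟨c, rfl⟩ := Submodule.mem_span_singleton.1 hw
          rw [map_smul, hfix]
          exact Submodule.smul_mem _ _ (Submodule.mem_span_singleton_self _)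
        · rw [hab, add_sub_cancel_right]
          exact Submodule.smul_mem _ _ (Submodule.mem_span_singleton_self _)
      exact ⟨a, by rw [hab, hb, one_smul]⟩
    choose α hα using hw
    have hinj : Function.Injective α := by
      intro g h hgh
      apply hσ
      ext v
      have hv : v ∈ U ⊔ L := by rw [hUL]; trivial
      obtain ⟨u, hu, l, hl, rfl⟩ := Submodule.mem_sup.1 hv
      obtain ⟨a, b, rfl⟩ := hspan u hu
      simp only [map_add, map_smul, hfix, hLt _ l hl, hα, hgh]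
    have := Nat.card_le_card_of_injective α hinj
    rwa [Nat.card_zmod] at this

/-- A `p`-group of order at least `p²` acting faithfully on a 3-dimensional space contains a transvection. -/
theorem exists_tr (P : Subgroup X) [Finite P] (hP : IsPGroup p P) (hρ : Function.Injective ρ)
    (h3 : finrank (ZMod p) V = 3) (hcard : p ^ 2 ≤ Nat.card P) :
    ∃ (f : V →ₗ[ZMod p] ZMod p) (z : V), f ≠ 0 ∧ z ≠ 0 ∧ f z = 0 ∧ Tr ρ P f z := by
  have hfin : Module.Finite (ZMod p) V := Module.finite_of_finrank_pos (by rw [h3]; norm_num)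
  have hpp : p.Prime := Fact.out
  -- a fixed functional
  let σ : P →* (V ≃ₗ[ZMod p] V) := ρ.comp P.subtype
  have hσ : Function.Injective σ := hρ.comp P.subtype_injective
  obtain ⟨f₀, hf₀, hf₀fix⟩ : ∃ f₀ : V →ₗ[ZMod p] ZMod p, f₀ ≠ 0 ∧ ∀ g : P, ∀ v, f₀ (σ g v) = f₀ v := by
    let τ : P →* ((V →ₗ[ZMod p] ZMod p) ≃ₗ[ZMod p] (V →ₗ[ZMod p] ZMod p)) :=
      { toFun := fun g => LinearEquiv.congrLeft (ZMod p) (ZMod p) (σ g)
        map_one' := by
          ext f v
          rw [map_one]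
          rfl
        map_mul' := fun a b => by
          ext f v
          rw [map_mul]
          rfl }
    have hne : (⊤ : Submodule (ZMod p) (V →ₗ[ZMod p] ZMod p)) ≠ ⊥ := by
      intro h0
      have h1 : finrank (ZMod p) (Dual (ZMod p) V) = 3 := by rw [Subspace.dual_finrank_eq, h3]
      have h2 : finrank (ZMod p) (⊤ : Submodule (ZMod p) (V →ₗ[ZMod p] ZMod p)) = 3 := by
        rw [finrank_top]; exact h1
      rw [h0, finrank_bot] at h2
      exact absurd h2 (by norm_num)
    obtain ⟨f₀, -, hf₀, h⟩ := exists_fixed P hP τ ⊤ (fun _ _ _ => trivial) hne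
    refine ⟨f₀, hf₀, fun g v => ?_⟩
    have h1 := congrArg (fun (f : V →ₗ[ZMod p] ZMod p) => f (σ g v)) (h g)
    have h2 : (τ g f₀) (σ g v) = f₀ ((σ g).symm (σ g v)) := rfl
    rw [LinearEquiv.symm_apply_apply] at h2
    exact h1.symm.trans h2
  -- a fixed vector in the kernel
  have hker : finrank (ZMod p) (LinearMap.ker f₀) = 2 := by
    have h1 := LinearMap.finrank_range_add_finrank_ker f₀
    have h2 : LinearMap.range f₀ = ⊤ := LinearMap.range_eq_top.2 (LinearMap.surjective hf₀)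
    rw [h2, finrank_top, finrank_self, h3] at h1
    omega
  obtain ⟨e₁, he₁, he₁0, he₁fix⟩ := exists_fixed P hP σ (LinearMap.ker f₀)
    (fun g v hv => by rw [LinearMap.mem_ker] at hv ⊢; rw [hf₀fix, hv])
    (by
      intro h0
      rw [h0, finrank_bot] at hker
      exact absurd hker (by norm_num))
  rw [LinearMap.mem_ker] at he₁
  obtain ⟨e₂, he₂, he₂n⟩ : ∃ e₂ ∈ LinearMap.ker f₀, e₂ ∉ Submodule.span (ZMod p) {e₁} := by
    apply SetLike.not_le_iff_exists.1
    intro hle
    have h1 := Submodule.finrank_mono hle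
    rw [hker] at h1
    have h2 := finrank_span_singleton (K := ZMod p) he₁0
    omega
  obtain ⟨e₃, he₃⟩ : ∃ e₃, f₀ e₃ = 1 := LinearMap.surjective hf₀ 1
  -- `ker f₀ = ⟨e₁, e₂⟩`
  have hspan : ∀ u ∈ LinearMap.ker f₀, ∃ a b : ZMod p, u = a • e₁ + b • e₂ := by
    have hli : LinearIndependent (ZMod p) ![(⟨e₁, he₁⟩ : LinearMap.ker f₀), ⟨e₂, he₂⟩] := by
      rw [LinearIndependent.pair_iff]
      intro a b hab
      have hab' : a • e₁ + b • e₂ = 0 := congrArg Subtype.val hab
      have hb : b = 0 := by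
        by_contra hb
        apply he₂n
        rw [Submodule.mem_span_singleton]
        refine ⟨-(b⁻¹ * a), ?_⟩
        have : b⁻¹ • (a • e₁ + b • e₂) = 0 := by rw [hab', smul_zero]
        rw [smul_add, smul_smul, smul_smul, inv_mul_cancel₀ hb, one_smul] at this
        rw [neg_smul]
        exact (eq_neg_of_add_eq_zero_right this).symm
      refine ⟨?_, hb⟩
      rw [hb, zero_smul, add_zero] at hab'
      exact (smul_eq_zero.1 hab').resolve_right he₁0
    have hs := hli.span_eq_top_of_card_eq_finrank (by simp [hker])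
    intro u hu
    have hv : (⟨u, hu⟩ : LinearMap.ker f₀) ∈
        Submodule.span (ZMod p) (Set.range ![(⟨e₁, he₁⟩ : LinearMap.ker f₀), ⟨e₂, he₂⟩]) := by
      rw [hs]; trivial
    obtain ⟨g, hg⟩ := (Submodule.mem_span_range_iff_exists_fun (ZMod p)).1 hv
    rw [Fin.sum_univ_two] at hg
    have hg' : g 0 • e₁ + g 1 • e₂ = u := congrArg Subtype.val hg
    exact ⟨g 0, g 1, hg'.symm⟩
  -- shape of the elements of `P`
  have hw : ∀ g : P, ∃ a : ZMod p, σ g e₂ = a • e₁ + e₂ := by
    intro g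
    obtain ⟨a, b, hab⟩ := hspan _ (by rw [LinearMap.mem_ker, hf₀fix]; exact he₂ : σ g e₂ ∈ LinearMap.ker f₀)
    obtain ⟨m, hm⟩ := exists_pow P hP σ g
    have hb : b = 1 := by
      refine char_one hm (Submodule.span (ZMod p) {e₁}) ?_ he₂n (c := b) ?_
      · intro w hw
        obtain ⟨c, rfl⟩ := Submodule.mem_span_singleton.1 hw
        rw [map_smul, he₁fix]
        exact Submodule.smul_mem _ _ (Submodule.mem_span_singleton_self _)
      · rw [hab, add_sub_cancel_right]
        exact Submodule.smul_mem _ _ (Submodule.mem_span_singleton_self _)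
    exact ⟨a, by rw [hab, hb, one_smul]⟩
  have hw3 : ∀ g : P, ∃ a b : ZMod p, σ g e₃ = a • e₁ + b • e₂ + e₃ := by
    intro g
    obtain ⟨a, b, hab⟩ := hspan (σ g e₃ - e₃) (by rw [LinearMap.mem_ker, map_sub, hf₀fix, sub_self])
    exact ⟨a, b, by rw [← hab, sub_add_cancel]⟩
  choose α hα using hw
  choose γ β hβ using hw3
  have hall : ∀ v : V, ∃ a b c : ZMod p, v = a • e₁ + b • e₂ + c • e₃ := by
    intro v
    obtain ⟨a, b, hab⟩ := hspan (v - f₀ v • e₃) (by
      rw [LinearMap.mem_ker, map_sub, map_smul, he₃, smul_eq_mul, mul_one, sub_self])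
    exact ⟨a, b, f₀ v, by rw [← hab, sub_add_cancel]⟩
  have hext : ∀ g h : P, α g = α h → β g = β h → γ g = γ h → g = h := by
    intro g h h1 h2 h3
    apply hσ
    ext v
    obtain ⟨a, b, c, rfl⟩ := hall v
    simp only [map_add, map_smul, he₁fix, hα, hβ, h1, h2, h3]
  -- independence
  have hind : ∀ a b c : ZMod p, a • e₁ + b • e₂ + c • e₃ = 0 → a = 0 ∧ b = 0 ∧ c = 0 := by
    intro a b c h
    have hc : c = 0 := by
      have := congrArg f₀ h
      rw [LinearMap.mem_ker] at he₂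
      simpa [he₁, he₂, he₃] using this
    rw [hc, zero_smul, add_zero] at h
    have hb : b = 0 := by
      by_contra hb
      apply he₂n
      rw [Submodule.mem_span_singleton]
      refine ⟨-(b⁻¹ * a), ?_⟩
      have : b⁻¹ • (a • e₁ + b • e₂) = 0 := by rw [h, smul_zero]
      rw [smul_add, smul_smul, smul_smul, inv_mul_cancel₀ hb, one_smul] at this
      rw [neg_smul]
      exact (eq_neg_of_add_eq_zero_right this).symm
    refine ⟨?_, hb, hc⟩
    rw [hb, zero_smul, add_zero] at h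
    exact (smul_eq_zero.1 h).resolve_right he₁0
  have hmul2 : ∀ g h : P, α (g * h) = α g + α h := by
    intro g h
    have h1 := hα (g * h)
    rw [map_mul] at h1
    have h2 : σ g (σ h e₂) = (α g + α h) • e₁ + e₂ := by
      rw [hα h, map_add, map_smul, he₁fix, hα g]
      module
    have h3 : (α (g * h) - (α g + α h)) • e₁ + (0 : ZMod p) • e₂ + (0 : ZMod p) • e₃ = 0 := by
      have : (σ g * σ h) e₂ = σ g (σ h e₂) := rfl
      rw [this, h2] at h1
      rw [sub_smul, zero_smul, zero_smul, add_zero, add_zero, sub_eq_zero]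
      exact (add_right_cancel h1).symm
    exact sub_eq_zero.1 (hind _ _ _ h3).1
  have hmul3 : ∀ g h : P, β (g * h) = β g + β h ∧ γ (g * h) = γ g + γ h + α g * β h := by
    intro g h
    have h1 := hβ (g * h)
    rw [map_mul] at h1
    have h2 : σ g (σ h e₃) = (γ g + γ h + α g * β h) • e₁ + (β g + β h) • e₂ + e₃ := by
      rw [hβ h, map_add, map_add, map_smul, map_smul, he₁fix, hα g, hβ g]
      module
    have h3 : (γ (g * h) - (γ g + γ h + α g * β h)) • e₁ + (β (g * h) - (β g + β h)) • e₂ +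
        (0 : ZMod p) • e₃ = 0 := by
      have e : (σ g * σ h) e₃ = σ g (σ h e₃) := rfl
      rw [e, h2] at h1
      have h4 := add_right_cancel h1
      have h5 : (γ (g * h)) • e₁ + (β (g * h)) • e₂ -
        ((γ g + γ h + α g * β h) • e₁ + (β g + β h) • e₂) = 0 := by rw [← h4, sub_self]
      rw [← h5]
      module
    have h4 := hind _ _ _ h3
    exact ⟨sub_eq_zero.1 h4.2.1, sub_eq_zero.1 h4.1⟩
  by_cases hinj : ∀ g : P, α g = 0 → β g = 0 → g = 1
  · exfalso
    let φ : P →* Multiplicative (ZMod p × ZMod p) :=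
      { toFun := fun g => Multiplicative.ofAdd (α g, β g)
        map_one' := by
          have h1 := hmul2 1 1
          have h2 := (hmul3 1 1).1
          rw [mul_one] at h1 h2
          have e1 : α 1 = 0 := by simpa using h1
          have e2 : β 1 = 0 := by simpa using h2
          rw [e1, e2]
          rfl
        map_mul' := fun g h => by
          rw [hmul2, (hmul3 g h).1]
          rfl }
    have hφi : Function.Injective φ := by
      rw [injective_iff_map_eq_one]
      intro g hg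
      have h1 : (α g, β g) = (0, 0) := hg
      exact hinj g (congrArg Prod.fst h1) (congrArg Prod.snd h1)
    have hcardM : Nat.card (Multiplicative (ZMod p × ZMod p)) = p ^ 2 := by
      have : Nat.card (Multiplicative (ZMod p × ZMod p)) = Nat.card (ZMod p × ZMod p) := rfl
      rw [this, Nat.card_prod, Nat.card_zmod, sq]
    have hφs : Function.Surjective φ := by
      have hc : Nat.card P = Nat.card (Multiplicative (ZMod p × ZMod p)) := by
        apply le_antisymm (Nat.card_le_card_of_injective φ hφi)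
        rw [hcardM]
        exact hcard
      have : Finite (Multiplicative (ZMod p × ZMod p)) := inferInstanceAs (Finite (ZMod p × ZMod p))
      exact ((Nat.bijective_iff_injective_and_card φ).2 ⟨hφi, hc⟩).2
    obtain ⟨g, hg⟩ := hφs (Multiplicative.ofAdd (1, 0))
    obtain ⟨h, hh⟩ := hφs (Multiplicative.ofAdd (0, 1))
    have hg1 : (α g, β g) = (1, 0) := hg
    have hh1 : (α h, β h) = (0, 1) := hh
    have e1 : α g = 1 := congrArg Prod.fst hg1
    have e2 : β g = 0 := congrArg Prod.snd hg1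
    have e3 : α h = 0 := congrArg Prod.fst hh1
    have e4 : β h = 1 := congrArg Prod.snd hh1
    have hcomm : g * h = h * g := hφi (by rw [map_mul, map_mul, mul_comm])
    have k1 := (hmul3 g h).2
    have k2 := (hmul3 h g).2
    rw [hcomm] at k1
    rw [k1, e1, e4, e3, e2] at k2
    have : (1 : ZMod p) = 0 := by linear_combination k2
    exact one_ne_zero this
  · push Not at hinj
    obtain ⟨g, h1, h2, hg⟩ := hinj
    have hγ : γ g ≠ 0 := by
      intro h3
      apply hg
      apply hσ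
      rw [map_one]
      ext v
      obtain ⟨a, b, c, rfl⟩ := hall v
      simp only [map_add, map_smul, he₁fix, hα, hβ, h1, h2, h3, zero_smul, zero_add]
      rfl
    refine ⟨f₀, γ g • e₁, hf₀, smul_ne_zero hγ he₁0, by rw [map_smul, he₁, smul_zero], g, g.2, fun v => ?_⟩
    obtain ⟨a, b, c, rfl⟩ := hall v
    have e : ρ (g : X) (a • e₁ + b • e₂ + c • e₃) = σ g (a • e₁ + b • e₂ + c • e₃) := rfl
    rw [LinearMap.mem_ker] at he₂
    rw [e]
    simp only [map_add, map_smul, he₁fix, hα, hβ, h1, h2, zero_smul, zero_add, he₁, he₂, he₃, smul_zero,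
      smul_eq_mul, mul_one, mul_zero, add_zero]
    module

end Cfsg.Agent.H765.GL3
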