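import Cfsg.Agent.H765.GL3
import Cfsg.Agent.S5179

/-!
# Subgroups of `GL_3(p)`: the plane of the transvections (helper765)
-/

set_option autoImplicit false
set_option linter.unusedSectionVars false
set_option linter.unusedSimpArgs false
set_option linter.unusedVariables false

namespace Cfsg.Agent.H765.GL3

open Module Cfsg

variable {p : ℕ} [Fact p.Prime] {V : Type*} [AddCommGroup V] [Module (ZMod p) V]
variable {X : Type*} [Group X]
variable {ρ : X →* (V ≃ₗ[ZMod p] V)} {f f' : V →ₗ[ZMod p] ZMod p} {z z' : V}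

/-- All the transvections of the group live on the plane `⟨z, z'⟩`. -/
structure Plane (ρ : X →* (V ≃ₗ[ZMod p] V)) (f f' : V →ₗ[ZMod p] ZMod p) (z z' : V) : Prop where
  fz : f z = 0
  fz' : f' z' = 0
  one : f z' = 1
  one' : f' z = 1
  tr : Tr ρ ⊤ f z
  tr' : Tr ρ ⊤ f' z'
  all : ∀ (g : V →ₗ[ZMod p] ZMod p) (w : V), g ≠ 0 → w ≠ 0 → g w = 0 → Tr ρ ⊤ g w →
    w = f w • z' + f' w • z ∧ g = g z' • f + g z • f'

namespace Plane

theorem f0 (h : Plane ρ f f' z z') : f ≠ 0 := by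
  rintro rfl; simpa using h.one

theorem f0' (h : Plane ρ f f' z z') : f' ≠ 0 := by
  rintro rfl; simpa using h.one'

theorem z0 (h : Plane ρ f f' z z') : z ≠ 0 := by
  rintro rfl; simpa using h.one'

theorem z0' (h : Plane ρ f f' z z') : z' ≠ 0 := by
  rintro rfl; simpa using h.one

theorem map_tr {x : X} (h : Tr ρ ⊤ f z) :
    Tr ρ ⊤ (f ∘ₗ (ρ x⁻¹ : V ≃ₗ[ZMod p] V).toLinearMap) (ρ x z) := by
  have := h.map (g := x)
  exact this.mono le_top

theorem rho_inv (x : X) (v : V) : ρ x⁻¹ (ρ x v) = v := by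
  rw [map_inv]; exact (ρ x).symm_apply_apply v

theorem rho_inv' (x : X) (v : V) : ρ x (ρ x⁻¹ v) = v := by
  rw [map_inv]; exact (ρ x).apply_symm_apply v

/-- images of transvections under conjugation -/
theorem conj_mem (h : Plane ρ f f' z z') (x : X) {g : V →ₗ[ZMod p] ZMod p} {w : V} (hg : g ≠ 0) (hw : w ≠ 0)
    (hgw : g w = 0) (ht : Tr ρ ⊤ g w) :
    ρ x w = f (ρ x w) • z' + f' (ρ x w) • z ∧ ∀ v, f v = 0 → f' v = 0 → g (ρ x⁻¹ v) = 0 := by
  have h1 : g ∘ₗ (ρ x⁻¹ : V ≃ₗ[ZMod p] V).toLinearMap ≠ 0 := by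
    intro h0
    apply hg
    ext v
    have := LinearMap.congr_fun h0 (ρ x v)
    simp only [LinearMap.comp_apply, LinearEquiv.coe_coe, LinearMap.zero_apply] at this ⊢
    rwa [rho_inv] at this
  have h2 : ρ x w ≠ 0 := by
    intro h0
    apply hw
    rw [← rho_inv (ρ := ρ) x w, h0, map_zero]
  have h3 : (g ∘ₗ (ρ x⁻¹ : V ≃ₗ[ZMod p] V).toLinearMap) (ρ x w) = 0 := by
    show g (ρ x⁻¹ (ρ x w)) = 0
    rw [rho_inv, hgw]
  obtain ⟨e1, e2⟩ := h.all _ _ h1 h2 h3 (map_tr ht)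
  refine ⟨e1, fun v hv hv' => ?_⟩
  have := LinearMap.congr_fun e2 v
  have h4 : g (ρ x⁻¹ v) = (g ∘ₗ (ρ x⁻¹ : V ≃ₗ[ZMod p] V).toLinearMap) v := rfl
  rw [h4, this, LinearMap.add_apply, LinearMap.smul_apply, LinearMap.smul_apply, hv, hv', smul_zero,
    smul_zero, add_zero]

/-- The plane. -/
def U (z z' : V) : Submodule (ZMod p) V := Submodule.span (ZMod p) {z, z'}

/-- The complement of the plane. -/
def L (f f' : V →ₗ[ZMod p] ZMod p) : Submodule (ZMod p) V := LinearMap.ker f ⊓ LinearMap.ker f'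

theorem mem_U {v : V} : v ∈ U (p := p) z z' ↔ ∃ a b : ZMod p, a • z + b • z' = v := Submodule.mem_span_pair

theorem mem_L {v : V} : v ∈ L f f' ↔ f v = 0 ∧ f' v = 0 := by
  simp [L]

theorem invU (h : Plane ρ f f' z z') (x : X) {v : V} (hv : v ∈ U (p := p) z z') : ρ x v ∈ U (p := p) z z' := by
  obtain ⟨a, b, rfl⟩ := mem_U.1 hv
  have h1 := (h.conj_mem x h.f0 h.z0 h.fz h.tr).1
  have h2 := (h.conj_mem x h.f0' h.z0' h.fz' h.tr').1
  rw [map_add, map_smul, map_smul]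
  refine Submodule.add_mem _ (Submodule.smul_mem _ _ ?_) (Submodule.smul_mem _ _ ?_)
  · rw [h1]
    exact mem_U.2 ⟨_, _, add_comm _ _⟩
  · rw [h2]
    exact mem_U.2 ⟨_, _, add_comm _ _⟩

theorem invL (h : Plane ρ f f' z z') (x : X) {v : V} (hv : v ∈ L f f') : ρ x v ∈ L f f' := by
  obtain ⟨hv1, hv2⟩ := mem_L.1 hv
  have h1 := (h.conj_mem x⁻¹ h.f0 h.z0 h.fz h.tr).2 v hv1 hv2
  have h2 := (h.conj_mem x⁻¹ h.f0' h.z0' h.fz' h.tr').2 v hv1 hv2
  rw [inv_inv] at h1 h2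
  exact mem_L.2 ⟨h1, h2⟩

theorem sup_eq (h : Plane ρ f f' z z') : U (p := p) z z' ⊔ L f f' = ⊤ := by
  rw [eq_top_iff]
  intro v _
  have e : v = (f' v • z + f v • z') + (v - (f' v • z + f v • z')) := by abel
  rw [e]
  refine Submodule.add_mem_sup (mem_U.2 ⟨_, _, rfl⟩) (mem_L.2 ⟨?_, ?_⟩)
  · simp [h.fz, h.one]
  · simp [h.fz', h.one']

theorem inf_eq (h : Plane ρ f f' z z') : U (p := p) z z' ⊓ L f f' = ⊥ := by
  rw [eq_bot_iff]
  rintro v ⟨hv1, hv2⟩
  obtain ⟨a, b, rfl⟩ := mem_U.1 hv1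
  obtain ⟨h1, h2⟩ := mem_L.1 hv2
  have e1 : b = 0 := by simpa [h.fz, h.one] using h1
  have e2 : a = 0 := by simpa [h.fz', h.one'] using h2
  rw [e1, e2]
  simp

theorem finrank_U [Module.Finite (ZMod p) V] (h : Plane ρ f f' z z') :
    finrank (ZMod p) (U (p := p) z z') = 2 := by
  have hli : LinearIndependent (ZMod p) ![z, z'] := by
    rw [LinearIndependent.pair_iff]
    intro a b hab
    have h1 := congrArg f hab
    have h2 := congrArg f' hab
    simp only [map_add, map_smul, h.fz, h.one, h.fz', h.one', smul_eq_mul, mul_zero, mul_one, zero_add,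
      add_zero, map_zero] at h1 h2
    exact ⟨h2, h1⟩
  have := finrank_span_eq_card hli
  have e : Set.range ![z, z'] = {z, z'} := by
    rw [Matrix.range_cons, Matrix.range_cons, Matrix.range_empty, Set.union_empty]
    rfl
  rw [e, Fintype.card_fin] at this
  exact this

theorem finrank_L [Module.Finite (ZMod p) V] (h : Plane ρ f f' z z') :
    finrank (ZMod p) (L f f') + 2 = finrank (ZMod p) V := by
  have h1 := Submodule.finrank_sup_add_finrank_inf_eq (U (p := p) z z') (L f f')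
  rw [h.sup_eq, h.inf_eq, finrank_top, finrank_bot, h.finrank_U] at h1
  omega

end Plane

/-- Rescaling: from opposite transvections to a dual pair. -/
theorem plane_of {C : Subgroup X → Prop} (hρ : Function.Injective ρ)
    [Module.Finite (ZMod p) V] (h3 : finrank (ZMod p) V ≤ 3)
    (c1 : ∀ M, C M → ∀ u ∈ M, u ≠ 1 → u ^ p = 1 → ∀ g, g * u = u * g → g ∈ M)
    (c2 : ∀ u : X, u ≠ 1 → u ^ p = 1 → ∃ M, C M ∧ u ∈ M)
    (hz : f z = 0) (hz' : f' z' = 0) (hf : f ≠ 0) (hf' : f' ≠ 0) (hz0 : z ≠ 0) (hz0' : z' ≠ 0)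
    (h : Tr ρ ⊤ f z) (h' : Tr ρ ⊤ f' z')
    (c3 : ∀ M, C M → Tr ρ M f z → Tr ρ M f' z' → False) :
    ∃ (g' : V →ₗ[ZMod p] ZMod p) (w' : V), Plane ρ f g' z w' ∧ g' = (f' z)⁻¹ • f' ∧ w' = (f z')⁻¹ • z' := by
  obtain ⟨M, hM, hT⟩ := exists_comp hρ c2 hf hz0 hz h
  have h1 : f z' ≠ 0 := fun h0 => c3 M hM hT (connect hρ c1 hM hf hz0 hz hz' hz0' hT h' (Or.inl h0))
  have h2 : f' z ≠ 0 := fun h0 => c3 M hM hT (connect hρ c1 hM hf hz0 hz hz' hz0' hT h' (Or.inr h0))
  refine ⟨(f' z)⁻¹ • f', (f z')⁻¹ • z', ?_, rfl, rfl⟩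
  have e1 : ((f' z)⁻¹ • f') ((f z')⁻¹ • z') = 0 := by simp [hz']
  have e2 : f ((f z')⁻¹ • z') = 1 := by simp [h1]
  have e3 : ((f' z)⁻¹ • f') z = 1 := by simp [h2]
  have hT' : Tr ρ ⊤ ((f' z)⁻¹ • f') ((f z')⁻¹ • z') := (h'.smul hz' _).smul' (by simp [hz']) _
  refine ⟨hz, e1, e2, e3, h, hT', ?_⟩
  intro g w hg hw hgw hTr
  have c3' : ∀ N, C N → Tr ρ N f z → Tr ρ N ((f' z)⁻¹ • f') ((f z')⁻¹ • z') → False := by
    intro N hN h4 h5
    refine c3 N hN h4 (((h5.smul e1 (f' z)).smul' (by simp [hz']) (f z')).congr fun v => ?_)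
    simp only [LinearMap.smul_apply, smul_smul, smul_eq_mul]
    congr 1
    field_simp
  by_cases hdim : finrank (ZMod p) V = 3
  · exact core hρ hdim c1 c2 hz e1 e2 e3 h hT' c3' hg hw hgw hTr
  · -- dimension 2
    obtain ⟨g', hg'⟩ : ∃ g', g' = (f' z)⁻¹ • f' := ⟨_, rfl⟩
    obtain ⟨w', hw'⟩ : ∃ w', w' = (f z')⁻¹ • z' := ⟨_, rfl⟩
    rw [← hg'] at e1 e3 ⊢
    rw [← hw'] at e1 e2 ⊢
    have hli : LinearIndependent (ZMod p) ![z, w'] := by
      rw [LinearIndependent.pair_iff]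
      intro a b hab
      have h1 := congrArg f hab
      have h2 := congrArg g' hab
      simp only [map_add, map_smul, hz, e2, e1, e3, smul_eq_mul, mul_zero, mul_one, zero_add,
        add_zero, map_zero] at h1 h2
      exact ⟨h2, h1⟩
    have hle : 2 ≤ finrank (ZMod p) V := by
      have := hli.fintype_card_le_finrank
      simpa using this
    have h2' : finrank (ZMod p) V = 2 := by omega
    have hspan := hli.span_eq_top_of_card_eq_finrank (by simp [h2'])
    have hall : ∀ v : V, v = f v • w' + g' v • z := by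
      intro v
      have hv : v ∈ Submodule.span (ZMod p) (Set.range ![z, w']) := by rw [hspan]; trivial
      obtain ⟨c, hc⟩ := (Submodule.mem_span_range_iff_exists_fun (ZMod p)).1 hv
      rw [Fin.sum_univ_two] at hc
      simp only [Matrix.cons_val_zero, Matrix.cons_val_one] at hc
      have e4 : f v = c 1 := by rw [← hc]; simp [hz, e2]
      have e5 : g' v = c 0 := by rw [← hc]; simp [e1, e3]
      rw [e4, e5, add_comm]
      exact hc.symm
    refine ⟨hall w, ?_⟩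
    ext v
    have := hall v
    rw [LinearMap.add_apply, LinearMap.smul_apply, LinearMap.smul_apply]
    conv_lhs => rw [this]
    rw [map_add, map_smul, map_smul]
    simp only [smul_eq_mul]
    ring

section Sylow

variable [Finite X]

theorem orderOf_eq {u : X} (h1 : u ≠ 1) (hp : u ^ p = 1) : orderOf u = p := orderOf_eq_prime hp h1

/-- A finite group acting faithfully on a space of dimension at most 3 over `ZMod p` with a strongly
`p`-embedded subgroup has order not divisible by `p²`. -/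
theorem not_sq_dvd [Module.Finite (ZMod p) V] (hρ : Function.Injective ρ) (h3 : finrank (ZMod p) V ≤ 3)
    {M : Subgroup X} (hM : IsStronglyPEmbedded p M) : ¬ p ^ 2 ∣ Nat.card X := by
  intro hdvd
  have hpp : p.Prime := Fact.out
  have hM' := hM
  obtain ⟨h1, h2, P, hP⟩ := hM'
  have hPM : (P : Subgroup X) ≤ M := Cfsg.Agent.EvenType.StrongP.sylow_le h1 hP
  have hPcard : p ^ 2 ≤ Nat.card (P : Subgroup X) :=
    Nat.le_of_dvd Nat.card_pos (P.pow_dvd_card_of_pow_dvd_card hdvd)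
  have hPp : ¬ Nat.card (P : Subgroup X) ≤ p := by
    intro h
    have := hPcard.trans h
    nlinarith [hpp.two_le]
  by_cases hdim : finrank (ZMod p) V = 3
  · obtain ⟨f, z, hf, hz0, hz, hT⟩ := exists_tr (P : Subgroup X) P.isPGroup' hρ hdim hPcard
    obtain ⟨t, htP, ht⟩ := hT
    have htM : t ∈ M := hPM htP
    have ht1 := tr_ne_one hf hz0 ht
    have htp : orderOf t = p := orderOf_eq ht1 (tr_pow hρ hz ht)
    -- a conjugate outside `M`
    obtain ⟨g, hg⟩ : ∃ g : X, g * t * g⁻¹ ∉ M := by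
      by_contra hno
      push Not at hno
      apply h2
      rw [eq_top_iff]
      intro g _
      refine Cfsg.Agent.S5179.mem_of_inter hM (hno g) ?_ ?_
      · have : g⁻¹ * (g * t * g⁻¹) * g = t := by group
        rwa [this]
      · rw [← htp]
        have := orderOf_injective (MulAut.conj g).toMonoidHom (MulAut.conj g).injective t
        exact this
    let C : Subgroup X → Prop := fun N => ∃ x : X, N = M.map (MulAut.conj x).toMonoidHom
    have hconj : ∀ x y : X, y ∈ M.map (MulAut.conj x).toMonoidHom ↔ x⁻¹ * y * x ∈ M :=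
      fun x y => Cfsg.Agent.EvenType.StrongP.mem_map_conj
    have hord : ∀ (x u : X), orderOf (x⁻¹ * u * x) = orderOf u := by
      intro x u
      have := orderOf_injective (MulAut.conj x⁻¹).toMonoidHom (MulAut.conj x⁻¹).injective u
      rw [← this]
      congr 1
      simp
    have c1 : ∀ N, C N → ∀ u ∈ N, u ≠ 1 → u ^ p = 1 → ∀ g, g * u = u * g → g ∈ N := by
      rintro N ⟨x, rfl⟩ u hu hu1 hup g hgu
      rw [hconj] at hu ⊢
      refine Cfsg.Agent.S5179.centralizer_mem hM hu ?_ (by rw [hord]; exact orderOf_eq hu1 hup)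
      calc x⁻¹ * g * x * (x⁻¹ * u * x) = x⁻¹ * (g * u) * x := by group
        _ = _ := by rw [hgu]; group
    have c2 : ∀ u : X, u ≠ 1 → u ^ p = 1 → ∃ N, C N ∧ u ∈ N := by
      intro u hu1 hup
      have hup' : IsPGroup p (Subgroup.zpowers u) := by
        refine IsPGroup.of_card (n := 1) ?_
        rw [Nat.card_zpowers, orderOf_eq hu1 hup, pow_one]
      obtain ⟨Q, hQ⟩ := hup'.exists_le_sylow
      obtain ⟨x, hx⟩ := MulAction.exists_smul_eq X P Q
      refine ⟨M.map (MulAut.conj x).toMonoidHom, ⟨x, rfl⟩, ?_⟩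
      have hPQ : (Q : Subgroup X) = (P : Subgroup X).map (MulAut.conj x).toMonoidHom := by
        rw [← hx]; rfl
      have h4 : u ∈ (Q : Subgroup X) := hQ (Subgroup.mem_zpowers u)
      rw [hPQ] at h4
      exact Subgroup.map_mono hPM h4
    have hT : Tr ρ ⊤ f z := ⟨t, trivial, ht⟩
    have hmap := hT.map (g := g)
    have hTg : ∀ v, ρ (g * t * g⁻¹) v = v + (f ∘ₗ (ρ g⁻¹ : V ≃ₗ[ZMod p] V).toLinearMap) v • ρ g z := by
      intro v
      rw [map_mul, map_mul]
      show ρ g (ρ t (ρ g⁻¹ v)) = _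
      rw [ht, map_add, map_smul, Plane.rho_inv']
      rfl
    have hf' : f ∘ₗ (ρ g⁻¹ : V ≃ₗ[ZMod p] V).toLinearMap ≠ 0 := by
      intro h0
      apply hf
      ext v
      have := LinearMap.congr_fun h0 (ρ g v)
      simp only [LinearMap.comp_apply, LinearEquiv.coe_coe, LinearMap.zero_apply] at this ⊢
      rwa [Plane.rho_inv] at this
    have hz0' : ρ g z ≠ 0 := by
      intro h0
      apply hz0
      rw [← Plane.rho_inv (ρ := ρ) g z, h0, map_zero]
    have hz' : (f ∘ₗ (ρ g⁻¹ : V ≃ₗ[ZMod p] V).toLinearMap) (ρ g z) = 0 := by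
      show f (ρ g⁻¹ (ρ g z)) = 0
      rw [Plane.rho_inv, hz]
    have c3 : ∀ N, C N → Tr ρ N f z →
        Tr ρ N (f ∘ₗ (ρ g⁻¹ : V ≃ₗ[ZMod p] V).toLinearMap) (ρ g z) → False := by
      rintro N ⟨x, rfl⟩ ⟨t₁, ht₁, h₁⟩ ⟨t₂, ht₂, h₂⟩
      have e1 : t₁ = t := hρ (by ext v; rw [h₁, ht])
      have e2 : t₂ = g * t * g⁻¹ := hρ (by ext v; rw [h₂, hTg])
      rw [e1, hconj] at ht₁
      rw [e2, hconj] at ht₂
      have hx : x ∈ M := Cfsg.Agent.S5179.mem_of_inter hM htM ht₁ htp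
      apply hg
      have := M.mul_mem (M.mul_mem hx ht₂) (M.inv_mem hx)
      have e : x * (x⁻¹ * (g * t * g⁻¹) * x) * x⁻¹ = g * t * g⁻¹ := by group
      rwa [e] at this
    obtain ⟨g', w', hpl, -, -⟩ := plane_of hρ h3 c1 c2 hz hz' hf hf' hz0 hz0' hT ⟨_, trivial, hTg⟩ c3
    apply hPp
    have hL := hpl.finrank_L
    refine card_le_p (P : Subgroup X) P.isPGroup' (ρ.comp (P : Subgroup X).subtype)
      (hρ.comp (P : Subgroup X).subtype_injective) (Plane.U z w') (Plane.L f g')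
      (fun g v hv => hpl.invU (g : X) hv) (fun g v hv => hpl.invL (g : X) hv) hpl.finrank_U.le (by omega)
      hpl.sup_eq
  · apply hPp
    refine card_le_p (P : Subgroup X) P.isPGroup' (ρ.comp (P : Subgroup X).subtype)
      (hρ.comp (P : Subgroup X).subtype_injective) ⊤ ⊥ (fun _ _ _ => trivial)
      (fun g v hv => by rw [Submodule.mem_bot] at hv ⊢; rw [hv, map_zero]) ?_ (by simp) (by simp)
    rw [finrank_top]
    omega

/-- If `p²` does not divide the order, distinct subgroups of order `p` do not normalize each other. -/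
theorem mem_zpowers_of_normalizes (h2 : ¬ p ^ 2 ∣ Nat.card X) {u w : X} (hu1 : u ≠ 1) (hup : u ^ p = 1)
    (hw1 : w ≠ 1) (hwp : w ^ p = 1) (hw : w ∈ Subgroup.normalizer (Subgroup.zpowers u : Set X)) :
    Subgroup.zpowers w = Subgroup.zpowers u := by
  have hpp : p.Prime := Fact.out
  have hou := orderOf_eq hu1 hup
  have how := orderOf_eq hw1 hwp
  have hpu : IsPGroup p (Subgroup.zpowers u) := by
    refine IsPGroup.of_card (n := 1) ?_
    rw [Nat.card_zpowers, hou, pow_one]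
  have hpw : IsPGroup p (Subgroup.zpowers w) := by
    refine IsPGroup.of_card (n := 1) ?_
    rw [Nat.card_zpowers, how, pow_one]
  have hle : Subgroup.zpowers w ≤ Subgroup.normalizer (Subgroup.zpowers u : Set X) := by
    rwa [Subgroup.zpowers_le]
  have hsup : IsPGroup p ↥(Subgroup.zpowers w ⊔ Subgroup.zpowers u) :=
    hpw.to_sup_of_normal_right' hpu hle
  obtain ⟨n, hn⟩ := IsPGroup.iff_card.1 hsup
  have hn1 : n ≤ 1 := by
    by_contra hlt
    apply h2
    have h5 : Nat.card ↥(Subgroup.zpowers w ⊔ Subgroup.zpowers u) ∣ Nat.card X :=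
      Subgroup.card_subgroup_dvd_card _
    rw [hn] at h5
    exact (pow_dvd_pow p (by omega)).trans h5
  have hcard : Nat.card ↥(Subgroup.zpowers w ⊔ Subgroup.zpowers u) ≤ p := by
    rw [hn]
    calc p ^ n ≤ p ^ 1 := Nat.pow_le_pow_right hpp.pos hn1
      _ = p := pow_one p
  have e1 : Subgroup.zpowers w = Subgroup.zpowers w ⊔ Subgroup.zpowers u :=
    Subgroup.eq_of_le_of_card_ge le_sup_left (by rw [Nat.card_zpowers, how]; exact hcard)
  have e2 : Subgroup.zpowers u = Subgroup.zpowers w ⊔ Subgroup.zpowers u :=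
    Subgroup.eq_of_le_of_card_ge le_sup_right (by rw [Nat.card_zpowers, hou]; exact hcard)
  rw [e1, ← e2]

/-- The plane of the transvections of a group with Sylow `p`-subgroups of order `p`. -/
theorem exists_plane [Module.Finite (ZMod p) V] (hρ : Function.Injective ρ) (h3 : finrank (ZMod p) V ≤ 3)
    (h2 : ¬ p ^ 2 ∣ Nat.card X) {t : X} (hf : f ≠ 0) (hz0 : z ≠ 0) (hz : f z = 0)
    (ht : ∀ v, ρ t v = v + f v • z) {g : X} (hg : g * t * g⁻¹ ∉ Subgroup.zpowers t) :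
    ∃ (g' : V →ₗ[ZMod p] ZMod p) (w' : V), Plane ρ f g' z w' := by
  have hpp : p.Prime := Fact.out
  have ht1 := tr_ne_one hf hz0 ht
  have htp := tr_pow hρ hz ht
  let C : Subgroup X → Prop :=
    fun N => ∃ x : X, x ≠ 1 ∧ x ^ p = 1 ∧ N = Subgroup.normalizer (Subgroup.zpowers x : Set X)
  have c1 : ∀ N, C N → ∀ u ∈ N, u ≠ 1 → u ^ p = 1 → ∀ g, g * u = u * g → g ∈ N := by
    rintro N ⟨x, hx1, hxp, rfl⟩ u hu hu1 hup g hgu
    have h4 := mem_zpowers_of_normalizes h2 hx1 hxp hu1 hup hu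
    rw [← h4]
    have h5 : g ∈ Subgroup.centralizer (Subgroup.zpowers u : Set X) := by
      rw [Subgroup.mem_centralizer_iff]
      rintro y ⟨k, rfl⟩
      have h6 : Commute g u := hgu
      exact ((h6.zpow_right k).eq).symm
    exact Subgroup.centralizer_le_normalizer _ h5
  have c2 : ∀ u : X, u ≠ 1 → u ^ p = 1 → ∃ N, C N ∧ u ∈ N := fun u hu1 hup =>
    ⟨_, ⟨u, hu1, hup, rfl⟩, Subgroup.le_normalizer (Subgroup.mem_zpowers u)⟩
  have hT : Tr ρ ⊤ f z := ⟨t, trivial, ht⟩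
  have hTg : ∀ v, ρ (g * t * g⁻¹) v = v + (f ∘ₗ (ρ g⁻¹ : V ≃ₗ[ZMod p] V).toLinearMap) v • ρ g z := by
    intro v
    rw [map_mul, map_mul]
    show ρ g (ρ t (ρ g⁻¹ v)) = _
    rw [ht, map_add, map_smul, Plane.rho_inv']
    rfl
  have hf' : f ∘ₗ (ρ g⁻¹ : V ≃ₗ[ZMod p] V).toLinearMap ≠ 0 := by
    intro h0
    apply hf
    ext v
    have := LinearMap.congr_fun h0 (ρ g v)
    simp only [LinearMap.comp_apply, LinearEquiv.coe_coe, LinearMap.zero_apply] at this ⊢
    rwa [Plane.rho_inv] at this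
  have hz0' : ρ g z ≠ 0 := by
    intro h0
    apply hz0
    rw [← Plane.rho_inv (ρ := ρ) g z, h0, map_zero]
  have hz' : (f ∘ₗ (ρ g⁻¹ : V ≃ₗ[ZMod p] V).toLinearMap) (ρ g z) = 0 := by
    show f (ρ g⁻¹ (ρ g z)) = 0
    rw [Plane.rho_inv, hz]
  have c3 : ∀ N, C N → Tr ρ N f z →
      Tr ρ N (f ∘ₗ (ρ g⁻¹ : V ≃ₗ[ZMod p] V).toLinearMap) (ρ g z) → False := by
    rintro N ⟨x, hx1, hxp, rfl⟩ ⟨t₁, ht₁, h₁⟩ ⟨t₂, ht₂, h₂⟩
    have e1 : t₁ = t := hρ (by ext v; rw [h₁, ht])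
    have e2 : t₂ = g * t * g⁻¹ := hρ (by ext v; rw [h₂, hTg])
    have h4 := mem_zpowers_of_normalizes h2 hx1 hxp (tr_ne_one hf hz0 h₁) (tr_pow hρ hz h₁) ht₁
    have h5 := mem_zpowers_of_normalizes h2 hx1 hxp (tr_ne_one hf' hz0' h₂) (tr_pow hρ hz' h₂) ht₂
    apply hg
    rw [← e2, ← e1, h4, ← h5]
    exact Subgroup.mem_zpowers _
  obtain ⟨g', w', hpl, -, -⟩ := plane_of hρ h3 c1 c2 hz hz' hf hf' hz0 hz0' hT ⟨_, trivial, hTg⟩ c3
  exact ⟨g', w', hpl⟩

end Sylow

end Cfsg.Agent.H765.GL3
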