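import Cfsg.Agent.H765.Beta4

/-!
# Lemma X: extraspecial groups of order `p³` (helper765)
-/

set_option autoImplicit false
set_option linter.unusedSectionVars false
set_option linter.unusedSimpArgs false
set_option linter.unusedVariables false

namespace Cfsg.Agent.H765

open Module Subgroup

universe u

variable {X : Type u} [Group X]

theorem Tau.card_V1 {p : ℕ} [Fact p.Prime] {N E H H0 R V₁ V₂ : Subgroup X} {τ : X} [Finite X]
    (t : Tau p N E H H0 R ⊥ V₁ V₂ τ) (hc : ∀ a ∈ R, ∀ b ∈ R, a * b = b * a) (hR : Nat.card R = p ^ 3) :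
    Nat.card V₁ = p := by
  have hpp : p.Prime := Fact.out
  have hc2 : Nat.card V₂ = p ^ 2 := by have := t.card2; rwa [relIndex_bot_left] at this
  let g : V₁ × V₂ → R := fun x => ⟨(x.1 : X) * x.2, mul_mem (t.le1' x.1.2) (t.le2' x.2.2)⟩
  have hg : Function.Bijective g := by
    constructor
    · rintro ⟨a, b⟩ ⟨c, d⟩ hab
      have h2 : (a : X) * b = c * d := congrArg Subtype.val hab
      have h3 : (c : X)⁻¹ * a = d * (b : X)⁻¹ := by
        rw [eq_mul_inv_iff_mul_eq, mul_assoc, h2, inv_mul_cancel_left]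
      have h4 : (c : X)⁻¹ * a ∈ (⊥ : Subgroup X) := t.inf _ (mul_mem (inv_mem c.2) a.2)
        (by rw [h3]; exact mul_mem d.2 (inv_mem b.2))
      have h5 : (d : X) * (b : X)⁻¹ = 1 := by rw [← h3]; exact mem_bot.1 h4
      rw [mem_bot, inv_mul_eq_one] at h4
      rw [mul_inv_eq_one] at h5
      exact Prod.ext (Subtype.ext h4.symm) (Subtype.ext h5.symm)
    · rintro ⟨v, hv⟩
      obtain ⟨a, ha, b, hb, rfl⟩ := t.sup v hv
      exact ⟨(⟨a, ha⟩, ⟨b, hb⟩), rfl⟩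
  have h2 := Nat.card_congr (Equiv.ofBijective g hg)
  rw [Nat.card_prod, hR, hc2] at h2
  have h3 : Nat.card V₁ * p ^ 2 = p * p ^ 2 := by rw [h2]; ring
  exact Nat.eq_of_mul_eq_mul_right (pow_pos hpp.pos 2) h3

/-- The conclusions of Lemma X. -/
structure LX (p : ℕ) (N E H H0 Z R : Subgroup X) (τ : X) : Prop where
  card : Nat.card R = p ^ 3
  RE : R ≤ E
  nR : H ≤ normalizer (R : Set X)
  npt : ¬ PT p (Lc N H) R Z
  EcsR : E ≤ cs R Z
  pow : ∀ r ∈ R, r ^ p = 1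
  cen : ∀ r ∈ R, (∀ s ∈ R, s * r = r * s) → r ∈ Z
  t0 : τ ∈ H0
  tL : τ ∈ Lc N H ⊔ CE H E
  tp : (orderOf τ).Coprime p
  t2 : ∀ v ∈ R, τ * v * τ⁻¹ * v ∈ Z
  tN : τ ∈ cs N E

theorem Par.lemX {p : ℕ} [Fact p.Prime] [Finite X] (hp2 : p ≠ 2) {N E H H0 Z M : Subgroup X} (h : Par p N E H H0)
    (hr : SR p N) (nZ : H ≤ normalizer (Z : Set X)) (hNZ : N ≤ cs Z ⊥) (hZc : Nat.card Z = p) (hZM : Z ≤ M)
    (hME : M ≤ E) (hMc : Nat.card M = p ^ 2) (hNM : N ≤ cs M Z) (hMp : ∀ m ∈ M, m ^ p = 1)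
    (nM : H0 ≤ normalizer (M : Set X)) (hnab : ∃ a ∈ Lc M H, ∃ b ∈ Lc M H, a * b ≠ b * a)
    (hnpt : ¬ PT p (Lc N H) (Lc M H) Z) : ∃ τ, LX p N E H H0 Z (Lc M H) τ := by
  have hpp : p.Prime := Fact.out
  obtain ⟨R, hRdef⟩ : ∃ R, R = Lc M H := ⟨_, rfl⟩
  have hMR : M ≤ R := hRdef ▸ le_Lc M H
  have hRE : R ≤ E := by rw [hRdef]; exact Lc_le.2 fun x hx a ha => conj_mem_of_norm (h.HE hx) (hME ha)
  have nR : H ≤ normalizer (R : Set X) := by rw [hRdef]; exact norm_Lc M H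
  have hRN := hRE.trans h.EN
  have hRp : IsPGroup p R := h.pE.to_le hRE
  have hEN := h.EN
  have hRcs : E ≤ cs R Z := by
    rw [hRdef]
    exact Lc_cs h.HE nZ h.EH ((hME.trans h.EH).trans nZ) (h.EN.trans hNM)
  have hZcen : ∀ m ∈ Z, ∀ e ∈ N, e * m = m * e := fun m hm e he => mem_cs_bot.1 (hNZ he) m hm
  have hZp : ∀ m ∈ Z, m ^ p = 1 := fun m hm => hMp m (hZM hm)
  have hRpow : ∀ u ∈ R, u ^ p = 1 := by
    rw [hRdef]
    refine pow_eq_one_of_gen hp2 (E := E) (by rw [← hRdef]; exact hRE) (by rw [← hRdef]; exact hRcs)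
      (fun m hm e he => hZcen m hm e (hEN he)) hZp hMp
  have hRcomm : ∀ a ∈ R, ∀ b ∈ R, a * b * a⁻¹ * b⁻¹ ∈ Z := fun a ha b hb => (hRcs (hRE ha)).2 b hb
  have hZR := hZM.trans hMR
  have hsRZ : Sct p H R Z := ⟨hZR, nR, nZ, (hRE.trans h.EH).trans nZ, hRcomm,
    fun a ha => by rw [hRpow a ha]; exact one_mem _⟩
  rw [← hRdef] at hnab hnpt ⊢
  -- the centre
  obtain ⟨C, hC⟩ : ∃ C, C = R ⊓ centralizer (R : Set X) := ⟨_, rfl⟩
  have hCR : C ≤ R := hC ▸ inf_le_left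
  have hZC : Z ≤ C := by
    rw [hC]
    refine le_inf hZR fun z hz => mem_centralizer_iff.2 fun r hr => hZcen z hz r (hRN hr)
  have nC : H ≤ normalizer (C : Set X) := by rw [hC]; exact norm_inf nR (norm_centralizer nR)
  have hCcomm : ∀ c ∈ C, ∀ r ∈ R, r * c = c * r := fun c hc r hr => by
    rw [hC] at hc; exact mem_centralizer_iff.1 hc.2 r hr
  obtain ⟨a₀, ha₀, b₀, hb₀, hab₀⟩ := hnab
  have ha₀C : a₀ ∉ C := fun hh => hab₀ (hCcomm a₀ hh b₀ hb₀).symm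
  have hRle : Nat.card R ≤ p * p ^ 3 := by
    have := hr.card hZR hRN hRcomm (fun a ha => by rw [hRpow a ha]; exact one_mem _)
    rwa [hZc] at this
  obtain ⟨n, hn⟩ := IsPGroup.iff_card.1 hRp
  have hn4 : n ≤ 4 := by
    rw [hn, ← pow_succ'] at hRle
    exact (Nat.pow_le_pow_iff_right hpp.one_lt).1 hRle
  have hCp : IsPGroup p C := hRp.to_le hCR
  obtain ⟨c, hcc⟩ := IsPGroup.iff_card.1 hCp
  -- `|R / C| ≥ p²`
  have hsup : ∀ x ∈ R, ∀ y ∈ C ⊔ zpowers x, x * y = y * x := by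
    intro x hx y hy
    have : C ⊔ zpowers x ≤ centralizer {x} := sup_zpowers_le.2
      ⟨fun m hm => by rw [mem_centralizer_singleton_iff]; exact (hCcomm m hm x hx).symm,
        by rw [mem_centralizer_singleton_iff]⟩
    have h1 := this hy
    rw [mem_centralizer_singleton_iff] at h1
    exact h1.symm
  have hb₀C : b₀ ∉ C ⊔ zpowers a₀ := fun hh => hab₀ (hsup a₀ ha₀ b₀ hh)
  have g1 := grow hRp hCR ha₀ ha₀C
  have hle1 : C ⊔ zpowers a₀ ≤ R := sup_zpowers_le.2 ⟨hCR, ha₀⟩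
  have g2 := grow hRp hle1 hb₀ hb₀C
  have hf : Finite (C ⊔ zpowers a₀ ⊔ zpowers b₀ : Subgroup X) := inferInstance
  have g3 : Nat.card (C ⊔ zpowers a₀ ⊔ zpowers b₀ : Subgroup X) ≤ Nat.card R :=
    Nat.card_le_card_of_injective _ (inclusion_injective (sup_zpowers_le.2 ⟨hle1, hb₀⟩))
  have hcn : c + 2 ≤ n := by
    have h1 : p ^ (c + 2) ≤ p ^ n := by
      calc p ^ (c + 2) = Nat.card C * p * p := by rw [hcc]; ring
        _ ≤ Nat.card (C ⊔ zpowers a₀ : Subgroup X) * p := Nat.mul_le_mul_right _ g1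
        _ ≤ Nat.card R := g2.trans g3
        _ = p ^ n := hn
    exact (Nat.pow_le_pow_iff_right hpp.one_lt).1 h1
  -- `|R / C| ≤ p²`
  have hcn' : n ≤ c + 2 := by
    by_contra hlt
    have hc1 : 1 ≤ c := by
      have : Nat.card Z ≤ Nat.card C := Nat.card_le_card_of_injective _ (inclusion_injective hZC)
      rw [hZc, hcc] at this
      by_contra h0
      have h0' : c = 0 := by omega
      rw [h0', pow_zero] at this
      exact absurd this (not_le.2 hpp.one_lt)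
    have hn4' : n = 4 := by omega
    have hc1' : c = 1 := by omega
    obtain ⟨x, hx, hxZ, hxR⟩ := exists_rad (M₀ := ⊥) hRp bot_le hZR (by rw [card_bot, one_mul, hZc])
      (by rw [hn, hn4', hZc]; ring) (norm_bot R) hsRZ.n12 hRcomm (fun a ha m hm => by
        rw [mem_bot, hZcen m hm a (hRN ha)]; group) (fun a ha => by rw [hRpow a ha]; exact one_mem _)
    apply hxZ
    have h1 : Z = C := Subgroup.eq_of_le_of_card_ge hZC (by rw [hcc, hc1', hZc, pow_one])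
    rw [h1, hC]
    refine ⟨hx, mem_centralizer_iff.2 fun r hr => ?_⟩
    have := hxR r hr
    rw [mem_bot, mul_inv_eq_one, mul_inv_eq_iff_eq_mul] at this
    exact this.symm
  have hRC : C.relIndex R = p ^ 2 := by
    have h1 := card_mul_relIndex' hCR
    have hnn : n = c + 2 := by omega
    rw [hcc, hn, hnn, pow_add] at h1
    exact Nat.eq_of_mul_eq_mul_left (pow_pos hpp.pos c) h1
  have hZCi : Z.relIndex C ≤ p := by
    refine relIndex_le_of_card hZC ?_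
    rw [hcc, hZc]
    calc p ^ c ≤ p ^ 2 := Nat.pow_le_pow_right hpp.pos (by omega)
      _ = p * p := pow_two p
  have hCn : C ≤ normalizer (Z : Set X) := hCR.trans hsRZ.n12
  have hLC : Lc N H ≤ cs C Z := Lc_le_cs h.pN hZC hCn (h.LH.trans nC) (h.LH.trans nZ) hCp hZCi
  have hnpt' : ¬ PT p (Lc N H) R C := fun hpt => hnpt (PT.trans hCp hpt (PT.of_cs hLC))
  have hsRC : Sct p H R C := ⟨hCR, nR, nC, (hRE.trans h.EH).trans nC, fun a ha b hb => hZC (hRcomm a ha b hb),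
    fun a ha => by rw [hRpow a ha]; exact one_mem _⟩
  have hEcsC : E ≤ cs R C := fun e he => cs_mono le_rfl hZC (hRcs he) (nC (h.EH he))
  obtain ⟨Z', hZ'2, hZ'1, hZ'c, hZ'N⟩ := h.exists_Z hsRC hRE hRC
  obtain ⟨V₁, V₂, τ, t⟩ := h.exists_tau hp2 hsRC hRE hEcsC
    (by rw [hRC]; exact Nat.pow_le_pow_right hpp.pos (by norm_num)) hnpt' hZ'2 hZ'1 hZ'c hZ'N
  have hV2 : V₂ = R := by
    refine Subgroup.eq_of_le_of_card_ge t.le2' ?_
    have h1 := card_mul_relIndex' t.le2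
    have h2 := card_mul_relIndex' hCR
    rw [t.card2] at h1
    rw [hRC] at h2
    rw [← h1, ← h2]
  have ht2 : ∀ v ∈ R, τ * v * τ⁻¹ * v ∈ C := fun v hv => t.t2 v (hV2 ▸ hv)
  have hτH : τ ∈ H := (sup_le h.LH h.CH) t.tL
  have hτC : τ ∈ cs C Z := h.tau_mem_cs t.tL t.tp (hCR.trans hRE) hZC nC nZ (PT.of_cs hLC)
  -- `J = (L C_H(E)) ∩ cs R C` acts trivially on `R / Z`
  have hJ : (Lc N H ⊔ CE H E) ⊓ cs R C ≤ cs R Z := by
    have hLCH : Lc N H ⊔ CE H E ≤ H := sup_le h.LH h.CH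
    have hCEcs : Lc N H ⊔ CE H E ≤ cs C Z := sup_le hLC (h.le_cs (hCR.trans hRE) hZC)
    have h1 : (Lc N H ⊔ CE H E) ⊓ cs R C ≤ N ⊔ (H ⊓ cs R Z) := by
      refine h.syl' (inf_le_left.trans hLCH) (norm_inf (norm_sup (norm_Lc N H) h.normC) (norm_cs nR nC))
        (le_inf h.CH (h.le_cs hRE hZR)) inf_le_left (norm_inf (norm_self H) (norm_cs nR nZ)) ?_
      intro j hj
      refine ⟨1, pow_mem (hLCH hj.1) _, ?_⟩
      rw [pow_one]
      exact cs_pow_chain hj.2 (hCEcs hj.1) fun s hs => by rw [hRpow s (hCR hs)]; exact one_mem _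
    intro j hj
    obtain ⟨m, hm, d, hd, hmd⟩ := (mem_sup_iff (h.NH.trans (norm_inf (norm_self H) (norm_cs nR nZ)))).1 (h1 hj)
    have h2 : m ∈ cs R C := by
      have e : m = j * d⁻¹ := by rw [← hmd]; group
      rw [e]
      exact mul_mem hj.2 (inv_mem (cs_mono le_rfl hZC hd.2 (nC hd.1)))
    have h3 : m ∈ E := h.not_mem_of_not_pt nR nC hnpt' hm h2
    rw [← hmd]
    exact mul_mem (hRcs h3) hd.2
  have hτR : ∀ v ∈ R, τ * v * τ⁻¹ ∈ R := fun v hv => conj_mem_of_norm (nR hτH) hv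
  have hRZn : ∀ z ∈ Z, ∀ r ∈ R, r * z = z * r := fun z hz r hr => hZcen z hz r (hRN hr)
  -- the inverted elements modulo `Z`
  let A : Subgroup X :=
    { carrier := {r | r ∈ R ∧ τ * r * τ⁻¹ * r ∈ Z}
      one_mem' := ⟨one_mem _, by simp⟩
      mul_mem' := by
        rintro a b ⟨ha, ha'⟩ ⟨hb, hb'⟩
        refine ⟨mul_mem ha hb, ?_⟩
        have h1 := hRcomm _ (hτR b hb) a ha
        have e : τ * (a * b) * τ⁻¹ * (a * b) =
            (τ * a * τ⁻¹) * ((τ * b * τ⁻¹) * a * (τ * b * τ⁻¹)⁻¹ * a⁻¹) * (a * (τ * b * τ⁻¹ * b)) := by group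
        rw [e]
        have e2 : (τ * a * τ⁻¹) * ((τ * b * τ⁻¹) * a * (τ * b * τ⁻¹)⁻¹ * a⁻¹) * (a * (τ * b * τ⁻¹ * b)) =
          ((τ * b * τ⁻¹) * a * (τ * b * τ⁻¹)⁻¹ * a⁻¹) * (τ * a * τ⁻¹ * a) * (τ * b * τ⁻¹ * b) := by
          rw [hRZn _ h1 _ (hτR a ha)]
          group
        rw [e2]
        exact mul_mem (mul_mem h1 ha') hb'
      inv_mem' := by
        rintro a ⟨ha, ha'⟩
        refine ⟨inv_mem ha, ?_⟩
        have e : τ * a⁻¹ * τ⁻¹ * a⁻¹ = (a * (τ * a * τ⁻¹))⁻¹ := by group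
        rw [e]
        refine inv_mem ?_
        have e2 : a * (τ * a * τ⁻¹) = a * (τ * a * τ⁻¹ * a) * a⁻¹ := by group
        rw [e2, hRZn _ ha' a ha, mul_inv_cancel_right]
        exact ha' }
  have hAR : A ≤ R := fun _ ha => ha.1
  have nA : H ≤ normalizer (A : Set X) := by
    refine le_norm_of ?_
    rintro x hx a ⟨ha, ha'⟩
    refine ⟨conj_mem_of_norm (nR hx) ha, ?_⟩
    obtain ⟨g, hg⟩ : ∃ g, g = x⁻¹ * τ * x * τ⁻¹ := ⟨_, rfl⟩
    have hgL : g ∈ Lc N H ⊔ CE H E := by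
      rw [hg]
      refine mul_mem ?_ (inv_mem t.tL)
      have := conj_mem_of_norm (norm_sup (norm_Lc N H) h.normC (inv_mem hx)) t.tL
      rwa [inv_inv] at this
    have hgC : g ∈ cs R C := by
      refine ⟨nC (by rw [hg]; exact mul_mem (mul_mem (mul_mem (inv_mem hx) hτH) hx) (inv_mem hτH)), fun r hr => ?_⟩
      have hr1 : τ⁻¹ * r * τ ∈ R := by
        have := conj_mem_of_norm (nR (inv_mem hτH)) hr
        rwa [inv_inv] at this
      have hr2 : x * (τ⁻¹ * r * τ) * x⁻¹ ∈ R := conj_mem_of_norm (nR hx) hr1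
      have h1 := ht2 _ hr2
      have h2 := conj_mem_of_norm (nC (inv_mem hx)) h1
      have h3 := ht2 _ hr1
      have e : g * r * g⁻¹ * r⁻¹ = (x⁻¹ * (τ * (x * (τ⁻¹ * r * τ) * x⁻¹) * τ⁻¹ * (x * (τ⁻¹ * r * τ) * x⁻¹)) * x⁻¹⁻¹) *
          (τ * (τ⁻¹ * r * τ) * τ⁻¹ * (τ⁻¹ * r * τ))⁻¹ := by
        rw [hg]; group
      rw [e]
      exact mul_mem h2 (inv_mem h3)
    have hgZ : g ∈ cs R Z := hJ ⟨hgL, hgC⟩
    have h1 := hgZ.2 _ (hτR a ha)
    have h2 := conj_mem_of_norm (nZ hx) (mul_mem h1 ha')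
    have e : x * (g * (τ * a * τ⁻¹) * g⁻¹ * (τ * a * τ⁻¹)⁻¹ * (τ * a * τ⁻¹ * a)) * x⁻¹ =
      τ * (x * a * x⁻¹) * τ⁻¹ * (x * a * x⁻¹) := by rw [hg]; group
    rwa [e] at h2
  have hMC : ¬ M ≤ C := by
    intro hle
    have h1 : R ≤ C := by
      rw [hRdef, Lc_le]
      exact fun x hx a ha => conj_mem_of_norm (nC hx) (hle ha)
    exact ha₀C (h1 ha₀)
  have hMCZ : ∀ m ∈ M, m ∈ C → m ∈ Z := by
    have hMp' : IsPGroup p M := h.pE.to_le hME
    have h1 := card_mul_p_le hMp' (inf_le_left : M ⊓ C ≤ M) (fun hh => hMC (hh.trans inf_le_right))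
    rw [hMc, pow_two] at h1
    have h2 := Nat.le_of_mul_le_mul_right h1 hpp.pos
    have h3 : Z = M ⊓ C := Subgroup.eq_of_le_of_card_ge (le_inf hZM hZC) (by rw [hZc]; exact h2)
    intro m hm hmC
    rw [h3]
    exact ⟨hm, hmC⟩
  have hMA : M ≤ A := fun m hm => ⟨hMR hm, hMCZ _ (mul_mem (conj_mem_of_norm (nM t.t0) hm) hm) (ht2 m (hMR hm))⟩
  have hRA : R ≤ A := by
    rw [hRdef, Lc_le]
    exact fun x hx a ha => conj_mem_of_norm (nA hx) (hMA ha)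
  -- `C = Z`
  have hCZ : C ≤ Z := by
    intro r hr
    have h1 := (hRA (hCR hr)).2
    have h2 := hτC.2 r hr
    have h3 := mul_mem (inv_mem h2) h1
    have e : (τ * r * τ⁻¹ * r⁻¹)⁻¹ * (τ * r * τ⁻¹ * r) = r * r := by group
    rw [e] at h3
    obtain ⟨k, hk⟩ := hpp.odd_of_ne_two hp2
    have h4 : r ^ p = 1 := hRpow r (hCR hr)
    have h5 : (r * r) ^ (k + 1) = r := by
      rw [← pow_two, ← pow_mul]
      have : 2 * (k + 1) = p + 1 := by omega
      rw [this, pow_succ, h4, one_mul]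
    rw [← h5]
    exact pow_mem h3 _
  have hCeq : C = Z := le_antisymm hCZ hZC
  refine ⟨τ, ?_, hRE, nR, hnpt, hRcs, hRpow, ?_, t.t0, t.tL, t.tp, ?_, t.tN⟩
  · have h1 := card_mul_relIndex' hCR
    rw [hRC, hCeq, hZc] at h1
    rw [← h1]; ring
  · intro r hr hrc
    rw [← hCeq, hC]
    exact ⟨hr, mem_centralizer_iff.2 hrc⟩
  · intro v hv
    rw [← hCeq]
    exact ht2 v hv

end Cfsg.Agent.H765
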