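import Cfsg.Agent.H765.Quo

/-!
# One configuration whose `E` is not invariant under `H0` (helper765)
-/

set_option autoImplicit false
set_option linter.unusedSectionVars false
set_option linter.unusedSimpArgs false
set_option linter.unusedVariables false

namespace Cfsg.Agent.H765

open Module Subgroup

universe u

variable {X : Type u} [Group X]

/-- the conjugate -/
def cj (g : X) (A : Subgroup X) : Subgroup X := A.map (MulAut.conj g).toMonoidHom

theorem mem_cj {g x : X} {A : Subgroup X} : x ∈ cj g A ↔ g⁻¹ * x * g ∈ A := by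
  constructor
  · rintro ⟨a, ha, rfl⟩
    have : g⁻¹ * ((MulAut.conj g).toMonoidHom a) * g = a := by
      show g⁻¹ * (g * a * g⁻¹) * g = a
      group
    rw [this]
    exact ha
  · intro h
    refine ⟨_, h, ?_⟩
    show g * (g⁻¹ * x * g) * g⁻¹ = x
    group

theorem conj_mem_cj {g x : X} {A : Subgroup X} (hx : x ∈ A) : g * x * g⁻¹ ∈ cj g A := ⟨x, hx, rfl⟩

theorem cj_eq {g : X} {A : Subgroup X} (hg : g ∈ normalizer (A : Set X)) : cj g A = A := by
  ext x
  rw [mem_cj]
  have := mem_normalizer_iff.1 hg (g⁻¹ * x * g)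
  rw [this]
  have e : g * (g⁻¹ * x * g) * g⁻¹ = x := by group
  rw [e]

theorem mem_norm_of_cj {g : X} {A : Subgroup X} (hg : cj g A = A) : g ∈ normalizer (A : Set X) := by
  rw [mem_normalizer_iff]
  intro x
  constructor
  · intro hx
    rw [← hg]
    exact conj_mem_cj hx
  · intro hx
    rw [← hg, mem_cj] at hx
    have e : g⁻¹ * (g * x * g⁻¹) * g = x := by group
    rwa [e] at hx

theorem cj_mono {g : X} {A B : Subgroup X} (h : A ≤ B) : cj g A ≤ cj g B := map_mono h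

theorem cj_card {g : X} {A : Subgroup X} : Nat.card (cj g A) = Nat.card A :=
  Nat.card_congr (A.equivMapOfInjective _ (MulAut.conj g).injective).toEquiv.symm

theorem Fr_map {X' : Type*} [Group X'] (f : X →* X') {p : ℕ} {A : Subgroup X} : Fr p (A.map f) = (Fr p A).map f := by
  apply le_antisymm
  · rw [Fr_le_iff]
    constructor
    · rintro _ ⟨a, ha, rfl⟩ _ ⟨b, hb, rfl⟩
      exact ⟨_, comm_mem_Fr ha hb, by rw [map_mul, map_mul, map_mul, map_inv, map_inv]⟩
    · rintro _ ⟨a, ha, rfl⟩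
      exact ⟨_, pow_mem_Fr ha, by rw [map_pow]⟩
  · rw [map_le_iff_le_comap, Fr_le_iff]
    constructor
    · intro a ha b hb
      rw [mem_comap, map_mul, map_mul, map_mul, map_inv, map_inv]
      exact comm_mem_Fr ⟨a, ha, rfl⟩ ⟨b, hb, rfl⟩
    · intro a ha
      rw [mem_comap, map_pow]
      exact pow_mem_Fr ⟨a, ha, rfl⟩

section

variable {p : ℕ} [Fact p.Prime] [Finite X] {N E H H0 : Subgroup X}

theorem conj_ker (g : X) (A : Subgroup X) : (MulAut.conj g).toMonoidHom.ker ≤ A := by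
  intro x hx
  have h1 : MulAut.conj g x = 1 := hx
  have h2 : x = 1 := (MulAut.conj g).injective (by rw [h1, map_one])
  rw [h2]
  exact one_mem _

theorem Par.conj (h : Par p N E H H0) {g : X} (hg : g ∈ H0) : Par p N (cj g E) (cj g H) H0 := by
  have h1 := h.map (MulAut.conj g).toMonoidHom (MulAut.conj g).surjective (conj_ker g E)
  have h2 : cj g N = N := cj_eq (h.H0N hg)
  have h3 : cj g H0 = H0 := cj_eq (norm_self H0 hg)
  unfold cj at h2 h3 ⊢
  rwa [h2, h3] at h1

theorem cj_bot (g : X) : cj g (⊥ : Subgroup X) = ⊥ := Subgroup.map_bot _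

theorem Lc_cj {N H : Subgroup X} {g : X} : Lc (cj g N) (cj g H) = cj g (Lc N H) := Lc_map _

theorem PT_cj {g : X} {J R₁ R₂ : Subgroup X} : PT p (cj g J) (cj g R₁) (cj g R₂) ↔ PT p J R₁ R₂ :=
  PT_map _ (MulAut.conj g).surjective (conj_ker g R₂)

theorem cj_inv_cj (g : X) (A : Subgroup X) : cj g⁻¹ (cj g A) = A := by
  ext x
  rw [mem_cj, mem_cj]
  have e : g⁻¹ * (g⁻¹⁻¹ * x * g⁻¹) * g = x := by group
  rw [e]

theorem cj_cj (g k : X) (A : Subgroup X) : cj g (cj k A) = cj (g * k) A := by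
  ext x
  rw [mem_cj, mem_cj, mem_cj]
  have e : k⁻¹ * (g⁻¹ * x * g) * k = (g * k)⁻¹ * x * (g * k) := by group
  rw [e]

theorem cj_norm {g : X} {A B : Subgroup X} (hAB : A ≤ normalizer (B : Set X)) :
    cj g A ≤ normalizer ((cj g B : Subgroup X) : Set X) := norm_map _ hAB

theorem N_ne_bot (h : Par p N E H H0) : N ≠ ⊥ := by
  have hpp : p.Prime := Fact.out
  rintro h0
  have := h.ix
  rw [h0, relIndex_bot_right] at this
  exact hpp.one_lt.ne this

/-- The centre is moved if the core is trivial. -/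
theorem Par.Om_moved (h : Par p N E H H0) (np : ¬ PT p (Lc N H) E ⊥)
    (K1 : ∀ R ≤ E, H ≤ normalizer (R : Set X) → H0 ≤ normalizer (R : Set X) → R = ⊥) :
    ¬ H ≤ normalizer (Om p N : Set X) := fun hn =>
  Om_ne_bot h.pN (N_ne_bot h) (K1 _ (h.Om_le_E np) hn (Om_norm h.H0N))

/-- **`E` is elementary abelian** if the core is trivial and `E` is not `H0`-invariant. -/
theorem Par.pu_EA (hp2 : p ≠ 2) (h : Par p N E H H0) (np : ¬ PT p (Lc N H) E ⊥) (sr : SR p N)
    (nn : ¬ H0 ≤ normalizer (E : Set X))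
    (K1 : ∀ R ≤ E, H ≤ normalizer (R : Set X) → H0 ≤ normalizer (R : Set X) → R = ⊥) : EA p E := by
  have hZ := h.Om_moved np K1
  have c := h.cm_Om np hZ
  apply EA_of_Fr
  refine K1 _ (Fr_le p E) (norm_Fr h.HE) ?_
  intro g hg
  apply mem_norm_of_cj
  by_cases hgE : cj g E = E
  · have h1 : cj g (Fr p E) = Fr p (cj g E) := (Fr_map _).symm
    rw [h1, hgE]
  · have h' := h.conj hg
    have hN : cj g N = N := cj_eq (h.H0N hg)
    have hO : cj g (Om p N) = Om p N := cj_eq (Om_norm h.H0N hg)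
    have np' : ¬ PT p (Lc N (cj g H)) (cj g E) ⊥ := by
      intro hpt
      apply np
      rw [← PT_cj (g := g), ← Lc_cj, hN, cj_bot]
      exact hpt
    have hZ' : ¬ cj g H ≤ normalizer (Om p N : Set X) := by
      intro hn
      apply hZ
      have h1 := cj_norm (g := g⁻¹) hn
      rw [cj_inv_cj] at h1
      rwa [cj_eq (Om_norm h.H0N (inv_mem hg))] at h1
    have c' := h'.cm_Om np' hZ'
    have b1 := lemBeta hp2 h h' sr (Ne.symm hgE) c c'
    have b2 := lemBeta hp2 h' h sr hgE c' c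
    have e1 := Fr_eq h h' c b1
    have e2 := Fr_eq h' h c' b2
    have h1 : cj g (Fr p E) = Fr p (cj g E) := (Fr_map _).symm
    rw [h1, e2, e1, inf_comm]

theorem EA.card_E (h : Par p N E H H0) (ea : EA p E) (np : ¬ PT p (Lc N H) E ⊥) (sr : SR p N) :
    Nat.card E = p ^ 2 ∨ Nat.card E = p ^ 3 := by
  have c : CM p N E H E := ⟨le_rfl, fun m hm e he => ea.comm e he m hm, ea.pow, h.HE, np⟩
  exact c.card_eq h sr

/-- The case where `N` is Sylow. -/
theorem Par.pu_top (hp2 : p ≠ 2) (h : Par p N E H H0) (np : ¬ PT p (Lc N H) E ⊥) (sr : SR p N)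
    (nn : ¬ H0 ≤ normalizer (E : Set X)) (top : Top p N H0)
    (K1 : ∀ R ≤ E, H ≤ normalizer (R : Set X) → H0 ≤ normalizer (R : Set X) → R = ⊥) :
    EA p E ∧ Nat.card E = p ^ 2 := by
  have ea := h.pu_EA hp2 np sr nn K1
  refine ⟨ea, ?_⟩
  rcases ea.card_E h np sr with h1 | h1
  · exact h1
  exfalso
  -- the fixed points of `L`
  let F : Subgroup X :=
    { carrier := {v | v ∈ E ∧ ∀ l ∈ Lc N H, l * v = v * l}
      one_mem' := ⟨one_mem _, fun l _ => by rw [mul_one, one_mul]⟩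
      mul_mem' := by
        rintro a b ⟨ha, ha'⟩ ⟨hb, hb'⟩
        exact ⟨mul_mem ha hb, fun l hl => by rw [← mul_assoc, ha' l hl, mul_assoc, hb' l hl, mul_assoc]⟩
      inv_mem' := by
        rintro a ⟨ha, ha'⟩
        refine ⟨inv_mem ha, fun l hl => ?_⟩
        have h2 : Commute l a := ha' l hl
        exact h2.inv_right.eq }
  have hFm : ∀ v, v ∈ F ↔ v ∈ E ∧ ∀ l ∈ Lc N H, l * v = v * l := fun v => Iff.rfl
  have nF : H ≤ normalizer (F : Set X) := by
    refine le_norm_of fun x hx a ha => ?_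
    rw [hFm] at ha ⊢
    refine ⟨conj_mem_of_norm (h.HE hx) ha.1, fun l hl => ?_⟩
    have h2 := ha.2 (x⁻¹ * l * x⁻¹⁻¹) (conj_mem_of_norm (norm_Lc N H (inv_mem hx)) hl)
    rw [inv_inv] at h2
    calc l * (x * a * x⁻¹) = x * (x⁻¹ * l * x * a) * x⁻¹ := by group
      _ = x * (a * (x⁻¹ * l * x)) * x⁻¹ := by rw [h2]
      _ = _ := by group
  -- moved conjugates
  have key : ∀ g ∈ H0, cj g E ≠ E → F ≤ cj g F := by
    intro g hg hgE
    have h' := h.conj hg
    have hN : cj g N = N := cj_eq (h.H0N hg)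
    have np' : ¬ PT p (Lc N (cj g H)) (cj g E) ⊥ := by
      intro hpt
      apply np
      rw [← PT_cj (g := g), ← Lc_cj, hN, cj_bot]
      exact hpt
    have ea' : EA p (cj g E) := by
      constructor
      · rintro _ ⟨a, ha, rfl⟩ _ ⟨b, hb, rfl⟩
        rw [← map_mul, ← map_mul, ea.comm a ha b hb]
      · rintro _ ⟨a, ha, rfl⟩
        rw [← map_pow, ea.pow a ha, map_one]
    obtain ⟨k1, -⟩ := cenL_le hp2 h h' top (Ne.symm hgE) np np' ea ea' h1
    intro v hv
    rw [hFm] at hv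
    obtain ⟨k2, k3⟩ := k1 v hv.1 hv.2
    rw [mem_cj, hFm]
    refine ⟨mem_cj.1 k2, fun l hl => ?_⟩
    have k4 : g * l * g⁻¹ ∈ Lc N (cj g H) := by
      have := conj_mem_cj (g := g) hl
      rwa [← Lc_cj, hN] at this
    have k5 := k3 _ k4
    calc l * (g⁻¹ * v * g) = g⁻¹ * (g * l * g⁻¹ * v) * g := by group
      _ = g⁻¹ * (v * (g * l * g⁻¹)) * g := by rw [k5]
      _ = _ := by group
  obtain ⟨k, hk, hkE⟩ : ∃ k ∈ H0, cj k E ≠ E := by
    by_contra hno
    push Not at hno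
    exact nn fun g hg => mem_norm_of_cj (hno g hg)
  have keyeq : ∀ g ∈ H0, cj g E ≠ E → cj g F = F := fun g hg hgE =>
    (Subgroup.eq_of_le_of_card_ge (key g hg hgE) cj_card.le).symm
  have nF0 : H0 ≤ normalizer (F : Set X) := by
    intro g hg
    apply mem_norm_of_cj
    by_cases hgE : cj g E = E
    · have h2 : cj (k * g) E ≠ E := by rw [← cj_cj, hgE]; exact hkE
      have h3 := keyeq _ (mul_mem hk hg) h2
      have h4 := keyeq k hk hkE
      rw [← cj_cj] at h3
      have h5 : cj k⁻¹ (cj k (cj g F)) = cj k⁻¹ (cj k F) := by rw [h3, h4]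
      rwa [cj_inv_cj, cj_inv_cj] at h5
    · exact keyeq g hg hgE
  have hF0 := K1 F (fun v hv => ((hFm v).1 hv).1) nF nF0
  have h' := h.conj hk
  have hN : cj k N = N := cj_eq (h.H0N hk)
  have np' : ¬ PT p (Lc N (cj k H)) (cj k E) ⊥ := by
    intro hpt
    apply np
    rw [← PT_cj (g := k), ← Lc_cj, hN, cj_bot]
    exact hpt
  have ea' : EA p (cj k E) := by
    constructor
    · rintro _ ⟨a, ha, rfl⟩ _ ⟨b, hb, rfl⟩
      rw [← map_mul, ← map_mul, ea.comm a ha b hb]
    · rintro _ ⟨a, ha, rfl⟩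
      rw [← map_pow, ea.pow a ha, map_one]
  obtain ⟨-, v, hvE, hv1, hvL⟩ := cenL_le hp2 h h' top (Ne.symm hkE) np np' ea ea' h1
  have h2 : v ∈ F := (hFm v).2 ⟨hvE, hvL⟩
  rw [hF0, mem_bot] at h2
  exact hv1 h2

end

end Cfsg.Agent.H765
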