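import Cfsg.Agent.H765.Sec

/-!
# Parabolic-type configurations (helper765)

`Par p N E H H0`: `N` a `p`-group, `E ≤ N` of index `p`, `H` acting on `E` with `N` Sylow modulo `C_H(E)`, and the
elements of `H` normalizing `N` modulo `C_H(E)` are in `H0` up to `C_H(E)`.
-/

set_option autoImplicit false
set_option linter.unusedSectionVars false
set_option linter.unusedSimpArgs false
set_option linter.unusedVariables false

namespace Cfsg.Agent.H765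

open Module Subgroup

universe u

variable {X : Type u} [Group X]

/-- Membership in a join with a normalized subgroup. -/
theorem mem_sup_iff {A B : Subgroup X} (h : A ≤ normalizer (B : Set X)) {x : X} :
    x ∈ A ⊔ B ↔ ∃ a ∈ A, ∃ b ∈ B, a * b = x := by
  constructor
  · intro hx
    have : x ∈ ((A ⊔ B : Subgroup X) : Set X) := hx
    rw [Subgroup.coe_mul_of_left_le_normalizer_right A B h] at this
    obtain ⟨a, ha, b, hb, hab⟩ := this
    exact ⟨a, ha, b, hb, hab⟩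
  · rintro ⟨a, ha, b, hb, rfl⟩
    exact mul_mem (mem_sup_left ha) (mem_sup_right hb)

theorem le_norm_of {H R : Subgroup X} (h : ∀ x ∈ H, ∀ a ∈ R, x * a * x⁻¹ ∈ R) :
    H ≤ normalizer (R : Set X) := by
  intro x hx
  rw [mem_normalizer_iff]
  intro a
  refine ⟨h x hx a, fun ha => ?_⟩
  have := h x⁻¹ (inv_mem hx) _ ha
  have e : x⁻¹ * (x * a * x⁻¹) * x⁻¹⁻¹ = a := by group
  rwa [e] at this

theorem norm_sup {H A B : Subgroup X} (hA : H ≤ normalizer (A : Set X)) (hB : H ≤ normalizer (B : Set X)) :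
    H ≤ normalizer ((A ⊔ B : Subgroup X) : Set X) := by
  refine le_norm_of fun x hx a ha => ?_
  have h1 : A ⊔ B ≤ (A ⊔ B).comap (MulAut.conj x).toMonoidHom := by
    refine sup_le ?_ ?_
    · intro y hy
      exact mem_sup_left (conj_mem_of_norm (hA hx) hy)
    · intro y hy
      exact mem_sup_right (conj_mem_of_norm (hB hx) hy)
  exact h1 ha

theorem norm_inf {H A B : Subgroup X} (hA : H ≤ normalizer (A : Set X)) (hB : H ≤ normalizer (B : Set X)) :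
    H ≤ normalizer ((A ⊓ B : Subgroup X) : Set X) :=
  le_norm_of fun x hx a ha => ⟨conj_mem_of_norm (hA hx) ha.1, conj_mem_of_norm (hB hx) ha.2⟩

theorem norm_self (H : Subgroup X) : H ≤ normalizer (H : Set X) := le_normalizer

theorem norm_bot (H : Subgroup X) : H ≤ normalizer ((⊥ : Subgroup X) : Set X) :=
  le_norm_of fun x _ a ha => by rw [mem_bot] at ha ⊢; rw [ha]; group

theorem cs_conj {H R₁ R₂ : Subgroup X} (h1 : H ≤ normalizer (R₁ : Set X)) (h2 : H ≤ normalizer (R₂ : Set X))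
    {h x : X} (hh : h ∈ H) (hx : x ∈ cs R₁ R₂) : h * x * h⁻¹ ∈ cs R₁ R₂ := by
  refine ⟨mul_mem (mul_mem (h2 hh) hx.1) (inv_mem (h2 hh)), fun r hr => ?_⟩
  have h3 := hx.2 _ (conj_mem_of_norm (inv_mem (h1 hh)) hr)
  have h4 := conj_mem_of_norm (h2 hh) h3
  have e : h * (x * (h⁻¹ * r * h⁻¹⁻¹) * x⁻¹ * (h⁻¹ * r * h⁻¹⁻¹)⁻¹) * h⁻¹ =
    h * x * h⁻¹ * r * (h * x * h⁻¹)⁻¹ * r⁻¹ := by group
  rwa [e] at h4

theorem norm_cs {H R₁ R₂ : Subgroup X} (h1 : H ≤ normalizer (R₁ : Set X)) (h2 : H ≤ normalizer (R₂ : Set X)) :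
    H ≤ normalizer (cs R₁ R₂ : Set X) := le_norm_of fun x hx a ha => cs_conj h1 h2 hx ha

theorem norm_centralizer {H R : Subgroup X} (h : H ≤ normalizer (R : Set X)) :
    H ≤ normalizer (centralizer (R : Set X) : Set X) := by
  refine le_norm_of fun x hx a ha => ?_
  rw [mem_centralizer_iff] at ha ⊢
  intro r hr
  have h1 := ha _ (conj_mem_of_norm (inv_mem (h hx)) hr)
  have e : r * (x * a * x⁻¹) = x * ((x⁻¹ * r * x⁻¹⁻¹) * a) * x⁻¹ := by group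
  rw [e, h1]
  group

/-- `J` acts on `R₁ / R₂` as a `p`-group. -/
def PT (p : ℕ) (J R₁ R₂ : Subgroup X) : Prop := ∀ j ∈ J, ∃ k : ℕ, j ^ p ^ k ∈ cs R₁ R₂

theorem PT.mono {p : ℕ} {J J' R₁ R₂ : Subgroup X} (h : PT p J R₁ R₂) (hJ : J' ≤ J) : PT p J' R₁ R₂ :=
  fun j hj => h j (hJ hj)

theorem pow_dvd_mem {A : Subgroup X} {g : X} {n m : ℕ} (h : g ^ n ∈ A) (hd : n ∣ m) : g ^ m ∈ A := by
  obtain ⟨c, rfl⟩ := hd
  rw [pow_mul]
  exact pow_mem h c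

/-- smaller sections above -/
theorem cs_mono {R₁ R₂ R₁' R₂' : Subgroup X} (h1 : R₁' ≤ R₁) (h2 : R₂ ≤ R₂') {x : X} (hx : x ∈ cs R₁ R₂)
    (hn : x ∈ normalizer (R₂' : Set X)) : x ∈ cs R₁' R₂' :=
  ⟨hn, fun r hr => h2 (hx.2 r (h1 hr))⟩

theorem PT.section {p : ℕ} {J R₁ R₂ R₁' R₂' : Subgroup X} (h : PT p J R₁ R₂) (h1 : R₁' ≤ R₁) (h2 : R₂ ≤ R₂')
    (hn : J ≤ normalizer (R₂' : Set X)) : PT p J R₁' R₂' := by
  intro j hj
  obtain ⟨k, hk⟩ := h j hj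
  exact ⟨k, cs_mono h1 h2 hk (pow_mem (hn hj) _)⟩

/-- An element trivial on `R₁ / R₂` and on `R₂ / R₃`: its power is trivial on `R₁ / R₃`. -/
theorem cs_pow_chain {R₁ R₂ R₃ : Subgroup X} {g : X} (h1 : g ∈ cs R₁ R₂) (h2 : g ∈ cs R₂ R₃) {n : ℕ}
    (hn : ∀ s ∈ R₂, s ^ n ∈ R₃) : g ^ n ∈ cs R₁ R₃ := by
  refine ⟨pow_mem h2.1 n, fun r hr => ?_⟩
  obtain ⟨s, hs⟩ : ∃ s, s = g * r * g⁻¹ * r⁻¹ := ⟨_, rfl⟩
  have hsR : s ∈ R₂ := hs ▸ h1.2 r hr
  have key : ∀ m : ℕ, g ^ m * r * (g ^ m)⁻¹ * r⁻¹ * (s ^ m)⁻¹ ∈ R₃ := by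
    intro m
    induction m with
    | zero => simp
    | succ m ih =>
      have h3 := conj_mem_of_norm h2.1 ih
      have h4 := h2.2 (s ^ m) (pow_mem hsR m)
      have h5 := mul_mem h3 h4
      have e : g * (g ^ m * r * (g ^ m)⁻¹ * r⁻¹ * (s ^ m)⁻¹) * g⁻¹ * (g * s ^ m * g⁻¹ * (s ^ m)⁻¹) =
          g ^ (m + 1) * r * (g ^ (m + 1))⁻¹ * r⁻¹ * (s ^ (m + 1))⁻¹ := by
        have e1 : (g ^ (m + 1))⁻¹ = (g ^ m)⁻¹ * g⁻¹ := by rw [pow_succ', mul_inv_rev]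
        have e2 : (s ^ (m + 1))⁻¹ = s⁻¹ * (s ^ m)⁻¹ := by rw [pow_succ, mul_inv_rev]
        have e3 : s⁻¹ = r * (g * r⁻¹ * g⁻¹) := by rw [hs]; group
        rw [e1, e2, e3, pow_succ' g m]
        simp only [mul_assoc, inv_mul_cancel_left]
      rw [e] at h5
      exact h5
  have := mul_mem (key n) (hn s hsR)
  rwa [inv_mul_cancel_right] at this

theorem exists_pow_mem {p : ℕ} [Fact p.Prime] {R : Subgroup X} [Finite R] (hR : IsPGroup p R) :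
    ∃ m : ℕ, ∀ s ∈ R, s ^ p ^ m = 1 := by
  obtain ⟨m, hm⟩ := IsPGroup.iff_card.1 hR
  refine ⟨m, fun s hs => ?_⟩
  have := pow_card_eq_one' (G := R) (x := ⟨s, hs⟩)
  rw [hm] at this
  exact congrArg Subtype.val this

theorem PT.trans {p : ℕ} [Fact p.Prime] {J R₁ R₂ R₃ : Subgroup X} [Finite R₂] (hR : IsPGroup p R₂)
    (h1 : PT p J R₁ R₂) (h2 : PT p J R₂ R₃) : PT p J R₁ R₃ := by
  intro j hj
  obtain ⟨k, hk⟩ := h1 j hj
  obtain ⟨l, hl⟩ := h2 j hj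
  obtain ⟨m, hm⟩ := exists_pow_mem hR
  have h3 : j ^ p ^ (k + l) ∈ cs R₁ R₂ := pow_dvd_mem hk (pow_dvd_pow p (by omega))
  have h4 : j ^ p ^ (k + l) ∈ cs R₂ R₃ := pow_dvd_mem hl (pow_dvd_pow p (by omega))
  refine ⟨k + l + m, ?_⟩
  rw [pow_add, pow_mul]
  exact cs_pow_chain h3 h4 fun s hs => by rw [hm s hs]; exact one_mem _

/-- An element of order prime to `p` some `p`-power of which acts trivially acts trivially. -/
theorem mem_cs_of_coprime {p : ℕ} [Fact p.Prime] {R₁ R₂ : Subgroup X} {g : X} (hg : (orderOf g).Coprime p)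
    {k : ℕ} (h : g ^ p ^ k ∈ cs R₁ R₂) : g ∈ cs R₁ R₂ := by
  have hc : (orderOf g).Coprime (p ^ k) := Nat.Coprime.pow_right k hg
  obtain ⟨m, hm⟩ := exists_pow_eq_self_of_coprime (n := p ^ k) hc.symm
  rw [← hm]
  exact pow_mem h m

/-- An element of order prime to `p` trivial on `R₁ / R₂` and on `R₂ / R₃`. -/
theorem cs_trans {p : ℕ} [Fact p.Prime] {R₁ R₂ R₃ : Subgroup X} [Finite R₂] (hR : IsPGroup p R₂) {g : X}
    (hg : (orderOf g).Coprime p) (h1 : g ∈ cs R₁ R₂) (h2 : g ∈ cs R₂ R₃) : g ∈ cs R₁ R₃ := by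
  obtain ⟨m, hm⟩ := exists_pow_mem hR
  exact mem_cs_of_coprime hg (k := m) (cs_pow_chain h1 h2 fun s hs => by rw [hm s hs]; exact one_mem _)

/-- The normal closure of `N` in `H`. -/
def Lc (N H : Subgroup X) : Subgroup X := closure {x | ∃ h ∈ H, ∃ n ∈ N, x = h * n * h⁻¹}

theorem Lc_le {N H K : Subgroup X} : Lc N H ≤ K ↔ ∀ h ∈ H, ∀ n ∈ N, h * n * h⁻¹ ∈ K := by
  rw [Lc, closure_le]
  constructor
  · intro h a ha n hn
    exact h ⟨a, ha, n, hn, rfl⟩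
  · rintro h _ ⟨a, ha, n, hn, rfl⟩
    exact h a ha n hn

theorem conj_mem_Lc {N H : Subgroup X} {h n : X} (hh : h ∈ H) (hn : n ∈ N) : h * n * h⁻¹ ∈ Lc N H :=
  subset_closure ⟨h, hh, n, hn, rfl⟩

theorem le_Lc (N H : Subgroup X) : N ≤ Lc N H := by
  intro n hn
  have := conj_mem_Lc (one_mem H) hn
  simpa using this

theorem Lc_le_self {N H : Subgroup X} (h : N ≤ H) : Lc N H ≤ H :=
  Lc_le.2 fun a ha n hn => mul_mem (mul_mem ha (h hn)) (inv_mem ha)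

theorem norm_Lc (N H : Subgroup X) : H ≤ normalizer (Lc N H : Set X) := by
  refine le_norm_of fun x hx a ha => ?_
  have h1 : Lc N H ≤ (Lc N H).comap (MulAut.conj x).toMonoidHom := by
    rw [Lc_le]
    intro b hb n hn
    rw [mem_comap]
    show x * (b * n * b⁻¹) * x⁻¹ ∈ Lc N H
    have := conj_mem_Lc (mul_mem hx hb) hn
    have e : x * b * n * (x * b)⁻¹ = x * (b * n * b⁻¹) * x⁻¹ := by group
    rwa [e] at this
  exact h1 ha

/-- Sylow's theorem modulo a normal subgroup. -/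
theorem exists_conj [Finite X] {p : ℕ} [Fact p.Prime] {N D B Q : Subgroup X} (hN : IsPGroup p N) (hNB : N ≤ B)
    (hDB : D ≤ B) (hD : B ≤ normalizer (D : Set X)) (hidx : ¬ p ∣ (N ⊔ D).relIndex B) (hQB : Q ≤ B)
    (hQ : ∀ q ∈ Q, ∃ k : ℕ, q ^ p ^ k ∈ D) : ∃ b ∈ B, ∀ q ∈ Q, b * q * b⁻¹ ∈ N ⊔ D := by
  have hn : (D.subgroupOf B).Normal := normal_subgroupOf_of_le_normalizer hD
  let π := QuotientGroup.mk' (D.subgroupOf B)
  have hπ : Function.Surjective π := QuotientGroup.mk'_surjective _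
  have hP : IsPGroup p ((N.subgroupOf B).map π) :=
    (hN.comap_of_injective B.subtype B.subtype_injective).map π
  have hi : ((N.subgroupOf B).map π).index = (N ⊔ D).relIndex B := by
    rw [Subgroup.index_map, MonoidHom.range_eq_top.2 hπ, index_top, mul_one, QuotientGroup.ker_mk',
      ← Subgroup.subgroupOf_sup hNB hDB]
    rfl
  obtain ⟨P, hPeq⟩ : ∃ P : Sylow p (B ⧸ D.subgroupOf B), (P : Subgroup _) = (N.subgroupOf B).map π :=
    ⟨hP.toSylow (by rw [hi]; exact hidx), rfl⟩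
  have hQp : IsPGroup p ((Q.subgroupOf B).map π) := by
    rintro ⟨_, q, hq, rfl⟩
    obtain ⟨k, hk⟩ := hQ q hq
    refine ⟨k, Subtype.ext ?_⟩
    show (π q) ^ p ^ k = 1
    rw [← map_pow]
    show ((q ^ p ^ k : B) : B ⧸ D.subgroupOf B) = 1
    rw [QuotientGroup.eq_one_iff, mem_subgroupOf]
    exact hk
  obtain ⟨R, hR⟩ := hQp.exists_le_sylow
  obtain ⟨g, hg⟩ := MulAction.exists_smul_eq (B ⧸ D.subgroupOf B) R P
  obtain ⟨b, rfl⟩ := hπ g
  refine ⟨b, b.2, fun q hq => ?_⟩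
  have h1 : π (b * ⟨q, hQB hq⟩ * b⁻¹) ∈ (P : Subgroup _) := by
    rw [← hg, Sylow.coe_subgroup_smul]
    refine ⟨π ⟨q, hQB hq⟩, hR ⟨⟨q, hQB hq⟩, hq, rfl⟩, ?_⟩
    rw [map_mul, map_mul, map_inv]
    rfl
  rw [hPeq] at h1
  obtain ⟨n, hnN, hn⟩ := h1
  have h2 : n⁻¹ * (b * ⟨q, hQB hq⟩ * b⁻¹) ∈ D.subgroupOf B := by
    rw [← QuotientGroup.eq_one_iff]
    show π _ = 1
    rw [map_mul, map_inv, hn, inv_mul_cancel]
  rw [mem_subgroupOf] at h2
  have h3 : (b : X) * q * (b : X)⁻¹ = (n : X) * ((n⁻¹ * (b * ⟨q, hQB hq⟩ * b⁻¹) : B) : X) := by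
    push_cast; group
  rw [h3]
  exact mul_mem (mem_sup_left hnN) (mem_sup_right h2)

/-- The kernel of the action of `H` on `E`. -/
def CE (H E : Subgroup X) : Subgroup X := H ⊓ centralizer (E : Set X)

/-- Parabolic-type configuration. -/
structure Par (p : ℕ) (N E H H0 : Subgroup X) : Prop where
  pN : IsPGroup p N
  EN : E ≤ N
  ix : E.relIndex N = p
  NH : N ≤ H
  HE : H ≤ normalizer (E : Set X)
  N0 : N ≤ H0
  H0N : H0 ≤ normalizer (N : Set X)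
  syl : ¬ p ∣ (N ⊔ CE H E).relIndex H
  ext : ∀ x ∈ H, (∀ n ∈ N, x * n * x⁻¹ ∈ N ⊔ CE H E) → ∃ c ∈ CE H E, x * c ∈ H0

namespace Par

variable {p : ℕ} [Fact p.Prime] [Finite X] {N E H H0 : Subgroup X} (h : Par p N E H H0)

include h

theorem pE : IsPGroup p E := h.pN.to_le h.EN

theorem EH : E ≤ H := h.EN.trans h.NH

theorem CH : CE H E ≤ H := inf_le_left

theorem normC : H ≤ normalizer (CE H E : Set X) := norm_inf (norm_self H) (norm_centralizer h.HE)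

theorem NE : N ≤ normalizer (E : Set X) := h.NH.trans h.HE

theorem LH : Lc N H ≤ H := Lc_le_self h.NH

theorem le_cs {R₁ R₂ : Subgroup X} (h1 : R₁ ≤ E) (h2 : R₂ ≤ R₁) : CE H E ≤ cs R₁ R₂ := by
  rintro c ⟨-, hc⟩
  have hcom : ∀ r ∈ E, c * r * c⁻¹ = r := by
    intro r hr
    rw [← mem_centralizer_iff.1 hc r hr]
    group
  refine ⟨?_, fun r hr => by rw [hcom r (h1 hr), mul_inv_cancel]; exact one_mem _⟩
  rw [mem_normalizer_iff]
  intro a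
  constructor
  · intro ha
    rw [hcom a (h1 (h2 ha))]; exact ha
  · intro ha
    have e : a = c⁻¹ * (c * a * c⁻¹) * c := by group
    have h3 := hcom _ (h1 (h2 ha))
    have h4 : c⁻¹ * (c * a * c⁻¹) * c = c * a * c⁻¹ := by
      conv_lhs => rw [← h3]
      group
    rw [e, h4]; exact ha

theorem syl_of {D B : Subgroup X} (hCD : CE H E ≤ D) (hNDB : N ⊔ D ≤ B) (hBH : B ≤ H) :
    ¬ p ∣ (N ⊔ D).relIndex B := by
  intro hdvd
  apply h.syl
  have h1 := Subgroup.relIndex_mul_relIndex (N ⊔ CE H E) (N ⊔ D) H (sup_le_sup_left hCD N) (hNDB.trans hBH)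
  have h2 := Subgroup.relIndex_mul_relIndex (N ⊔ D) B H hNDB hBH
  rw [← h1, ← h2]
  exact Dvd.dvd.mul_left (Dvd.dvd.mul_right hdvd _) _

/-- A normal subgroup `J` of `H` acting as a `p`-group modulo `D` is in `N D`. -/
theorem syl' {J D : Subgroup X} (hJ : J ≤ H) (hJn : H ≤ normalizer (J : Set X)) (hCD : CE H E ≤ D)
    (hDH : D ≤ H) (hD : H ≤ normalizer (D : Set X)) (hJD : ∀ j ∈ J, ∃ k : ℕ, j ^ p ^ k ∈ D) : J ≤ N ⊔ D := by
  obtain ⟨b, hb, hbJ⟩ := exists_conj h.pN h.NH hDH hD (h.syl_of hCD (sup_le h.NH hDH) le_rfl) hJ hJD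
  intro j hj
  have h1 := hbJ _ (conj_mem_of_norm (hJn (inv_mem hb)) hj)
  have e : b * (b⁻¹ * j * b⁻¹⁻¹) * b⁻¹ = j := by group
  rwa [e] at h1

/-- The elements of `H` normalizing `N` modulo the normal subgroup `D` are in `H0` up to `D`. -/
theorem ext' {D : Subgroup X} (hCD : CE H E ≤ D) (hDH : D ≤ H) (hD : H ≤ normalizer (D : Set X)) {x : X}
    (hx : x ∈ H) (hxN : ∀ n ∈ N, x * n * x⁻¹ ∈ N ⊔ D) : ∃ d ∈ D, x * d ∈ H0 := by
  have hB : N ⊔ D ≤ H := sup_le h.NH hDH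
  obtain ⟨b, hb, hbQ⟩ := exists_conj (B := N ⊔ D) (D := CE H E) (Q := N.map (MulAut.conj x).toMonoidHom)
    h.pN le_sup_left (hCD.trans le_sup_right) (hB.trans h.normC)
    (h.syl_of le_rfl (sup_le_sup_left hCD N) hB) (by
      rintro _ ⟨n, hn, rfl⟩
      exact hxN n hn) (by
      rintro _ ⟨n, hn, rfl⟩
      obtain ⟨k, hk⟩ := (h.pN ⟨n, hn⟩)
      refine ⟨k, ?_⟩
      have : n ^ p ^ k = 1 := congrArg Subtype.val hk
      rw [← map_pow, this, map_one]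
      exact one_mem _)
  obtain ⟨n, hn, d, hd, rfl⟩ := (mem_sup_iff (h.NH.trans hD)).1 hb
  have h1 : ∀ m ∈ N, d * x * m * (d * x)⁻¹ ∈ N ⊔ CE H E := by
    intro m hm
    have h2 := hbQ (x * m * x⁻¹) ⟨m, hm, rfl⟩
    have h3 : n⁻¹ ∈ N ⊔ CE H E := inv_mem (mem_sup_left hn)
    have h4 := mul_mem (mul_mem h3 h2) (inv_mem h3)
    have e : n⁻¹ * (n * d * (x * m * x⁻¹) * (n * d)⁻¹) * n⁻¹⁻¹ = d * x * m * (d * x)⁻¹ := by group
    rwa [e] at h4
  obtain ⟨c, hc, hdx⟩ := h.ext (d * x) (mul_mem (hDH hd) hx) h1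
  refine ⟨x⁻¹ * d * x * c, mul_mem ?_ (hCD hc), ?_⟩
  · have := conj_mem_of_norm (hD (inv_mem hx)) hd
    rwa [inv_inv] at this
  · have e : x * (x⁻¹ * d * x * c) = d * x * c := by group
    rw [e]; exact hdx

/-- Frattini. -/
theorem frat : H ≤ (H ⊓ H0) ⊔ (Lc N H ⊔ CE H E) := by
  intro x hx
  obtain ⟨d, hd, hxd⟩ := h.ext' (D := Lc N H ⊔ CE H E) le_sup_right (sup_le h.LH h.CH)
    (norm_sup (norm_Lc N H) h.normC) hx fun n hn => mem_sup_right (mem_sup_left (conj_mem_Lc hx hn))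
  have e : x = (x * d) * d⁻¹ := by group
  rw [e]
  exact mul_mem (mem_sup_left ⟨mul_mem hx ((sup_le h.LH h.CH) hd), hxd⟩) (mem_sup_right (inv_mem hd))

theorem CE_le_norm {R : Subgroup X} (hR : R ≤ E) : CE H E ≤ normalizer (R : Set X) := fun _ hc =>
  (h.le_cs (hR) le_rfl hc).1

/-- An invariance criterion. -/
theorem le_norm {R : Subgroup X} (hR : R ≤ E) (h0 : H ⊓ H0 ≤ normalizer (R : Set X))
    (hL : Lc N H ≤ normalizer (R : Set X)) : H ≤ normalizer (R : Set X) :=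
  h.frat.trans (sup_le h0 (sup_le hL (h.CE_le_norm hR)))

/-- `N = E ⟨y⟩`. -/
theorem le_of_not_mem {y : X} (hy : y ∈ N) (hyE : y ∉ E) {K : Subgroup X} (hK : E ≤ K) (hyK : y ∈ K) :
    N ≤ K := by
  have hpp : p.Prime := Fact.out
  have h1 := Subgroup.relIndex_mul_relIndex E (K ⊓ N) N (le_inf hK h.EN) inf_le_right
  rw [h.ix] at h1
  have h2 : E.relIndex (K ⊓ N) ≠ 1 := by
    rw [Ne, relIndex_eq_one]
    intro hle
    exact hyE (hle ⟨hyK, hy⟩)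
  have h3 : E.relIndex (K ⊓ N) = p := ((Nat.dvd_prime hpp).1 (Dvd.intro _ h1)).resolve_left h2
  rw [h3] at h1
  have h4 : (K ⊓ N).relIndex N = 1 := by
    have := hpp.pos
    exact Nat.eq_of_mul_eq_mul_left this (by rw [h1, mul_one])
  rw [relIndex_eq_one] at h4
  exact fun x hx => (h4 hx).1

/-- **Lemma A**: an element of `N \ E` trivial on an `H`-invariant section. -/
theorem pt_of_mem {R₁ R₂ : Subgroup X} (h1 : H ≤ normalizer (R₁ : Set X)) (h2 : H ≤ normalizer (R₂ : Set X))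
    {y : X} (hy : y ∈ N) (hyE : y ∉ E) (hyc : y ∈ cs R₁ R₂) : PT p (Lc N H) R₁ R₂ := by
  have hD : H ≤ normalizer ((H ⊓ cs R₁ R₂ : Subgroup X) : Set X) := norm_inf (norm_self H) (norm_cs h1 h2)
  have hN : N ≤ E ⊔ (H ⊓ cs R₁ R₂) := h.le_of_not_mem hy hyE le_sup_left (mem_sup_right ⟨h.NH hy, hyc⟩)
  have hL : Lc N H ≤ E ⊔ (H ⊓ cs R₁ R₂) := by
    rw [Lc_le]
    intro x hx n hn
    exact conj_mem_of_norm (norm_sup h.HE hD hx) (hN hn)
  intro l hl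
  obtain ⟨e, he, d, hd, rfl⟩ := (mem_sup_iff (h.EH.trans hD)).1 (hL hl)
  obtain ⟨m, hm⟩ := exists_pow_mem h.pE
  refine ⟨m, ?_⟩
  have key : ∀ n : ℕ, ∃ d' ∈ H ⊓ cs R₁ R₂, (e * d) ^ n = e ^ n * d' := by
    intro n
    induction n with
    | zero => exact ⟨1, one_mem _, by simp⟩
    | succ n ih =>
      obtain ⟨d', hd', ih⟩ := ih
      refine ⟨e⁻¹ * d' * e * d, mul_mem ?_ hd, ?_⟩
      · have := conj_mem_of_norm (hD (inv_mem (h.EH he))) hd'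
        rwa [inv_inv] at this
      · rw [pow_succ, ih, pow_succ]
        group
  obtain ⟨d', hd', e1⟩ := key (p ^ m)
  rw [e1, hm e he, one_mul]
  exact hd'.2

theorem not_mem_of_not_pt {R₁ R₂ : Subgroup X} (h1 : H ≤ normalizer (R₁ : Set X))
    (h2 : H ≤ normalizer (R₂ : Set X)) (hpt : ¬ PT p (Lc N H) R₁ R₂) {y : X} (hy : y ∈ N)
    (hyc : y ∈ cs R₁ R₂) : y ∈ E := by
  by_contra hyE
  exact hpt (h.pt_of_mem h1 h2 hy hyE hyc)

/-- If `L` acts as a `p`-group on the section, then `L ≤ N cs`. -/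
theorem L_le_of_pt {R₁ R₂ : Subgroup X} (hR : R₁ ≤ E) (hR2 : R₂ ≤ R₁) (h1 : H ≤ normalizer (R₁ : Set X))
    (h2 : H ≤ normalizer (R₂ : Set X)) (hpt : PT p (Lc N H) R₁ R₂) : Lc N H ≤ N ⊔ (H ⊓ cs R₁ R₂) := by
  refine h.syl' h.LH (norm_Lc N H) (le_inf h.CH (h.le_cs hR hR2)) inf_le_left
    (norm_inf (norm_self H) (norm_cs h1 h2)) fun j hj => ?_
  obtain ⟨k, hk⟩ := hpt j hj
  exact ⟨k, pow_mem (h.LH hj) _, hk⟩

/-- If `L` acts as a `p`-group on `R₁ / R₂`, every `N`-invariant subgroup between is `L`-invariant. -/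
theorem L_le_norm_of_pt {R₁ R₂ R : Subgroup X} (hR : R₁ ≤ E) (hR2 : R₂ ≤ R₁) (h1 : H ≤ normalizer (R₁ : Set X))
    (h2 : H ≤ normalizer (R₂ : Set X)) (hpt : PT p (Lc N H) R₁ R₂) (hR₂R : R₂ ≤ R) (hRR₁ : R ≤ R₁)
    (hN : N ≤ normalizer (R : Set X)) : Lc N H ≤ normalizer (R : Set X) := by
  refine (h.L_le_of_pt hR hR2 h1 h2 hpt).trans (sup_le hN ?_)
  refine le_norm_of fun x hx a ha => ?_
  have h3 := hR₂R (hx.2.2 a (hRR₁ ha))
  have e : x * a * x⁻¹ = x * a * x⁻¹ * a⁻¹ * a := by group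
  rw [e]
  exact mul_mem h3 ha

theorem le_norm_of_pt {R₁ R₂ R : Subgroup X} (hR : R₁ ≤ E) (hR2 : R₂ ≤ R₁) (h1 : H ≤ normalizer (R₁ : Set X))
    (h2 : H ≤ normalizer (R₂ : Set X)) (hpt : PT p (Lc N H) R₁ R₂) (hR₂R : R₂ ≤ R) (hRR₁ : R ≤ R₁)
    (hN : N ≤ normalizer (R : Set X)) (h0 : H ⊓ H0 ≤ normalizer (R : Set X)) : H ≤ normalizer (R : Set X) :=
  h.le_norm (hRR₁.trans hR) h0 (h.L_le_norm_of_pt hR hR2 h1 h2 hpt hR₂R hRR₁ hN)

end Par

end Cfsg.Agent.H765
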