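import Cfsg.Agent.H765.Par
import Cfsg.Agent.Transfer.PGroupNormal

/-!
# Parabolic-type configurations, II: quotients, chains, sections of order at most `p³` (helper765)
-/

set_option autoImplicit false
set_option linter.unusedSectionVars false
set_option linter.unusedSimpArgs false
set_option linter.unusedVariables false

namespace Cfsg.Agent.H765

open Module Subgroup

universe u

variable {X : Type u} [Group X]

/-- Central elements of order `p` modulo a normal subgroup. -/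
theorem exists_mod_in {p : ℕ} [Fact p.Prime] {N A B : Subgroup X} [Finite N] (hN : IsPGroup p N) (hBN : B ≤ N)
    (hAB : A ≤ B) (hne : ¬ B ≤ A) (nA : N ≤ normalizer (A : Set X)) (nB : N ≤ normalizer (B : Set X)) :
    ∃ x ∈ B, x ∉ A ∧ x ^ p ∈ A ∧ ∀ g ∈ N, g * x * g⁻¹ * x⁻¹ ∈ A := by
  have hA : (A.subgroupOf N).Normal := normal_subgroupOf_of_le_normalizer nA
  have hB : (B.subgroupOf N).Normal := normal_subgroupOf_of_le_normalizer nB
  have hK' : ((B.subgroupOf N).map (QuotientGroup.mk' (A.subgroupOf N))).Normal :=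
    hB.map _ (QuotientGroup.mk'_surjective _)
  have hne' : (B.subgroupOf N).map (QuotientGroup.mk' (A.subgroupOf N)) ≠ ⊥ := by
    intro h
    rw [Subgroup.map_eq_bot_iff, QuotientGroup.ker_mk'] at h
    apply hne
    intro b hb
    have : (⟨b, hBN hb⟩ : N) ∈ A.subgroupOf N := h hb
    exact this
  obtain ⟨z, ⟨x, hx, rfl⟩, hzc, hz⟩ :=
    Cfsg.Agent.Transfer.PGroupNormal.exists_mem_inf_center_orderOf (hN.to_quotient (A.subgroupOf N)) _ hne'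
  refine ⟨x, hx, ?_, ?_, fun g hg => ?_⟩
  · intro h
    have h1 : QuotientGroup.mk' (A.subgroupOf N) x = 1 := (QuotientGroup.eq_one_iff x).mpr h
    rw [h1, orderOf_one] at hz
    exact (Fact.out : p.Prime).one_lt.ne hz
  · have : x ^ p ∈ A.subgroupOf N := by
      rw [← QuotientGroup.eq_one_iff, ← QuotientGroup.mk'_apply, map_pow, ← hz, pow_orderOf_eq_one]
    exact this
  · have : (⟨g, hg⟩ : N) * x * (⟨g, hg⟩ : N)⁻¹ * x⁻¹ ∈ A.subgroupOf N := by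
      rw [← QuotientGroup.eq_one_iff, ← QuotientGroup.mk'_apply]
      have h1 := Subgroup.mem_center_iff.mp hzc (QuotientGroup.mk' (A.subgroupOf N) ⟨g, hg⟩)
      rw [map_mul, map_mul, map_mul, map_inv, map_inv, h1]
      group
    exact this

/-- The elements whose commutator with `x` is in `C`. -/
def sc (x : X) (C : Subgroup X) : Subgroup X where
  carrier := {r | r ∈ normalizer (C : Set X) ∧ x * r * x⁻¹ * r⁻¹ ∈ C}
  one_mem' := ⟨one_mem _, by simp⟩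
  mul_mem' := by
    rintro a b ⟨ha, ha'⟩ ⟨hb, hb'⟩
    refine ⟨mul_mem ha hb, ?_⟩
    have e : x * (a * b) * x⁻¹ * (a * b)⁻¹ = x * a * x⁻¹ * a⁻¹ * (a * (x * b * x⁻¹ * b⁻¹) * a⁻¹) := by group
    rw [e]
    exact mul_mem ha' (conj_mem_of_norm ha hb')
  inv_mem' := by
    rintro a ⟨ha, ha'⟩
    refine ⟨inv_mem ha, ?_⟩
    have e : x * a⁻¹ * x⁻¹ * a⁻¹⁻¹ = a⁻¹ * (x * a * x⁻¹ * a⁻¹)⁻¹ * a⁻¹⁻¹ := by group
    rw [e]
    exact conj_mem_of_norm (inv_mem ha) (inv_mem ha')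

theorem mem_cs_of_le_sc {R C : Subgroup X} {x : X} (hx : x ∈ normalizer (C : Set X)) (h : R ≤ sc x C) :
    x ∈ cs R C := ⟨hx, fun r hr => (h hr).2⟩

theorem Sct.mono {p : ℕ} {H H' R₁ R₂ : Subgroup X} (h : Sct p H R₁ R₂) (hH : H' ≤ H) : Sct p H' R₁ R₂ :=
  ⟨h.le, hH.trans h.n1, hH.trans h.n2, h.n12, h.comm, h.pow⟩

/-- A section of order `p`. -/
theorem Sct.of_relIndex {p : ℕ} [Fact p.Prime] {H R₁ R₂ : Subgroup X} (h21 : R₂ ≤ R₁)
    (h1 : H ≤ normalizer (R₁ : Set X)) (h2 : H ≤ normalizer (R₂ : Set X)) (h12 : R₁ ≤ normalizer (R₂ : Set X))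
    (hc : R₂.relIndex R₁ = p) : Sct p H R₁ R₂ := by
  have hn : (R₂.subgroupOf R₁).Normal := normal_subgroupOf_of_le_normalizer h12
  have hcard : Nat.card (R₁ ⧸ R₂.subgroupOf R₁) = p := hc
  have hcyc : IsCyclic (R₁ ⧸ R₂.subgroupOf R₁) := isCyclic_of_prime_card hcard
  refine ⟨h21, h1, h2, h12, fun a ha b hb => ?_, fun a ha => ?_⟩
  · have h3 : ((⟨a, ha⟩ * ⟨b, hb⟩ * (⟨a, ha⟩ : R₁)⁻¹ * (⟨b, hb⟩ : R₁)⁻¹ : R₁) : R₁ ⧸ R₂.subgroupOf R₁) = 1 := by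
      have h4 : ((⟨a, ha⟩ : R₁) : R₁ ⧸ R₂.subgroupOf R₁) * ((⟨b, hb⟩ : R₁) : R₁ ⧸ R₂.subgroupOf R₁) =
        ((⟨b, hb⟩ : R₁) : R₁ ⧸ R₂.subgroupOf R₁) * ((⟨a, ha⟩ : R₁) : R₁ ⧸ R₂.subgroupOf R₁) :=
        (IsCyclic.commGroup (α := R₁ ⧸ R₂.subgroupOf R₁)).mul_comm _ _
      rw [QuotientGroup.mk_mul, QuotientGroup.mk_mul, QuotientGroup.mk_mul, h4, QuotientGroup.mk_inv,
        QuotientGroup.mk_inv]
      group
    rw [QuotientGroup.eq_one_iff] at h3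
    exact h3
  · have h3 : (((⟨a, ha⟩ : R₁) ^ p : R₁) : R₁ ⧸ R₂.subgroupOf R₁) = 1 := by
      rw [QuotientGroup.mk_pow]
      have := pow_card_eq_one' (G := R₁ ⧸ R₂.subgroupOf R₁) (x := ((⟨a, ha⟩ : R₁) : R₁ ⧸ R₂.subgroupOf R₁))
      rwa [hcard] at this
    rw [QuotientGroup.eq_one_iff] at h3
    exact h3

/-- A `p`-element acts trivially on a section of order at most `p`. -/
theorem mem_cs_of_card {p : ℕ} [Fact p.Prime] [Finite X] {R₁ R₂ : Subgroup X} {x : X} (h21 : R₂ ≤ R₁)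
    (h12 : R₁ ≤ normalizer (R₂ : Set X)) (hx1 : x ∈ normalizer (R₁ : Set X))
    (hx2 : x ∈ normalizer (R₂ : Set X)) (hR : IsPGroup p R₁) (hcard : R₂.relIndex R₁ ≤ p) {k : ℕ}
    (hk : x ^ p ^ k ∈ cs R₁ R₂) : x ∈ cs R₁ R₂ := by
  have hpp : p.Prime := Fact.out
  by_cases h1 : R₂.relIndex R₁ = 1
  · rw [relIndex_eq_one] at h1
    refine ⟨hx2, fun r hr => h1 (mul_mem (conj_mem_of_norm hx1 hr) (inv_mem hr))⟩
  have h2 : R₂.relIndex R₁ = p := by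
    have h3 : R₂.relIndex R₁ ∣ Nat.card R₁ := Subgroup.index_dvd_card _
    obtain ⟨n, hn⟩ := IsPGroup.iff_card.1 hR
    rw [hn] at h3
    obtain ⟨m, hm, hm'⟩ := (Nat.dvd_prime_pow hpp).1 h3
    rw [hm'] at h1 hcard ⊢
    have h4 : m ≠ 0 := by rintro rfl; simp at h1
    have h5 : m ≤ 1 := by
      by_contra hlt
      have : p ^ 2 ≤ p ^ m := Nat.pow_le_pow_right hpp.pos (by omega)
      have h6 := this.trans hcard
      nlinarith [hpp.two_le]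
    have : m = 1 := by omega
    rw [this, pow_one]
  have hs : Sct p (zpowers x) R₁ R₂ := Sct.of_relIndex h21 (by rwa [zpowers_le]) (by rwa [zpowers_le]) h12 h2
  obtain ⟨V, i1, i2, ⟨s⟩⟩ := hs.exists_rep
  have hfin : Module.Finite (ZMod p) V := s.finite
  have hrk : finrank (ZMod p) V = 1 := s.finrank_eq h21 (by rw [h2, pow_one])
  have hx : (⟨x, mem_zpowers x⟩ : zpowers x) = ⟨x, mem_zpowers x⟩ := rfl
  have hmem := (s.mem_cs_iff hs.n1 hs.n2 ⟨x, mem_zpowers x⟩)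
  rw [hmem]
  have hpk : (s.ρ ⟨x, mem_zpowers x⟩) ^ p ^ k = 1 := by
    rw [← map_pow, ← s.mem_cs_iff hs.n1 hs.n2]
    exact hk
  obtain ⟨w, hw⟩ := (finrank_eq_one_iff' (K := ZMod p) (V := V)).1 hrk
  obtain ⟨c, hc⟩ := hw.2 (s.ρ ⟨x, mem_zpowers x⟩ w)
  have hc1 : c = 1 := by
    refine GL3.char_one hpk ⊥ ?_ (v := w) (by simpa using hw.1) (c := c) (by rw [hc]; simp)
    intro v hv
    rw [Submodule.mem_bot] at hv ⊢
    rw [hv, map_zero]
  ext v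
  obtain ⟨a, rfl⟩ := hw.2 v
  rw [map_smul, ← hc, hc1, one_smul]
  rfl

/-- `L` acts trivially on an `L`-invariant section of order at most `p`. -/
theorem Lc_le_cs {p : ℕ} [Fact p.Prime] [Finite X] {N H R₁ R₂ : Subgroup X} (hN : IsPGroup p N) (h21 : R₂ ≤ R₁)
    (h12 : R₁ ≤ normalizer (R₂ : Set X)) (h1 : Lc N H ≤ normalizer (R₁ : Set X))
    (h2 : Lc N H ≤ normalizer (R₂ : Set X)) (hR : IsPGroup p R₁) (hcard : R₂.relIndex R₁ ≤ p) :
    Lc N H ≤ cs R₁ R₂ := by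
  rw [Lc_le]
  intro x hx n hn
  obtain ⟨k, hk⟩ := hN ⟨n, hn⟩
  have hk' : n ^ p ^ k = 1 := congrArg Subtype.val hk
  have h3 := conj_mem_Lc hx hn
  refine mem_cs_of_card h21 h12 (h1 h3) (h2 h3) hR hcard (k := k) ?_
  rw [conj_pow, hk']
  simp [one_mem]

theorem PT.of_cs {p : ℕ} {J R₁ R₂ : Subgroup X} (h : J ≤ cs R₁ R₂) : PT p J R₁ R₂ :=
  fun j hj => ⟨0, by simpa using h hj⟩

theorem SecRep.relIndex_pull_pull {p : ℕ} [Fact p.Prime] {H R₁ R₂ : Subgroup X} {V : Type u}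
    [AddCommGroup V] [Module (ZMod p) V] [Module.Finite (ZMod p) V] (s : SecRep p H R₁ R₂ V) (hle : R₂ ≤ R₁)
    {A B : Submodule (ZMod p) V} (hAB : A ≤ B) :
    (s.pull A).relIndex (s.pull B) = p ^ (finrank (ZMod p) B - finrank (ZMod p) A) := by
  have h1 := Subgroup.relIndex_mul_relIndex R₂ (s.pull A) (s.pull B) (s.le_pull hle A) (s.pull_mono hAB)
  rw [s.relIndex_pull hle, s.relIndex_pull hle] at h1
  have h2 : finrank (ZMod p) A ≤ finrank (ZMod p) B := Submodule.finrank_mono hAB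
  have h3 : p ^ finrank (ZMod p) B = p ^ finrank (ZMod p) A * p ^ (finrank (ZMod p) B - finrank (ZMod p) A) := by
    rw [← pow_add]; congr 1; omega
  rw [h3] at h1
  exact Nat.eq_of_mul_eq_mul_left (pow_pos (Fact.out : p.Prime).pos _) h1

theorem SecRep.pull_norm' {p : ℕ} [Fact p.Prime] {H R₁ R₂ J : Subgroup X} {V : Type u}
    [AddCommGroup V] [Module (ZMod p) V] (s : SecRep p H R₁ R₂ V) (hJ : J ≤ H)
    (n1 : H ≤ normalizer (R₁ : Set X)) {W : Submodule (ZMod p) V}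
    (hW : ∀ x (hx : x ∈ J), ∀ v ∈ W, s.ρ ⟨x, hJ hx⟩ v ∈ W) : J ≤ normalizer (s.pull W : Set X) := by
  refine le_norm_of ?_
  rintro h hh a ⟨ha, ha'⟩
  refine ⟨conj_mem_of_norm (n1 (hJ hh)) ha, ?_⟩
  rw [← s.act ⟨h, hJ hh⟩ a ha]
  exact hW h hh _ ha'

/-- Chains with factors of dimension at most one. -/
theorem pt_of_flag {p : ℕ} [Fact p.Prime] [Finite X] {N H R₁ R₂ : Subgroup X} (hN : IsPGroup p N) (hNH : N ≤ H)
    (hs : Sct p H R₁ R₂) (hR : IsPGroup p R₁) {V : Type u}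
    [AddCommGroup V] [Module (ZMod p) V] [Module.Finite (ZMod p) V] (s : SecRep p H R₁ R₂ V)
    {A B : Submodule (ZMod p) V} (hAB : A ≤ B) (hA : finrank (ZMod p) A ≤ 1)
    (hB : finrank (ZMod p) B ≤ finrank (ZMod p) A + 1) (hV : finrank (ZMod p) V ≤ finrank (ZMod p) B + 1)
    (iA : ∀ x (hx : x ∈ Lc N H), ∀ v ∈ A, s.ρ ⟨x, Lc_le_self hNH hx⟩ v ∈ A)
    (iB : ∀ x (hx : x ∈ Lc N H), ∀ v ∈ B, s.ρ ⟨x, Lc_le_self hNH hx⟩ v ∈ B) : PT p (Lc N H) R₁ R₂ := by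
  have hpp : p.Prime := Fact.out
  have hL := Lc_le_self hNH
  have nA := s.pull_norm' hL hs.n1 iA
  have nB := s.pull_norm' hL hs.n1 iB
  have n1 := hL.trans hs.n1
  have n2 := hL.trans hs.n2
  have hab : ∀ W W' : Submodule (ZMod p) V, s.pull W ≤ normalizer (s.pull W' : Set X) := by
    intro W W'
    refine le_norm_of fun x hx a ha => ?_
    have h3 := hs.comm x (s.pull_le _ hx) a (s.pull_le _ ha)
    have e : x * a * x⁻¹ = x * a * x⁻¹ * a⁻¹ * a := by group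
    rw [e]
    exact mul_mem (s.le_pull hs.le _ h3) ha
  have hp1 : ∀ n : ℕ, n ≤ 1 → p ^ n ≤ p := fun n hn => by
    calc p ^ n ≤ p ^ 1 := Nat.pow_le_pow_right hpp.pos hn
      _ = p := pow_one p
  have c1 : Lc N H ≤ cs R₁ (s.pull B) := by
    refine Lc_le_cs hN (s.pull_le _) ?_ n1 nB hR ?_
    · have := hab ⊤ B
      rwa [s.pull_top] at this
    · have := s.relIndex_pull_pull hs.le (le_top : B ≤ ⊤)
      rw [s.pull_top, finrank_top] at this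
      rw [this]
      exact hp1 _ (by omega)
  have c2 : Lc N H ≤ cs (s.pull B) (s.pull A) := by
    refine Lc_le_cs hN (s.pull_mono hAB) (hab B A) nB nA (hR.to_le (s.pull_le _)) ?_
    rw [s.relIndex_pull_pull hs.le hAB]
    exact hp1 _ (by omega)
  have c3 : Lc N H ≤ cs (s.pull A) R₂ := by
    refine Lc_le_cs hN (s.le_pull hs.le _) ?_ nA n2 (hR.to_le (s.pull_le _)) ?_
    · exact (s.pull_le _).trans hs.n12
    · rw [s.relIndex_pull hs.le]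
      exact hp1 _ (by omega)
  exact (PT.trans (hR.to_le (s.pull_le _)) (PT.of_cs c1) (PT.trans (hR.to_le (s.pull_le _)) (PT.of_cs c2) (PT.of_cs c3)))

namespace Par

variable {p : ℕ} [Fact p.Prime] [Finite X] {N E H H0 : Subgroup X} (h : Par p N E H H0)

include h

/-- If `E` acts nontrivially on a non-`PT` section of order at most `p³`, then `E / C_E` is non-`PT`. -/
theorem not_pt_E {R₁ R₂ : Subgroup X} (hs : Sct p H R₁ R₂) (hRE : R₁ ≤ E) (hcard : R₂.relIndex R₁ ≤ p ^ 3)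
    (hnpt : ¬ PT p (Lc N H) R₁ R₂) (hne : ¬ E ≤ cs R₁ R₂) : ¬ PT p (Lc N H) E (E ⊓ cs R₁ R₂) := by
  intro hpt
  have nC : H ≤ normalizer ((E ⊓ cs R₁ R₂ : Subgroup X) : Set X) := norm_inf h.HE (norm_cs hs.n1 hs.n2)
  obtain ⟨e, heE, heC, hep, heN⟩ := exists_mod_in h.pN h.EN (inf_le_left : E ⊓ cs R₁ R₂ ≤ E)
    (fun hle => hne fun x hx => (hle hx).2) (h.NH.trans nC) h.NE
  have hL : Lc N H ≤ cs (zpowers e) (E ⊓ cs R₁ R₂) := by
    refine (h.L_le_of_pt le_rfl inf_le_left h.HE nC hpt).trans (sup_le ?_ ?_)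
    · intro x hx
      refine mem_cs_of_le_sc (nC (h.NH hx)) ?_
      rw [zpowers_le]
      exact ⟨nC (h.EH heE), heN x hx⟩
    · intro x hx
      refine mem_cs_of_le_sc (nC hx.1) ?_
      rw [zpowers_le]
      exact ⟨nC (h.EH heE), hx.2.2 e heE⟩
  obtain ⟨V, i1, i2, ⟨s⟩⟩ := hs.exists_rep
  have hfin : Module.Finite (ZMod p) V := s.finite
  have hrk : finrank (ZMod p) V ≤ 3 := s.finrank_le hs.le hcard
  have heH : e ∈ H := h.EH heE
  have hcomm : ∀ x (hx : x ∈ Lc N H) (v : V), s.ρ ⟨x, h.LH hx⟩ (s.ρ ⟨e, heH⟩ v) =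
      s.ρ ⟨e, heH⟩ (s.ρ ⟨x, h.LH hx⟩ v) := by
    intro x hx v
    have h1 : x * e * x⁻¹ * e⁻¹ ∈ cs R₁ R₂ := ((hL hx).2 e (mem_zpowers e)).2
    have h2 : s.ρ (⟨x, h.LH hx⟩ * ⟨e, heH⟩ * (⟨x, h.LH hx⟩ : H)⁻¹ * (⟨e, heH⟩ : H)⁻¹) = 1 := by
      rw [← s.mem_cs_iff hs.n1 hs.n2]
      exact h1
    have h3 : s.ρ (⟨x, h.LH hx⟩ * ⟨e, heH⟩) = s.ρ (⟨e, heH⟩ * ⟨x, h.LH hx⟩) := by
      rw [map_mul, map_inv, mul_inv_eq_one, map_mul, map_inv, mul_inv_eq_iff_eq_mul] at h2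
      rw [h2, map_mul]
    rw [map_mul, map_mul] at h3
    exact LinearEquiv.congr_fun h3 v
  obtain ⟨φ, hφ⟩ : ∃ φ : V →ₗ[ZMod p] V, ∀ v, φ v = s.ρ ⟨e, heH⟩ v - v :=
    ⟨(s.ρ ⟨e, heH⟩ : V ≃ₗ[ZMod p] V).toLinearMap - LinearMap.id, fun v => rfl⟩
  have hφc : ∀ x (hx : x ∈ Lc N H) (v : V), s.ρ ⟨x, h.LH hx⟩ (φ v) = φ (s.ρ ⟨x, h.LH hx⟩ v) := by
    intro x hx v
    rw [hφ, hφ, map_sub, hcomm x hx]
  have iK : ∀ x (hx : x ∈ Lc N H), ∀ v ∈ LinearMap.ker φ, s.ρ ⟨x, h.LH hx⟩ v ∈ LinearMap.ker φ := by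
    intro x hx v hv
    rw [LinearMap.mem_ker] at hv ⊢
    rw [← hφc x hx, hv, map_zero]
  have iR : ∀ x (hx : x ∈ Lc N H), ∀ v ∈ LinearMap.range φ, s.ρ ⟨x, h.LH hx⟩ v ∈ LinearMap.range φ := by
    rintro x hx _ ⟨v, rfl⟩
    exact ⟨s.ρ ⟨x, h.LH hx⟩ v, (hφc x hx v).symm⟩
  have hφ0 : LinearMap.range φ ≠ ⊥ := by
    intro h0
    rw [LinearMap.range_eq_bot] at h0
    apply heC
    refine ⟨heE, (s.mem_cs_iff hs.n1 hs.n2 ⟨e, heH⟩).2 ?_⟩
    ext v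
    have := hφ v
    rw [h0, LinearMap.zero_apply] at this
    exact (sub_eq_zero.1 this.symm)
  -- a fixed vector in the range
  have hfix : LinearMap.ker φ ⊓ LinearMap.range φ ≠ ⊥ := by
    have hpz : IsPGroup p (zpowers (⟨e, heE⟩ : E)) := h.pE.to_subgroup _
    let σ : zpowers (⟨e, heE⟩ : E) →* (V ≃ₗ[ZMod p] V) :=
      s.ρ.comp ((inclusion h.EH).comp (zpowers (⟨e, heE⟩ : E)).subtype)
    have hσ : σ ⟨⟨e, heE⟩, mem_zpowers _⟩ = s.ρ ⟨e, heH⟩ := rfl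
    have hinv : ∀ (g : zpowers (⟨e, heE⟩ : E)), ∀ v ∈ LinearMap.range φ, σ g v ∈ LinearMap.range φ := by
      rintro ⟨g, k, rfl⟩ _ ⟨v, rfl⟩
      refine ⟨σ ⟨_, k, rfl⟩ v, ?_⟩
      rw [hφ, hφ, map_sub]
      congr 1
      have e1 : s.ρ ⟨e, heH⟩ (σ ⟨(⟨e, heE⟩ : E) ^ k, k, rfl⟩ v) =
        (σ (⟨⟨e, heE⟩, mem_zpowers _⟩ * ⟨(⟨e, heE⟩ : E) ^ k, k, rfl⟩)) v := by
        rw [map_mul, hσ]; rfl
      have e2 : σ ⟨(⟨e, heE⟩ : E) ^ k, k, rfl⟩ (s.ρ ⟨e, heH⟩ v) =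
        (σ (⟨(⟨e, heE⟩ : E) ^ k, k, rfl⟩ * ⟨⟨e, heE⟩, mem_zpowers _⟩)) v := by
        rw [map_mul, hσ]; rfl
      have e3 : (⟨⟨e, heE⟩, mem_zpowers _⟩ * ⟨(⟨e, heE⟩ : E) ^ k, k, rfl⟩ : zpowers (⟨e, heE⟩ : E)) =
        ⟨(⟨e, heE⟩ : E) ^ k, k, rfl⟩ * ⟨⟨e, heE⟩, mem_zpowers _⟩ := by
        apply Subtype.ext
        show (⟨e, heE⟩ : E) * (⟨e, heE⟩ : E) ^ k = (⟨e, heE⟩ : E) ^ k * (⟨e, heE⟩ : E)
        exact (Commute.self_zpow _ k).eq
      rw [e1, e2, e3]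
    obtain ⟨v, hv, hv0, hfx⟩ := GL3.exists_fixed _ hpz σ (LinearMap.range φ) hinv hφ0
    intro h0
    apply hv0
    rw [← Submodule.mem_bot (R := ZMod p), ← h0]
    refine Submodule.mem_inf.2 ⟨?_, hv⟩
    rw [LinearMap.mem_ker, hφ, sub_eq_zero]
    exact hfx ⟨⟨e, heE⟩, mem_zpowers _⟩
  have hrn := LinearMap.finrank_range_add_finrank_ker φ
  have h1 : 1 ≤ finrank (ZMod p) (LinearMap.range φ) := by
    rw [Submodule.one_le_finrank_iff]; exact hφ0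
  have h2 : 1 ≤ finrank (ZMod p) (LinearMap.ker φ) := by
    rw [Submodule.one_le_finrank_iff]
    intro h0
    apply hfix
    rw [h0, bot_inf_eq]
  have h3 : 1 ≤ finrank (ZMod p) (LinearMap.ker φ ⊓ LinearMap.range φ : Submodule (ZMod p) V) := by
    rw [Submodule.one_le_finrank_iff]; exact hfix
  apply hnpt
  by_cases hr1 : finrank (ZMod p) (LinearMap.range φ) ≤ 1
  · have hle : LinearMap.range φ ≤ LinearMap.ker φ := by
      have : LinearMap.ker φ ⊓ LinearMap.range φ = LinearMap.range φ :=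
        Submodule.eq_of_le_of_finrank_le inf_le_right (by omega)
      rw [← this]; exact inf_le_left
    exact pt_of_flag h.pN h.NH hs (h.pE.to_le hRE) s hle (by omega) (by omega) (by omega) iR iK
  · have hle : LinearMap.ker φ ≤ LinearMap.range φ := by
      have : LinearMap.ker φ ⊓ LinearMap.range φ = LinearMap.ker φ :=
        Submodule.eq_of_le_of_finrank_le inf_le_left (by omega)
      rw [← this]; exact inf_le_right
    exact pt_of_flag h.pN h.NH hs (h.pE.to_le hRE) s hle (by omega) (by omega) (by omega) iK iR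

omit [Fact p.Prime] [Finite X] in
/-- Images under a surjective homomorphism with kernel in `E`. -/
theorem map [Fact p.Prime] [Finite X] {X' : Type u} [Group X'] [Finite X'] (f : X →* X')
    (hf : Function.Surjective f) (hk : f.ker ≤ E) : Par p (N.map f) (E.map f) (H.map f) (H0.map f) := by
  have hEc : (E.map f).comap f = E := by
    rw [comap_map_eq, sup_eq_left]; exact hk
  have hnorm : ∀ {A B : Subgroup X}, A ≤ normalizer (B : Set X) →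
      A.map f ≤ normalizer ((B.map f : Subgroup X') : Set X') := by
    intro A B hAB
    refine le_norm_of ?_
    rintro _ ⟨a, ha, rfl⟩ _ ⟨b, hb, rfl⟩
    exact ⟨a * b * a⁻¹, conj_mem_of_norm (hAB ha) hb, by rw [map_mul, map_mul, map_inv]⟩
  obtain ⟨D, hD⟩ : ∃ D, D = H ⊓ (centralizer ((E.map f : Subgroup X') : Set X')).comap f := ⟨_, rfl⟩
  have hDH : D ≤ H := hD ▸ inf_le_left
  have hCD : CE H E ≤ D := by
    rw [hD]
    rintro c ⟨hc, hc'⟩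
    refine Subgroup.mem_inf.2 ⟨hc, ?_⟩
    rw [mem_comap, mem_centralizer_iff]
    rintro _ ⟨e, he, rfl⟩
    rw [← map_mul, ← map_mul, mem_centralizer_iff.1 hc' e he]
  have hDn : H ≤ normalizer (D : Set X) := by
    rw [hD]
    refine norm_inf (norm_self H) (le_norm_of fun x hx a ha => ?_)
    rw [mem_comap] at ha ⊢
    rw [map_mul, map_mul, map_inv]
    exact conj_mem_of_norm (norm_centralizer (hnorm h.HE) ⟨x, hx, rfl⟩) ha
  have hDm : CE (H.map f) (E.map f) = D.map f := by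
    apply le_antisymm
    · rintro _ ⟨⟨x, hx, rfl⟩, hx'⟩
      refine ⟨x, ?_, rfl⟩
      rw [hD]
      exact ⟨hx, hx'⟩
    · rintro _ ⟨x, hx, rfl⟩
      rw [hD] at hx
      exact ⟨⟨x, hx.1, rfl⟩, hx.2⟩
  refine ⟨h.pN.map f, map_mono h.EN, ?_, map_mono h.NH, hnorm h.HE, map_mono h.N0, hnorm h.H0N, ?_, ?_⟩
  · rw [← Subgroup.relIndex_comap, hEc]
    exact h.ix
  · rw [hDm, ← Subgroup.map_sup, ← Subgroup.relIndex_comap]
    intro hdvd
    apply h.syl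
    refine hdvd.trans (relIndex_dvd_of_le_left _ ?_)
    exact (sup_le_sup_left hCD N).trans (le_comap_map f _)
  · rintro _ ⟨x, hx, rfl⟩ hxN
    rw [hDm, ← Subgroup.map_sup] at hxN
    have h1 : ∀ n ∈ N, x * n * x⁻¹ ∈ N ⊔ D := by
      intro n hn
      obtain ⟨y, hy, hy'⟩ := hxN (f n) ⟨n, hn, rfl⟩
      have h2 : (x * n * x⁻¹) * y⁻¹ ∈ f.ker := by
        rw [MonoidHom.mem_ker, map_mul, map_inv, hy', map_mul, map_mul, map_inv, mul_inv_cancel]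
      have h3 := mul_mem (mem_sup_left (h.EN (hk h2)) : _ ∈ N ⊔ D) hy
      rwa [inv_mul_cancel_right] at h3
    obtain ⟨d, hd, hxd⟩ := h.ext' hCD hDH hDn hx h1
    refine ⟨f d, ?_, ?_⟩
    · rw [hDm]
      exact ⟨d, hd, rfl⟩
    · rw [← map_mul]
      exact ⟨_, hxd, rfl⟩

end Par

/-- Sectional rank at most three. -/
def SR (p : ℕ) (N : Subgroup X) : Prop :=
  ∀ A B : Subgroup X, B ≤ A → A ≤ N → (∀ a ∈ A, ∀ b ∈ A, a * b * a⁻¹ * b⁻¹ ∈ B) → (∀ a ∈ A, a ^ p ∈ B) →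
    B.relIndex A ≤ p ^ 3

theorem SR.mono {p : ℕ} {N N' : Subgroup X} (h : SR p N) (hN : N' ≤ N) : SR p N' :=
  fun A B h1 h2 h3 h4 => h A B h1 (h2.trans hN) h3 h4

theorem SR.map {p : ℕ} {N : Subgroup X} (h : SR p N) {X' : Type u} [Group X'] (f : X →* X') :
    SR p (N.map f) := by
  intro A B h1 h2 h3 h4
  have e : (A.comap f ⊓ N).map f = A := by
    apply le_antisymm
    · rintro _ ⟨x, hx, rfl⟩
      exact hx.1
    · intro a ha
      obtain ⟨x, hx, rfl⟩ := h2 ha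
      exact ⟨x, ⟨ha, hx⟩, rfl⟩
  have h5 := h (A.comap f ⊓ N) (B.comap f ⊓ (A.comap f ⊓ N)) inf_le_right inf_le_right
    (by
      intro a ha b hb
      refine Subgroup.mem_inf.2 ⟨?_, mul_mem (mul_mem (mul_mem ha hb) (inv_mem ha)) (inv_mem hb)⟩
      rw [mem_comap, map_mul, map_mul, map_mul, map_inv, map_inv]
      exact h3 _ ha.1 _ hb.1)
    (by
      intro a ha
      refine Subgroup.mem_inf.2 ⟨?_, pow_mem ha p⟩
      rw [mem_comap, map_pow]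
      exact h4 _ ha.1)
  rw [inf_relIndex_right, Subgroup.relIndex_comap, e] at h5
  exact h5

/-- `N` is Sylow in `H0` modulo `C_{H0}(N)`. -/
def Top (p : ℕ) (N H0 : Subgroup X) : Prop := ¬ p ∣ (N ⊔ CE H0 N).relIndex H0

theorem Top.map {p : ℕ} {N H0 : Subgroup X} (h : Top p N H0) {X' : Type u} [Group X'] (f : X →* X') :
    Top p (N.map f) (H0.map f) := by
  rw [Top, ← Subgroup.relIndex_comap]
  intro hdvd
  apply h
  refine hdvd.trans (relIndex_dvd_of_le_left _ (sup_le ?_ ?_))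
  · exact fun x hx => mem_sup_left ⟨x, hx, rfl⟩
  · rintro c ⟨hc, hc'⟩
    refine mem_sup_right (Subgroup.mem_inf.2 ⟨⟨c, hc, rfl⟩, ?_⟩)
    rw [mem_centralizer_iff]
    rintro _ ⟨e, he, rfl⟩
    rw [← map_mul, ← map_mul, mem_centralizer_iff.1 hc' e he]

/-- An element of `H0` acting on a section of `N` as a `p`-element acts as an element of `N`. -/
theorem Top.mem [Finite X] {p : ℕ} [Fact p.Prime] {N H0 : Subgroup X} (h : Top p N H0) (hN : IsPGroup p N)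
    (hNH : N ≤ H0) (hHN : H0 ≤ normalizer (N : Set X)) {R₁ R₂ : Subgroup X} (h21 : R₂ ≤ R₁) (h1N : R₁ ≤ N)
    (h1 : H0 ≤ normalizer (R₁ : Set X)) (h2 : H0 ≤ normalizer (R₂ : Set X)) {x : X} (hx : x ∈ H0) {k : ℕ}
    (hk : x ^ p ^ k ∈ cs R₁ R₂) : x ∈ N ⊔ (H0 ⊓ cs R₁ R₂) := by
  have hD : H0 ≤ normalizer ((H0 ⊓ cs R₁ R₂ : Subgroup X) : Set X) := norm_inf (norm_self H0) (norm_cs h1 h2)
  have hCD : CE H0 N ≤ H0 ⊓ cs R₁ R₂ := by
    rintro c ⟨hc0, hc⟩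
    have hcom : ∀ r ∈ N, c * r * c⁻¹ = r := by
      intro r hr
      rw [← mem_centralizer_iff.1 hc r hr]
      group
    exact ⟨hc0, h2 hc0, fun r hr => by rw [hcom r (h1N hr), mul_inv_cancel]; exact one_mem _⟩
  have hidx : ¬ p ∣ (N ⊔ (H0 ⊓ cs R₁ R₂)).relIndex H0 := by
    intro hdvd
    exact h (hdvd.trans (relIndex_dvd_of_le_left _ (sup_le_sup_left hCD N)))
  obtain ⟨b, hb, hbQ⟩ := exists_conj (Q := zpowers x) hN hNH inf_le_left hD hidx (by rwa [zpowers_le]) (by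
    rintro _ ⟨n, rfl⟩
    refine ⟨k, zpow_mem hx n |> fun h => pow_mem h _, ?_⟩
    have e : (x ^ n) ^ p ^ k = (x ^ p ^ k) ^ n := by
      rw [← zpow_natCast, ← zpow_natCast, ← zpow_mul, ← zpow_mul, mul_comm]
    show (x ^ n) ^ p ^ k ∈ cs R₁ R₂
    rw [e]
    exact zpow_mem hk n)
  have h3 := hbQ x (mem_zpowers x)
  have h4 := conj_mem_of_norm (norm_sup hHN hD (inv_mem hb)) h3
  have e : b⁻¹ * (b * x * b⁻¹) * b⁻¹⁻¹ = x := by group
  rwa [e] at h4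

end Cfsg.Agent.H765
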