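import Cfsg.Agent.H765.Alpha
import Cfsg.Agent.H767.EssFrat
import Cfsg.Agent.Lib.FrattiniPGroup

/-!
# Reduction modulo the core; one configuration whose `E` is not invariant (helper765)
-/

set_option autoImplicit false
set_option linter.unusedSectionVars false
set_option linter.unusedSimpArgs false
set_option linter.unusedVariables false

namespace Cfsg.Agent.H765

open Module Subgroup
open scoped commutatorElement

universe u

variable {X : Type u} [Group X]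

/-! ### Coprime action on the Frattini quotient -/

theorem Fr_le_frattini {p : ℕ} [Fact p.Prime] {R : Subgroup X} [Finite R] (hR : IsPGroup p R) :
    Fr p R ≤ (frattini R).map R.subtype := by
  rw [Fr_le_iff]
  constructor
  · intro a ha b hb
    exact ⟨⁅(⟨a, ha⟩ : R), ⟨b, hb⟩⁆, Cfsg.Agent.Lib.FrattiniPGroup.commutator_mem_frattini hR _ _, rfl⟩
  · intro a ha
    exact ⟨(⟨a, ha⟩ : R) ^ p, Cfsg.Agent.Lib.FrattiniPGroup.pow_mem_frattini hR _, rfl⟩

theorem cs_frattini {p : ℕ} [Fact p.Prime] [Finite X] {R : Subgroup X} (hR : IsPGroup p R) {u : X}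
    (hu : u ∈ normalizer (R : Set X)) (hc : (orderOf u).Coprime p) (h : u ∈ cs R (Fr p R)) : u ∈ cs R ⊥ := by
  obtain ⟨φ, hφ⟩ : ∃ φ : MulAut R, φ = normalizerMonoidHom R ⟨u, hu⟩ := ⟨_, rfl⟩
  have hφx : ∀ x : R, ((φ x : R) : X) = u * x * u⁻¹ := fun x => by rw [hφ]; rfl
  have h1 : (orderOf φ).Coprime p := by
    have h2 : orderOf φ ∣ orderOf (⟨u, hu⟩ : normalizer (R : Set X)) := by
      rw [hφ]
      exact orderOf_map_dvd _ _
    rw [Subgroup.orderOf_mk] at h2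
    exact Nat.Coprime.coprime_dvd_left h2 hc
  have h2 := Cfsg.Agent.H767.EssFrat.eq_one_of_mod_frattini hR φ h1 (fun x => by
    obtain ⟨y, hy, hyx⟩ := Fr_le_frattini hR (h.2 x x.2)
    have h3 : x⁻¹ * φ x = x⁻¹ * y * (x⁻¹)⁻¹ := by
      apply Subtype.ext
      have h4 : (y : X) = u * x * u⁻¹ * (x : X)⁻¹ := hyx
      rw [inv_inv, Subgroup.coe_mul, Subgroup.coe_mul, Subgroup.coe_mul, hφx, h4, Subgroup.coe_inv]
      group
    rw [h3]
    exact Subgroup.Normal.conj_mem inferInstance y hy _)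
  rw [mem_cs_bot]
  intro r hr
  have h3 := hφx ⟨r, hr⟩
  rw [h2, MulAut.one_apply] at h3
  have h4 : r = u * r * u⁻¹ := h3
  exact (eq_mul_inv_iff_mul_eq.1 h4).symm

/-- Frattini argument for `PT`. -/
theorem PT.frattini {p : ℕ} [Fact p.Prime] [Finite X] {J R : Subgroup X} (hR : IsPGroup p R)
    (hJ : J ≤ normalizer (R : Set X)) (h : PT p J R (Fr p R)) : PT p J R ⊥ := by
  intro j hj
  obtain ⟨k, hk⟩ := h j hj
  obtain ⟨l, hl⟩ := exists_coprime_pow (p := p) j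
  refine ⟨l, cs_frattini hR (hJ (pow_mem hj _)) hl (mem_cs_of_coprime hl (k := k) ?_)⟩
  rw [← pow_mul, mul_comm, pow_mul]
  exact pow_mem hk _

/-! ### Restriction to a subgroup -/

section sub

variable {Y : Subgroup X}

theorem norm_sub {A B : Subgroup X} (hAB : A ≤ normalizer (B : Set X)) :
    A.subgroupOf Y ≤ normalizer ((B.subgroupOf Y : Subgroup Y) : Set Y) :=
  le_norm_of fun x hx a ha => by
    rw [mem_subgroupOf] at hx ha ⊢
    exact conj_mem_of_norm (hAB hx) ha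

theorem mem_cs_sub {R₁ R₂ : Subgroup X} (h1 : R₁ ≤ Y) (h2 : R₂ ≤ Y) {y : Y} :
    y ∈ cs (R₁.subgroupOf Y) (R₂.subgroupOf Y) ↔ (y : X) ∈ cs R₁ R₂ := by
  constructor
  · rintro ⟨h3, h4⟩
    refine ⟨?_, fun r hr => ?_⟩
    · rw [mem_normalizer_iff] at h3 ⊢
      intro r
      constructor
      · intro hr
        have := (h3 ⟨r, h2 hr⟩).1 (by rw [mem_subgroupOf]; exact hr)
        rwa [mem_subgroupOf] at this
      · intro hr
        have hrY : r ∈ Y := by
          have := mul_mem (mul_mem (inv_mem y.2) (h2 hr)) y.2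
          have e : (y : X)⁻¹ * ((y : X) * r * (y : X)⁻¹) * (y : X) = r := by group
          rwa [e] at this
        have := (h3 ⟨r, hrY⟩).2 (by rw [mem_subgroupOf]; exact hr)
        rwa [mem_subgroupOf] at this
    · have := h4 ⟨r, h1 hr⟩ (by rw [mem_subgroupOf]; exact hr)
      rwa [mem_subgroupOf] at this
  · rintro ⟨h3, h4⟩
    refine ⟨?_, fun r hr => ?_⟩
    · have h5 := norm_sub (Y := Y) (A := zpowers (y : X)) (B := R₂) (by rw [zpowers_le]; exact h3)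
      exact h5 (by rw [mem_subgroupOf]; exact mem_zpowers _)
    · rw [mem_subgroupOf] at hr ⊢
      exact h4 r hr

theorem PT_sub {p : ℕ} {J R₁ R₂ : Subgroup X} (h1 : R₁ ≤ Y) (h2 : R₂ ≤ Y) (hJ : J ≤ Y) :
    PT p (J.subgroupOf Y) (R₁.subgroupOf Y) (R₂.subgroupOf Y) ↔ PT p J R₁ R₂ := by
  constructor
  · intro h j hj
    obtain ⟨k, hk⟩ := h ⟨j, hJ hj⟩ (by rw [mem_subgroupOf]; exact hj)
    rw [mem_cs_sub h1 h2] at hk
    exact ⟨k, hk⟩
  · intro h j hj
    rw [mem_subgroupOf] at hj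
    obtain ⟨k, hk⟩ := h j hj
    refine ⟨k, ?_⟩
    rw [mem_cs_sub h1 h2]
    exact hk

theorem Lc_sub {N H : Subgroup X} (hN : N ≤ Y) (hH : H ≤ Y) :
    Lc (N.subgroupOf Y) (H.subgroupOf Y) = (Lc N H).subgroupOf Y := by
  apply le_antisymm
  · rw [Lc_le]
    intro h hh n hn
    rw [mem_subgroupOf] at hh hn ⊢
    exact conj_mem_Lc hh hn
  · have h1 : Lc N H ≤ (Lc (N.subgroupOf Y) (H.subgroupOf Y)).map Y.subtype := by
      rw [Lc_le]
      intro h hh n hn
      refine ⟨⟨h, hH hh⟩ * ⟨n, hN hn⟩ * ⟨h, hH hh⟩⁻¹, conj_mem_Lc ?_ ?_, rfl⟩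
      · rw [mem_subgroupOf]; exact hh
      · rw [mem_subgroupOf]; exact hn
    intro y hy
    rw [mem_subgroupOf] at hy
    obtain ⟨z, hz, hzy⟩ := h1 hy
    have : z = y := Subtype.ext hzy
    rw [← this]
    exact hz

theorem sup_sub {A B : Subgroup X} (hA : A ≤ Y) (hB : B ≤ Y) :
    A.subgroupOf Y ⊔ B.subgroupOf Y = (A ⊔ B).subgroupOf Y := by
  apply le_antisymm
  · exact sup_le (fun x hx => mem_subgroupOf.2 (mem_sup_left (mem_subgroupOf.1 hx)))
      (fun x hx => mem_subgroupOf.2 (mem_sup_right (mem_subgroupOf.1 hx)))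
  · have h1 : A ⊔ B ≤ (A.subgroupOf Y ⊔ B.subgroupOf Y).map Y.subtype :=
      sup_le (fun x hx => ⟨⟨x, hA hx⟩, mem_sup_left (mem_subgroupOf.2 hx), rfl⟩)
        (fun x hx => ⟨⟨x, hB hx⟩, mem_sup_right (mem_subgroupOf.2 hx), rfl⟩)
    intro y hy
    obtain ⟨z, hz, hzy⟩ := h1 (mem_subgroupOf.1 hy)
    have : z = y := Subtype.ext hzy
    rw [← this]
    exact hz

theorem CE_sub {H E : Subgroup X} (hE : E ≤ Y) :
    CE (H.subgroupOf Y) (E.subgroupOf Y) = (CE H E).subgroupOf Y := by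
  ext y
  constructor
  · rintro ⟨h1, h2⟩
    refine mem_subgroupOf.2 (Subgroup.mem_inf.2 ⟨mem_subgroupOf.1 h1, ?_⟩)
    rw [mem_centralizer_iff]
    intro e he
    have := mem_centralizer_iff.1 h2 ⟨e, hE he⟩ (mem_subgroupOf.2 he)
    exact congrArg Subtype.val this
  · intro h
    obtain ⟨h1, h2⟩ := mem_subgroupOf.1 h
    refine Subgroup.mem_inf.2 ⟨mem_subgroupOf.2 h1, ?_⟩
    rw [mem_centralizer_iff]
    intro e he
    exact Subtype.ext (mem_centralizer_iff.1 h2 (e : X) (mem_subgroupOf.1 he))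

theorem Par.sub {p : ℕ} {N E H H0 : Subgroup X} (h : Par p N E H H0) (hH : H ≤ Y) (h0 : H0 ≤ Y) :
    Par p (N.subgroupOf Y) (E.subgroupOf Y) (H.subgroupOf Y) (H0.subgroupOf Y) := by
  have hNY := h.NH.trans hH
  have hEY := h.EN.trans hNY
  have hCY : CE H E ≤ Y := fun x hx => hH hx.1
  have hmono : ∀ {A B : Subgroup X}, A ≤ B → A.subgroupOf Y ≤ B.subgroupOf Y := fun hAB x hx =>
    mem_subgroupOf.2 (hAB (mem_subgroupOf.1 hx))
  refine ⟨h.pN.comap_subtype, hmono h.EN, ?_, hmono h.NH, norm_sub h.HE, hmono h.N0, norm_sub h.H0N, ?_, ?_⟩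
  · rw [relIndex_subgroupOf hNY]; exact h.ix
  · rw [CE_sub hEY, sup_sub hNY hCY, relIndex_subgroupOf hH]
    exact h.syl
  · intro x hx hxN
    rw [CE_sub hEY, sup_sub hNY hCY] at hxN
    rw [CE_sub hEY]
    obtain ⟨c, hc, hxc⟩ := h.ext x (mem_subgroupOf.1 hx) (fun n hn => by
      exact mem_subgroupOf.1 (hxN ⟨n, hNY hn⟩ (mem_subgroupOf.2 hn)))
    exact ⟨⟨c, hH hc.1⟩, mem_subgroupOf.2 hc, mem_subgroupOf.2 hxc⟩

theorem SR.sub {p : ℕ} {N : Subgroup X} (h : SR p N) (hN : N ≤ Y) : SR p (N.subgroupOf Y) := by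
  intro A B h1 h2 h3 h4
  have h5 := h (A.map Y.subtype) (B.map Y.subtype) (map_mono h1) (by
      rintro _ ⟨x, hx, rfl⟩
      exact mem_subgroupOf.1 (h2 hx)) (by
      rintro _ ⟨x, hx, rfl⟩ _ ⟨y, hy, rfl⟩
      exact ⟨_, h3 x hx y hy, rfl⟩) (by
      rintro _ ⟨x, hx, rfl⟩
      exact ⟨_, h4 x hx, rfl⟩)
  rwa [relIndex_map_map_of_injective _ _ Y.subtype_injective] at h5

theorem Top.sub {p : ℕ} {N H0 : Subgroup X} (h : Top p N H0) (h0 : H0 ≤ Y) (hN : N ≤ Y) :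
    Top p (N.subgroupOf Y) (H0.subgroupOf Y) := by
  have hCY : CE H0 N ≤ Y := fun x hx => h0 hx.1
  rw [Top, CE_sub hN, sup_sub hN hCY, relIndex_subgroupOf h0]
  exact h

end sub

/-! ### Quotients -/

section quot

variable {X' : Type u} [Group X'] (f : X →* X') (hf : Function.Surjective f)

include hf in
theorem mem_cs_map {R₁ R₂ : Subgroup X} (hk : f.ker ≤ R₂) {x : X} :
    f x ∈ cs (R₁.map f) (R₂.map f) ↔ x ∈ cs R₁ R₂ := by
  have hc : ∀ {a : X}, f a ∈ R₂.map f ↔ a ∈ R₂ := by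
    intro a
    rw [← mem_comap, comap_map_eq, sup_eq_left.2 hk]
  constructor
  · rintro ⟨h1, h2⟩
    refine ⟨?_, fun r hr => ?_⟩
    · rw [mem_normalizer_iff] at h1 ⊢
      intro r
      have := h1 (f r)
      rw [hc, ← map_inv, ← map_mul, ← map_mul, hc] at this
      exact this
    · have := h2 (f r) ⟨r, hr, rfl⟩
      rwa [← map_inv, ← map_inv, ← map_mul, ← map_mul, ← map_mul, hc] at this
  · rintro ⟨h1, h2⟩
    refine ⟨?_, ?_⟩
    · rw [mem_normalizer_iff] at h1 ⊢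
      intro s
      obtain ⟨r, rfl⟩ := hf s
      have := h1 r
      rw [hc, ← map_inv, ← map_mul, ← map_mul, hc]
      exact this
    · rintro _ ⟨r, hr, rfl⟩
      rw [← map_inv, ← map_inv, ← map_mul, ← map_mul, ← map_mul, hc]
      exact h2 r hr

theorem Lc_map {N H : Subgroup X} : Lc (N.map f) (H.map f) = (Lc N H).map f := by
  apply le_antisymm
  · rw [Lc_le]
    rintro _ ⟨h, hh, rfl⟩ _ ⟨n, hn, rfl⟩
    exact ⟨h * n * h⁻¹, conj_mem_Lc hh hn, by rw [map_mul, map_mul, map_inv]⟩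
  · rw [map_le_iff_le_comap, Lc_le]
    intro h hh n hn
    rw [mem_comap, map_mul, map_mul, map_inv]
    exact conj_mem_Lc ⟨h, hh, rfl⟩ ⟨n, hn, rfl⟩

include hf in
theorem PT_map {p : ℕ} {J R₁ R₂ : Subgroup X} (hk : f.ker ≤ R₂) :
    PT p (J.map f) (R₁.map f) (R₂.map f) ↔ PT p J R₁ R₂ := by
  constructor
  · intro h j hj
    obtain ⟨k, hk'⟩ := h (f j) ⟨j, hj, rfl⟩
    rw [← map_pow, mem_cs_map f hf hk] at hk'
    exact ⟨k, hk'⟩
  · rintro h _ ⟨j, hj, rfl⟩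
    obtain ⟨k, hk'⟩ := h j hj
    refine ⟨k, ?_⟩
    rw [← map_pow, mem_cs_map f hf hk]
    exact hk'

theorem norm_map {A B : Subgroup X} (hAB : A ≤ normalizer (B : Set X)) :
    A.map f ≤ normalizer ((B.map f : Subgroup X') : Set X') := by
  refine le_norm_of ?_
  rintro _ ⟨a, ha, rfl⟩ _ ⟨b, hb, rfl⟩
  exact ⟨a * b * a⁻¹, conj_mem_of_norm (hAB ha) hb, by rw [map_mul, map_mul, map_inv]⟩

theorem norm_of_map {A B : Subgroup X} (hk : f.ker ≤ B)
    (hAB : A.map f ≤ normalizer ((B.map f : Subgroup X') : Set X')) : A ≤ normalizer (B : Set X) := by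
  refine le_norm_of fun x hx a ha => ?_
  have h1 := conj_mem_of_norm (hAB ⟨x, hx, rfl⟩) (⟨a, ha, rfl⟩ : f a ∈ B.map f)
  rw [← map_inv, ← map_mul, ← map_mul, ← mem_comap, comap_map_eq, sup_eq_left.2 hk] at h1
  exact h1

theorem norm_comap {A : Subgroup X} {B : Subgroup X'} (hAB : A.map f ≤ normalizer (B : Set X')) :
    A ≤ normalizer ((B.comap f : Subgroup X) : Set X) := by
  refine le_norm_of fun x hx a ha => ?_
  rw [mem_comap, map_mul, map_mul, map_inv]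
  exact conj_mem_of_norm (hAB ⟨x, hx, rfl⟩) ha

end quot

/-! ### The core -/

/-- `K` is the largest `H`- and `H0`-invariant subgroup of `E`. -/
structure IsCo (E H H0 K : Subgroup X) : Prop where
  le : K ≤ E
  n : H ≤ normalizer (K : Set X)
  n0 : H0 ≤ normalizer (K : Set X)
  max : ∀ R ≤ E, H ≤ normalizer (R : Set X) → H0 ≤ normalizer (R : Set X) → R ≤ K

theorem exists_core [Finite X] (E H H0 : Subgroup X) : ∃ K, IsCo E H H0 K := by
  obtain ⟨K, ⟨hK1, hK2, hK3⟩, hmax⟩ := Set.Finite.exists_maximalFor (fun R : Subgroup X => Nat.card R)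
    {R | R ≤ E ∧ H ≤ normalizer (R : Set X) ∧ H0 ≤ normalizer (R : Set X)} (Set.toFinite _)
    ⟨⊥, bot_le, norm_bot _, norm_bot _⟩
  refine ⟨K, hK1, hK2, hK3, fun R h1 h2 h3 => ?_⟩
  have h4 := hmax (j := K ⊔ R) ⟨sup_le hK1 h1, norm_sup hK2 h2, norm_sup hK3 h3⟩
    (Subgroup.card_le_of_le le_sup_left)
  have h5 : K = K ⊔ R := Subgroup.eq_of_le_of_card_ge le_sup_left h4
  rw [h5]
  exact le_sup_right

section PU

variable {p : ℕ} [Fact p.Prime] [Finite X] {N E H H0 K : Subgroup X}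

/-- The core of a non-invariant `E` is proper in a strong sense. -/
theorem IsCo.npt (c : IsCo E H H0 K) (h : Par p N E H H0) (hr : SR p N) (hnp : ¬ PT p (Lc N H) E ⊥)
    (hn : ¬ H0 ≤ normalizer (E : Set X)) : ¬ PT p (Lc N H) E K := by
  intro hpt
  have hKp : IsPGroup p K := h.pE.to_le c.le
  have nF : H ≤ normalizer (Fr p K : Set X) := norm_Fr c.n
  have nF0 : H0 ≤ normalizer (Fr p K : Set X) := norm_Fr c.n0
  have hKF : K ≤ normalizer (Fr p K : Set X) := (c.le.trans h.EH).trans nF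
  -- `K / Fr K` is not `PT`
  have h1 : ¬ PT p (Lc N H) K (Fr p K) := by
    intro h2
    exact hnp (hpt.trans hKp (h2.frattini hKp (h.LH.trans c.n)))
  have hs : Sct p H K (Fr p K) := ⟨Fr_le p K, c.n, nF, hKF, fun a ha b hb => comm_mem_Fr ha hb,
    fun a ha => pow_mem_Fr ha⟩
  have hcard : (Fr p K).relIndex K ≤ p ^ 3 := hr K (Fr p K) (Fr_le p K) (c.le.trans h.EN) hs.comm hs.pow
  -- `C = E ∩ cs`
  have hKC : K ≤ E ⊓ cs K (Fr p K) := fun k hk => Subgroup.mem_inf.2 ⟨c.le hk, hKF hk, fun r hr => comm_mem_Fr hk hr⟩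
  have hNC : N ⊓ cs K (Fr p K) = E ⊓ cs K (Fr p K) := by
    apply le_antisymm
    · exact fun n hn => Subgroup.mem_inf.2 ⟨h.not_mem_of_not_pt c.n nF h1 hn.1 hn.2, hn.2⟩
    · exact inf_le_inf_right _ h.EN
  have hC1 : H ≤ normalizer ((E ⊓ cs K (Fr p K) : Subgroup X) : Set X) := norm_inf h.HE (norm_cs c.n nF)
  have hC0 : H0 ≤ normalizer ((E ⊓ cs K (Fr p K) : Subgroup X) : Set X) := by
    rw [← hNC]
    exact norm_inf h.H0N (norm_cs c.n0 nF0)
  have hCK : E ⊓ cs K (Fr p K) = K := le_antisymm (c.max _ inf_le_left hC1 hC0) hKC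
  have hE : ¬ E ≤ cs K (Fr p K) := by
    intro hE
    apply hn
    rw [inf_eq_left.2 hE] at hC0
    exact hC0
  have h2 := h.not_pt_E hs c.le hcard h1 hE
  rw [hCK] at h2
  exact h2 hpt

end PU

end Cfsg.Agent.H765
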