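import Cfsg.Agent.H765.CoreC
import Cfsg.Agent.H765.Ess
import Cfsg.Agent.H973.FusNormEss
import Cfsg.Agent.H785.FusTools
import Cfsg.Agent.TwoFusion.SectionalRank

/-!
# Realization of automorphism groups in the symmetric group on `S` (helper765)
-/

set_option autoImplicit false
set_option linter.unusedSectionVars false
set_option linter.unusedSimpArgs false
set_option linter.unusedVariables false

namespace Cfsg.Agent.H765

open Module Subgroup Cfsg Cfsg.FusionSystem Cfsg.Agent.H802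

universe u

section perm

variable {G : Type u} [Group G]

/-- the left regular representation -/
def lam (G : Type u) [Group G] : G →* Equiv.Perm G := MulAction.toPermHom G G

theorem lam_apply (g x : G) : lam G g x = g * x := rfl

theorem lam_inj : Function.Injective (lam G) := by
  intro a b h
  have h1 : lam G a 1 = lam G b 1 := by rw [h]
  rwa [lam_apply, lam_apply, mul_one, mul_one] at h1

theorem exists_perm [Finite G] (P : Subgroup G) (φ : P →* G) (hφ : Function.Injective φ) :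
    ∃ x : Equiv.Perm G, ∀ g : P, x * lam G g * x⁻¹ = lam G (φ g) := by
  obtain ⟨T, hT, -⟩ := P.exists_isComplement_right 1
  obtain ⟨T', hT', -⟩ := φ.range.exists_isComplement_right 1
  have hc : Nat.card T = Nat.card T' := by
    have h1 := Nat.card_congr (Equiv.ofBijective _ hT)
    have h2 := Nat.card_congr (Equiv.ofBijective _ hT')
    rw [Nat.card_prod] at h1 h2
    have h3 : Nat.card P = Nat.card φ.range := Nat.card_congr (MonoidHom.ofInjective hφ).toEquiv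
    have h4 : Nat.card P * Nat.card T = Nat.card P * Nat.card T' := by
      have e1 : Nat.card (P : Set G) = Nat.card P := rfl
      have e2 : Nat.card (φ.range : Set G) = Nat.card φ.range := rfl
      rw [e1] at h1
      rw [e2, ← h3] at h2
      rw [h1, h2]
    exact Nat.eq_of_mul_eq_mul_left Nat.card_pos h4
  have hfT : Finite T := inferInstance
  have hfT' : Finite T' := inferInstance
  obtain ⟨σ⟩ : Nonempty (T ≃ T') := Finite.card_eq.1 hc
  have hb1 : Function.Bijective (fun x : P × T => (x.1 : G) * x.2) := hT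
  have hb2 : Function.Bijective (fun x : φ.range × T' => (x.1 : G) * x.2) := hT'
  let e1 : P × T ≃ G := Equiv.ofBijective _ hb1
  let e2 : φ.range × T' ≃ G := Equiv.ofBijective _ hb2
  let m : P × T ≃ φ.range × T' := Equiv.prodCongr (MonoidHom.ofInjective hφ).toEquiv σ
  have he1 : ∀ (q : P) (t : T), e1 (q, t) = (q : G) * t := fun q t => rfl
  have he2 : ∀ (q : φ.range) (t : T'), e2 (q, t) = (q : G) * t := fun q t => rfl
  let x : Equiv.Perm G := e1.symm.trans (m.trans e2)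
  have hx : ∀ (q : P) (t : T), x ((q : G) * t) = φ q * (σ t : T') := by
    intro q t
    have h1 : e1.symm ((q : G) * t) = (q, t) := by
      rw [← he1, Equiv.symm_apply_apply]
    show e2 (m (e1.symm ((q : G) * t))) = _
    rw [h1]
    rfl
  refine ⟨x, fun g => ?_⟩
  rw [mul_inv_eq_iff_eq_mul]
  ext y
  obtain ⟨⟨q, t⟩, rfl⟩ := e1.surjective y
  rw [Equiv.Perm.mul_apply, Equiv.Perm.mul_apply, lam_apply, lam_apply]
  have h1 : e1 (q, t) = ((⟨q, q.2⟩ : P) : G) * t := rfl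
  rw [h1, hx, ← mul_assoc, ← Subgroup.coe_mul, hx, map_mul, mul_assoc]

end perm

section real

variable {Ω : Type u} [Group Ω] {S : Subgroup Ω}

open Classical in
/-- left multiplication by elements of `S` -/
noncomputable def La (S : Subgroup Ω) (g : Ω) : Equiv.Perm ↥S := if h : g ∈ S then lam S ⟨g, h⟩ else 1

theorem La_eq {g : Ω} (h : g ∈ S) : La S g = lam S ⟨g, h⟩ := by
  rw [La, dif_pos h]

theorem La_mul {g k : Ω} (hg : g ∈ S) (hk : k ∈ S) : La S (g * k) = La S g * La S k := by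
  rw [La_eq hg, La_eq hk, La_eq (mul_mem hg hk), ← map_mul]
  rfl

theorem La_inv {g : Ω} (hg : g ∈ S) : La S g⁻¹ = (La S g)⁻¹ := by
  rw [La_eq hg, La_eq (inv_mem hg), ← map_inv]
  rfl

theorem La_one : La S 1 = 1 := by
  rw [La_eq (one_mem S)]
  exact map_one _

theorem La_inj {g k : Ω} (hg : g ∈ S) (hk : k ∈ S) (h : La S g = La S k) : g = k := by
  rw [La_eq hg, La_eq hk] at h
  exact congrArg Subtype.val (lam_inj h)

theorem La_pow {g : Ω} (hg : g ∈ S) (n : ℕ) : La S (g ^ n) = La S g ^ n := by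
  rw [La_eq hg, La_eq (pow_mem hg n), ← map_pow]
  rfl

/-- the image of a subgroup of `S` -/
def Rg (S P : Subgroup Ω) : Subgroup (Equiv.Perm ↥S) := (P.subgroupOf S).map (lam S)

theorem mem_Rg {P : Subgroup Ω} (hP : P ≤ S) {x : Equiv.Perm ↥S} : x ∈ Rg S P ↔ ∃ g ∈ P, La S g = x := by
  constructor
  · rintro ⟨g, hg, rfl⟩
    exact ⟨g, mem_subgroupOf.1 hg, La_eq g.2⟩
  · rintro ⟨g, hg, rfl⟩
    exact ⟨⟨g, hP hg⟩, mem_subgroupOf.2 hg, (La_eq (hP hg)).symm⟩

theorem La_mem_Rg {P : Subgroup Ω} (hP : P ≤ S) {g : Ω} (hg : g ∈ S) : La S g ∈ Rg S P ↔ g ∈ P := by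
  rw [mem_Rg hP]
  constructor
  · rintro ⟨k, hk, h⟩
    rwa [← La_inj (hP hk) hg h]
  · exact fun h => ⟨g, h, rfl⟩

theorem Rg_mono {P Q : Subgroup Ω} (h : P ≤ Q) : Rg S P ≤ Rg S Q :=
  map_mono fun x hx => mem_subgroupOf.2 (h (mem_subgroupOf.1 hx))

theorem Rg_relIndex {P Q : Subgroup Ω} (hQ : Q ≤ S) : (Rg S P).relIndex (Rg S Q) = P.relIndex Q := by
  rw [Rg, Rg, relIndex_map_map_of_injective _ _ lam_inj, relIndex_subgroupOf hQ]

theorem Rg_card {P : Subgroup Ω} (hP : P ≤ S) : Nat.card (Rg S P) = Nat.card P := by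
  rw [← relIndex_bot_left, ← relIndex_bot_left]
  have : (⊥ : Subgroup (Equiv.Perm ↥S)) = Rg S ⊥ := by
    rw [Rg, bot_subgroupOf, Subgroup.map_bot]
  rw [this, Rg_relIndex hP]

theorem Rg_pgroup {p : ℕ} (hS : IsPGroup p S) (P : Subgroup Ω) : IsPGroup p (Rg S P) :=
  (hS.to_subgroup _).map _

/-- every map is realized -/
theorem realize [Finite S] {P : Subgroup Ω} (hP : P ≤ S) (ψ : P →* Ω) (hψ : ∀ g, ψ g ∈ S)
    (hi : Function.Injective ψ) : ∃ x : Equiv.Perm ↥S, ∀ g : P, x * La S g * x⁻¹ = La S (ψ g) := by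
  let φ : P.subgroupOf S →* ↥S :=
    { toFun := fun g => ⟨ψ ⟨g, g.2⟩, hψ _⟩
      map_one' := by
        apply Subtype.ext
        exact map_one ψ
      map_mul' := fun a b => by
        apply Subtype.ext
        exact map_mul ψ ⟨a, a.2⟩ ⟨b, b.2⟩ }
  have hφ : Function.Injective φ := by
    intro a b h
    have h1 : ψ ⟨a, a.2⟩ = ψ ⟨b, b.2⟩ := congrArg Subtype.val h
    have h2 := congrArg Subtype.val (hi h1)
    exact Subtype.ext (Subtype.ext h2)
  obtain ⟨x, hx⟩ := exists_perm (P.subgroupOf S) φ hφ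
  refine ⟨x, fun g => ?_⟩
  have h1 := hx ⟨⟨g, hP g.2⟩, mem_subgroupOf.2 g.2⟩
  rw [La_eq (hP g.2), La_eq (hψ g)]
  exact h1

/-- the permutations inducing on `P` an element of `K` -/
def Hs (S : Subgroup Ω) {P : Subgroup Ω} (K : Subgroup (MulAut P)) : Subgroup (Equiv.Perm ↥S) where
  carrier := {x | ∃ α ∈ K, ∀ g : P, x * La S g * x⁻¹ = La S (α g : P)}
  one_mem' := ⟨1, one_mem _, fun g => by rw [one_mul, inv_one, mul_one]; rfl⟩
  mul_mem' := by
    rintro x y ⟨α, hα, hx⟩ ⟨β, hβ, hy⟩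
    refine ⟨α * β, mul_mem hα hβ, fun g => ?_⟩
    rw [MulAut.mul_apply, ← hx, ← hy]
    group
  inv_mem' := by
    rintro x ⟨α, hα, hx⟩
    refine ⟨α⁻¹, inv_mem hα, fun g => ?_⟩
    have h1 := hx (α⁻¹ g)
    have h2 : α (α⁻¹ g) = g := MulAut.apply_inv_self _ _ _
    rw [h2] at h1
    rw [← h1]
    group

theorem mem_Hs {P : Subgroup Ω} {K : Subgroup (MulAut P)} {x : Equiv.Perm ↥S} :
    x ∈ Hs S K ↔ ∃ α ∈ K, ∀ g : P, x * La S g * x⁻¹ = La S (α g : P) := Iff.rfl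

theorem Hs_norm {P : Subgroup Ω} (hP : P ≤ S) (K : Subgroup (MulAut P)) :
    Hs S K ≤ normalizer (Rg S P : Set (Equiv.Perm ↥S)) := by
  refine le_norm_of fun x hx a ha => ?_
  obtain ⟨α, -, h⟩ := hx
  obtain ⟨g, hg, rfl⟩ := (mem_Rg hP).1 ha
  have h1 := h ⟨g, hg⟩
  rw [h1]
  exact (mem_Rg hP).2 ⟨_, (α ⟨g, hg⟩).2, rfl⟩

theorem exists_Hs [Finite S] {P : Subgroup Ω} (hP : P ≤ S) {K : Subgroup (MulAut P)} {α : MulAut P} (hα : α ∈ K) :
    ∃ x ∈ Hs S K, ∀ g : P, x * La S g * x⁻¹ = La S (α g : P) := by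
  obtain ⟨x, hx⟩ := realize hP (P.subtype.comp α.toMonoidHom) (fun g => hP (α g).2)
    (P.subtype_injective.comp α.injective)
  exact ⟨x, ⟨α, hα, hx⟩, hx⟩

theorem Hs_unique {P : Subgroup Ω} (hP : P ≤ S) {x : Equiv.Perm ↥S} {α β : MulAut P}
    (hα : ∀ g : P, x * La S g * x⁻¹ = La S (α g : P)) (hβ : ∀ g : P, x * La S g * x⁻¹ = La S (β g : P)) : α = β := by
  ext g
  apply La_inj (hP (α g).2) (hP (β g).2)
  rw [← hα, ← hβ]

/-- the induced automorphism -/
noncomputable def Hπ (S : Subgroup Ω) {P : Subgroup Ω} (hP : P ≤ S) (K : Subgroup (MulAut P)) : Hs S K →* K where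
  toFun x := ⟨x.2.choose, x.2.choose_spec.1⟩
  map_one' := by
    apply Subtype.ext
    refine Hs_unique hP (x := 1) (1 : Hs S K).2.choose_spec.2 fun g => ?_
    rw [one_mul, inv_one, mul_one]; rfl
  map_mul' x y := by
    apply Subtype.ext
    refine Hs_unique hP (x := (x : Equiv.Perm ↥S) * y) (x * y).2.choose_spec.2 fun g => ?_
    have h1 := x.2.choose_spec.2
    have h2 := y.2.choose_spec.2
    rw [Subgroup.coe_mul, MulAut.mul_apply, ← h1, ← h2]
    group

theorem Hπ_spec {P : Subgroup Ω} (hP : P ≤ S) {K : Subgroup (MulAut P)} (x : Hs S K) (g : P) :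
    (x : Equiv.Perm ↥S) * La S g * (x : Equiv.Perm ↥S)⁻¹ = La S ((Hπ S hP K x : MulAut P) g : P) :=
  x.2.choose_spec.2 g

theorem Hπ_eq {P : Subgroup Ω} (hP : P ≤ S) {K : Subgroup (MulAut P)} (x : Hs S K) {α : MulAut P}
    (h : ∀ g : P, (x : Equiv.Perm ↥S) * La S g * (x : Equiv.Perm ↥S)⁻¹ = La S (α g : P)) :
    (Hπ S hP K x : MulAut P) = α := Hs_unique hP (Hπ_spec hP x) h

theorem Hπ_surj [Finite S] {P : Subgroup Ω} (hP : P ≤ S) (K : Subgroup (MulAut P)) :
    Function.Surjective (Hπ S hP K) := by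
  rintro ⟨α, hα⟩
  obtain ⟨x, hx, h⟩ := exists_Hs hP hα
  exact ⟨⟨x, hx⟩, Subtype.ext (Hπ_eq hP ⟨x, hx⟩ h)⟩

theorem Hπ_ker {P : Subgroup Ω} (hP : P ≤ S) {K : Subgroup (MulAut P)} {x : Hs S K} :
    Hπ S hP K x = 1 ↔ (x : Equiv.Perm ↥S) ∈ CE (Hs S K) (Rg S P) := by
  constructor
  · intro h
    refine Subgroup.mem_inf.2 ⟨x.2, mem_centralizer_iff.2 fun a ha => ?_⟩
    obtain ⟨g, hg, rfl⟩ := (mem_Rg hP).1 ha
    have h1 := Hπ_spec hP x ⟨g, hg⟩
    rw [h] at h1
    have h2 : (x : Equiv.Perm ↥S) * La S g * (x : Equiv.Perm ↥S)⁻¹ = La S g := h1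
    rw [mul_inv_eq_iff_eq_mul] at h2
    exact h2.symm
  · rintro ⟨-, h⟩
    apply Subtype.ext
    refine Hπ_eq hP x fun g => ?_
    have h1 := mem_centralizer_iff.1 h (La S g) ((mem_Rg hP).2 ⟨g, g.2, rfl⟩)
    rw [← h1, mul_inv_cancel_right]
    rfl

/-- Elements of `S` normalizing `P`. -/
theorem La_mem_Hs {P : Subgroup Ω} (hP : P ≤ S) {K : Subgroup (MulAut P)} (hK : autInducedBy S P ≤ K) {g : Ω}
    (hg : g ∈ S) (hgn : g ∈ normalizer (P : Set Ω)) : La S g ∈ Hs S K := by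
  obtain ⟨τ, hτ⟩ := exists_conjAut hgn
  refine ⟨τ, hK (conj_mem_autInducedBy hg hτ), fun x => ?_⟩
  rw [hτ, La_mul (mul_mem hg (hP x.2)) (inv_mem hg), La_mul hg (hP x.2), La_inv hg]

end real

end Cfsg.Agent.H765
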