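import Cfsg.Agent.H765.Real

/-!
# Essential subgroups give configurations (helper765)
-/

set_option autoImplicit false
set_option linter.unusedSectionVars false
set_option linter.unusedSimpArgs false
set_option linter.unusedVariables false

namespace Cfsg.Agent.H765

open Module Subgroup Cfsg Cfsg.FusionSystem Cfsg.Agent.H802

universe u

variable {Ω : Type u} [Group Ω] {S : Subgroup Ω} {p : ℕ} [Fact p.Prime] [Finite S]

theorem SR_of (h : SectionalPRankLE p 3 ↥S) : SR p (Rg S S) := by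
  intro A B hBA hA h1 h2
  have h3 := TwoFusion.SectionalRank.sectionalPRankLE_iff.1 h (A.comap (lam S)) (B.comap (lam S))
    ⟨comap_mono hBA, fun a ha b hb => by
      rw [mem_comap] at ha hb ⊢
      rw [map_mul, map_mul, map_mul, map_inv, map_inv]
      exact h1 _ ha _ hb, fun a ha => by
      rw [mem_comap] at ha ⊢
      rw [map_pow]
      exact h2 _ ha⟩
  have h4 : (A.comap (lam S)).map (lam S) = A := by
    rw [map_comap_eq, inf_eq_right]
    refine hA.trans ?_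
    rintro _ ⟨x, -, rfl⟩
    exact ⟨x, rfl⟩
  have h5 : (B.comap (lam S)).relIndex (A.comap (lam S)) = B.relIndex A := by
    rw [relIndex_comap, h4]
  have h6 := card_mul_relIndex' (comap_mono hBA : B.comap (lam S) ≤ A.comap (lam S))
  rw [h5] at h6
  rw [← h6, mul_comm] at h3
  exact Nat.le_of_mul_le_mul_right h3 Nat.card_pos

theorem nIn_le (S E : Subgroup Ω) : normalizerIn S E ≤ S := inf_le_left

section ess

variable {F : FusionSystem S} {E : Subgroup Ω} (hS : IsPGroup p S) (hF : F.IsSaturated p) (hE : F.IsEssential p E)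

include hE in
theorem le_nIn : E ≤ normalizerIn S E := le_normalizerIn hE.1.1

include hS hF hE in
theorem nIn_ne : ¬ normalizerIn S E ≤ E := by
  intro hh
  have h1 := card_lt_card_normalizerIn hS hE.1.1 (ne_of_isEssential hS hF hE)
  have hfin : Finite E := finite_of_le hE.1.1
  exact absurd (Subgroup.card_le_of_le hh) (not_le.2 h1)

include hE in
theorem autInd_le : autInducedBy S E ≤ F.autGroup E := autInducedBy_le_autGroup F hE.1.1

include hE in
theorem RN_le_H : Rg S (normalizerIn S E) ≤ Hs S (F.autGroup E) := by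
  intro x hx
  obtain ⟨g, hg, rfl⟩ := (mem_Rg (nIn_le S E)).1 hx
  exact La_mem_Hs hE.1.1 (autInd_le hE) hg.1 hg.2

include hS hE in
/-- The elements of `N_S(E)` acting as inner automorphisms. -/
theorem mem_of_pi_inn {g : Ω} (hg : g ∈ normalizerIn S E) (x : Hs S (F.autGroup E)) (hx : (x : Equiv.Perm ↥S) = La S g)
    (hi : (Hπ S hE.1.1 (F.autGroup E) x : MulAut E) ∈ Inn E) : g ∈ E := by
  obtain ⟨τ, hτ⟩ := exists_conjAut hg.2
  have h1 : (Hπ S hE.1.1 (F.autGroup E) x : MulAut E) = τ := by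
    refine Hπ_eq hE.1.1 x fun y => ?_
    rw [hτ, La_mul (mul_mem hg.1 (hE.1.1 y.2)) (inv_mem hg.1), La_mul hg.1 (hE.1.1 y.2), La_inv hg.1, hx]
  rw [h1] at hi
  exact mem_of_conj_mem_inn hE.1.1 (hE.1.2 E (isConj_refl F hE.1.1)) hg.1 hτ hi

include hS hF hE in
/-- `L` is not a `p`-group on `E`. -/
theorem np_of_essential : ¬ PT p (Lc (Rg S (normalizerIn S E)) (Hs S (F.autGroup E))) (Rg S E) ⊥ := by
  intro hpt
  apply nIn_ne hS hF hE
  have hES := hE.1.1
  have hfinE : Finite E := finite_of_le hES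
  set A := F.autGroup E with hA
  set H := Hs S A with hH
  set L := Lc (Rg S (normalizerIn S E)) H with hL
  have hLH : L ≤ H := Lc_le_self (RN_le_H hE)
  let K : Subgroup (MulAut E) := ((L.subgroupOf H).map (Hπ S hES A)).map A.subtype
  have hKA : K ≤ A := by
    rintro _ ⟨x, -, rfl⟩
    exact x.2
  have hKn : ∀ a ∈ A, ∀ k ∈ K, a * k * a⁻¹ ∈ K := by
    rintro a ha _ ⟨_, ⟨x, hx, rfl⟩, rfl⟩
    obtain ⟨y, hy⟩ := Hπ_surj hES A ⟨a, ha⟩
    refine ⟨Hπ S hES A (y * x * y⁻¹), ⟨y * x * y⁻¹, ?_, rfl⟩, ?_⟩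
    · rw [SetLike.mem_coe, mem_subgroupOf]
      exact conj_mem_of_norm (norm_Lc _ H y.2) hx
    · have h1 : Hπ S hES A (y * x * y⁻¹) = ⟨a, ha⟩ * Hπ S hES A x * ⟨a, ha⟩⁻¹ := by
        rw [map_mul, map_mul, map_inv, hy]
      rw [h1]
      rfl
  have hKp : IsPGroup p K := by
    rintro ⟨_, ⟨_, ⟨x, hx, rfl⟩, rfl⟩⟩
    obtain ⟨k, hk⟩ := hpt x hx
    refine ⟨k, ?_⟩
    apply Subtype.ext
    have h1 : Hπ S hES A (x ^ p ^ k) = 1 := by
      rw [Hπ_ker]
      refine Subgroup.mem_inf.2 ⟨(x ^ p ^ k).2, mem_centralizer_iff.2 fun r hr => ?_⟩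
      exact (mem_cs_bot.1 hk r hr).symm
    rw [map_pow] at h1
    have h2 := congrArg (Subtype.val : A → MulAut E) h1
    exact h2
  have hle := Ess.le_inn hS hE K hKA hKn hKp
  intro g hg
  have hLa : La S g ∈ Rg S (normalizerIn S E) := (mem_Rg (nIn_le S E)).2 ⟨g, hg, rfl⟩
  refine mem_of_pi_inn hS hE hg ⟨La S g, RN_le_H hE hLa⟩ rfl (hle ?_)
  exact ⟨_, ⟨⟨La S g, RN_le_H hE hLa⟩, mem_subgroupOf.2 (le_Lc _ _ hLa), rfl⟩, rfl⟩

include hS hF hE in
/-- `Aut_S(E)` is Sylow. -/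
theorem syl_of_essential :
    ¬ p ∣ (Rg S (normalizerIn S E) ⊔ CE (Hs S (F.autGroup E)) (Rg S E)).relIndex (Hs S (F.autGroup E)) := by
  have hES := hE.1.1
  have hfinE : Finite E := finite_of_le hES
  obtain ⟨-, R, hR⟩ := isFullyAutomized_of_isFullyNormalized hS hF hE.2.1
  have h1 : ¬ p ∣ (R : Subgroup (F.autGroup E)).index := R.not_dvd_index
  intro hdvd
  apply h1
  rw [← (R : Subgroup (F.autGroup E)).index_comap_of_surjective (Hπ_surj hES (F.autGroup E))]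
  refine hdvd.trans (Subgroup.index_dvd_of_le ?_)
  intro x hx
  rw [mem_comap, hR, mem_subgroupOf] at hx
  obtain ⟨g, hg, hgx⟩ := (mem_autInducedBy_iff S E _).1 hx
  have hgn : g ∈ normalizerIn S E := ⟨hg, mem_normalizer_of_aut hgx⟩
  have hLa : La S g ∈ Rg S (normalizerIn S E) := (mem_Rg (nIn_le S E)).2 ⟨g, hgn, rfl⟩
  rw [mem_subgroupOf]
  have h2 : (La S g)⁻¹ * (x : Equiv.Perm ↥S) ∈ CE (Hs S (F.autGroup E)) (Rg S E) := by
    refine Subgroup.mem_inf.2 ⟨mul_mem (inv_mem (RN_le_H hE hLa)) x.2, mem_centralizer_iff.2 fun a ha => ?_⟩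
    obtain ⟨e, he, rfl⟩ := (mem_Rg hES).1 ha
    have h3 := Hπ_spec hES x ⟨e, he⟩
    rw [hgx, La_mul (mul_mem hg (hES he)) (inv_mem hg), La_mul hg (hES he), La_inv hg] at h3
    have h4 : (x : Equiv.Perm ↥S) * La S e = La S g * La S e * (La S g)⁻¹ * x := by
      rw [← h3, inv_mul_cancel_right]
    rw [mul_assoc, h4]
    group
  have h3 := mul_mem (mem_sup_left hLa : _ ∈ Rg S (normalizerIn S E) ⊔ CE (Hs S (F.autGroup E)) (Rg S E)) (mem_sup_right h2)
  rwa [mul_inv_cancel_left] at h3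

include hS hF hE in
/-- Extension. -/
theorem ext_of_essential : ∀ x ∈ Hs S (F.autGroup E), (∀ n ∈ Rg S (normalizerIn S E),
    x * n * x⁻¹ ∈ Rg S (normalizerIn S E) ⊔ CE (Hs S (F.autGroup E)) (Rg S E)) →
      ∃ c ∈ CE (Hs S (F.autGroup E)) (Rg S E), x * c ∈ Hs S (F.autGroup (normalizerIn S E)) := by
  intro x hx hxN
  have hES := hE.1.1
  have hfinE : Finite E := finite_of_le hES
  set A := F.autGroup E with hA
  set H := Hs S A with hH
  have hrec : F.IsReceptive E := isReceptive_of_isFullyNormalized hS hF hE.2.1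
  have hnorm : ∀ δ ∈ autInducedBy S E, (Hπ S hES A ⟨x, hx⟩ : MulAut E) * δ * (Hπ S hES A ⟨x, hx⟩ : MulAut E)⁻¹ ∈
      autInducedBy S E := by
    intro δ hδ
    obtain ⟨g, hg, hgδ⟩ := (mem_autInducedBy_iff S E _).1 hδ
    have hgn : g ∈ normalizerIn S E := ⟨hg, mem_normalizer_of_aut hgδ⟩
    have hLa : La S g ∈ Rg S (normalizerIn S E) := (mem_Rg (nIn_le S E)).2 ⟨g, hgn, rfl⟩
    have h1 := hxN _ hLa
    have hnn : Rg S (normalizerIn S E) ≤ normalizer (CE H (Rg S E) : Set (Equiv.Perm ↥S)) :=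
      (RN_le_H hE).trans (norm_inf (norm_self H) (norm_centralizer (Hs_norm hES A)))
    obtain ⟨a, ha, c, hc, hac⟩ := (mem_sup_iff hnn).1 h1
    obtain ⟨k, hk, rfl⟩ := (mem_Rg (nIn_le S E)).1 ha
    -- the automorphism induced by `k`
    obtain ⟨κ, hκ⟩ := exists_conjAut hk.2
    have h2 : (Hπ S hES A ⟨x, hx⟩ : MulAut E) * δ * (Hπ S hES A ⟨x, hx⟩ : MulAut E)⁻¹ = κ := by
      have hxg : x * La S g * x⁻¹ ∈ H := mul_mem (mul_mem hx (RN_le_H hE hLa)) (inv_mem hx)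
      have h3 : (Hπ S hES A ⟨x * La S g * x⁻¹, hxg⟩ : MulAut E) = κ := by
        refine Hπ_eq hES _ fun e => ?_
        have hce := mem_centralizer_iff.1 hc.2 (La S e) ((mem_Rg hES).2 ⟨e, e.2, rfl⟩)
        show (x * La S g * x⁻¹) * La S e * (x * La S g * x⁻¹)⁻¹ = _
        rw [← hac, hκ, La_mul (mul_mem hk.1 (hES e.2)) (inv_mem hk.1), La_mul hk.1 (hES e.2), La_inv hk.1]
        calc La S k * c * La S e * (La S k * c)⁻¹ = La S k * (c * La S e) * c⁻¹ * (La S k)⁻¹ := by group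
          _ = La S k * (La S e * c) * c⁻¹ * (La S k)⁻¹ := by rw [← hce]
          _ = _ := by group
      have h4 : (Hπ S hES A ⟨x * La S g * x⁻¹, hxg⟩ : MulAut E) =
          (Hπ S hES A ⟨x, hx⟩ : MulAut E) * δ * (Hπ S hES A ⟨x, hx⟩ : MulAut E)⁻¹ := by
        have h5 : (⟨x * La S g * x⁻¹, hxg⟩ : H) = ⟨x, hx⟩ * ⟨La S g, RN_le_H hE hLa⟩ * ⟨x, hx⟩⁻¹ := rfl
        rw [h5, map_mul, map_mul, map_inv]
        have h6 : (Hπ S hES A ⟨La S g, RN_le_H hE hLa⟩ : MulAut E) = δ := by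
          refine Hπ_eq hES _ fun e => ?_
          show La S g * La S e * (La S g)⁻¹ = _
          rw [hgδ, La_mul (mul_mem hg (hES e.2)) (inv_mem hg), La_mul hg (hES e.2), La_inv hg]
        rw [← h6]
        rfl
      rw [← h4, h3]
    rw [h2]
    exact conj_mem_autInducedBy hk.1 hκ
  obtain ⟨α, hα, hαe⟩ := Cfsg.Agent.H785.exists_aut_normalizerIn hrec (Hπ S hES A ⟨x, hx⟩).2 hnorm
  obtain ⟨y, hy, hyα⟩ := exists_Hs (S := S) (nIn_le S E) hα
  have hyE : ∀ e : E, y * La S e * y⁻¹ = La S ((Hπ S hES A ⟨x, hx⟩ : MulAut E) e : E) := by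
    intro e
    have h1 := hyα ⟨e, le_nIn hE e.2⟩
    rw [h1, hαe e e.2]
  refine ⟨x⁻¹ * y, Subgroup.mem_inf.2 ⟨mul_mem (inv_mem hx) ⟨_, (Hπ S hES A ⟨x, hx⟩).2, hyE⟩,
    mem_centralizer_iff.2 fun a ha => ?_⟩, by rw [mul_inv_cancel_left]; exact hy⟩
  obtain ⟨e, he, rfl⟩ := (mem_Rg hES).1 ha
  have h1 := hyE ⟨e, he⟩
  have h2 := Hπ_spec hES ⟨x, hx⟩ ⟨e, he⟩
  have h3 : x * La S e * x⁻¹ = y * La S e * y⁻¹ := by rw [h1]; exact h2
  have h4 : La S e = x⁻¹ * (y * La S e * y⁻¹) * x := by rw [← h3]; group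
  calc La S e * (x⁻¹ * y) = x⁻¹ * (y * La S e * y⁻¹) * x * (x⁻¹ * y) := by rw [← h4]
    _ = x⁻¹ * y * La S e := by group

include hS hF hE in
theorem par_of_essential (ix : E.relIndex (normalizerIn S E) = p) :
    Par p (Rg S (normalizerIn S E)) (Rg S E) (Hs S (F.autGroup E)) (Hs S (F.autGroup (normalizerIn S E))) where
  pN := Rg_pgroup hS _
  EN := Rg_mono (le_nIn hE)
  ix := by rw [Rg_relIndex (nIn_le S E)]; exact ix
  NH := RN_le_H hE
  HE := Hs_norm hE.1.1 _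
  N0 := by
    intro x hx
    obtain ⟨g, hg, rfl⟩ := (mem_Rg (nIn_le S E)).1 hx
    exact La_mem_Hs (nIn_le S E) (autInducedBy_le_autGroup F (nIn_le S E)) hg.1 (le_normalizer hg)
  H0N := Hs_norm (nIn_le S E) _
  syl := syl_of_essential hS hF hE
  ext := ext_of_essential hS hF hE

include hS hF in
theorem top_of_sat : Top p (Rg S S) (Hs S (F.autGroup S)) := by
  obtain ⟨-, R, hR⟩ := isFullyAutomized_of_isFullyNormalized hS hF (Cfsg.Agent.H785.isFullyNormalized_self F)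
  have h1 : ¬ p ∣ (R : Subgroup (F.autGroup S)).index := R.not_dvd_index
  intro hdvd
  apply h1
  rw [← (R : Subgroup (F.autGroup S)).index_comap_of_surjective (Hπ_surj le_rfl (F.autGroup S))]
  refine hdvd.trans (Subgroup.index_dvd_of_le ?_)
  intro x hx
  rw [mem_comap, hR, mem_subgroupOf] at hx
  obtain ⟨g, hg, hgx⟩ := (mem_autInducedBy_iff S S _).1 hx
  have hLa : La S g ∈ Rg S S := (mem_Rg le_rfl).2 ⟨g, hg, rfl⟩
  have hLaH : La S g ∈ Hs S (F.autGroup S) :=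
    La_mem_Hs le_rfl (autInducedBy_le_autGroup F le_rfl) hg (le_normalizer hg)
  rw [mem_subgroupOf]
  have h2 : (La S g)⁻¹ * (x : Equiv.Perm ↥S) ∈ CE (Hs S (F.autGroup S)) (Rg S S) := by
    refine Subgroup.mem_inf.2 ⟨mul_mem (inv_mem hLaH) x.2, mem_centralizer_iff.2 fun a ha => ?_⟩
    obtain ⟨e, he, rfl⟩ := (mem_Rg le_rfl).1 ha
    have h3 := Hπ_spec le_rfl x ⟨e, he⟩
    rw [hgx, La_mul (mul_mem hg he) (inv_mem hg), La_mul hg he, La_inv hg] at h3
    have h4 : (x : Equiv.Perm ↥S) * La S e = La S g * La S e * (La S g)⁻¹ * x := by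
      rw [← h3, inv_mul_cancel_right]
    rw [mul_assoc, h4]
    group
  have h3 := mul_mem (mem_sup_left hLa : _ ∈ Rg S S ⊔ CE (Hs S (F.autGroup S)) (Rg S S)) (mem_sup_right h2)
  rwa [mul_inv_cancel_left] at h3

end ess

end Cfsg.Agent.H765
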