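import Cfsg.Agent.H765.Real2

/-!
# The index of an essential subgroup in its normalizer; invariant subgroups and the core (helper765)
-/

set_option autoImplicit false
set_option linter.unusedSectionVars false
set_option linter.unusedSimpArgs false
set_option linter.unusedVariables false

namespace Cfsg.Agent.H765

open Module Subgroup Cfsg Cfsg.FusionSystem Cfsg.Agent.H802

universe u

variable {Ω : Type u} [Group Ω] {S : Subgroup Ω} {p : ℕ} [Fact p.Prime] [Finite S]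

/-- The index of an essential subgroup in its normalizer is `p`. -/
theorem ix_of_essential {F : FusionSystem S} {E : Subgroup Ω} (hS : IsPGroup p S) (hF : F.IsSaturated p)
    (hE : F.IsEssential p E) (hr : SR p (Rg S S)) : E.relIndex (normalizerIn S E) = p := by
  have hpp : p.Prime := Fact.out
  have hES := hE.1.1
  have hfinE : Finite E := finite_of_le hES
  set A := F.autGroup E with hA
  obtain ⟨-, -, hI, M, hM⟩ := id hE
  have hHE : Hs S A ≤ normalizer (Rg S E : Set (Equiv.Perm ↥S)) := Hs_norm hES A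
  have hEH : Rg S E ≤ Hs S A := (Rg_mono (le_nIn hE)).trans (RN_le_H hE)
  have nF : Hs S A ≤ normalizer (Fr p (Rg S E) : Set (Equiv.Perm ↥S)) := norm_Fr hHE
  have hs : Sct p (Hs S A) (Rg S E) (Fr p (Rg S E)) := ⟨Fr_le _ _, hHE, nF, hEH.trans nF,
    fun a ha b hb => comm_mem_Fr ha hb, fun a ha => pow_mem_Fr ha⟩
  have hcard : (Fr p (Rg S E)).relIndex (Rg S E) ≤ p ^ 3 := hr _ _ (Fr_le _ _) (Rg_mono hES) hs.comm hs.pow
  have hEp : IsPGroup p (Rg S E) := Rg_pgroup hS E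
  obtain ⟨V, i1, i2, ⟨s⟩⟩ := hs.exists_rep
  have hfinV : Module.Finite (ZMod p) V := s.finite
  have hdim : finrank (ZMod p) V ≤ 3 := s.finrank_le (Fr_le _ _) hcard
  let π' : Hs S A →* A ⧸ (Inn E).subgroupOf A := (QuotientGroup.mk' _).comp (Hπ S hES A)
  have hπ's : Function.Surjective π' := (QuotientGroup.mk'_surjective _).comp (Hπ_surj hES A)
  have hπ'k : ∀ x : Hs S A, π' x = 1 ↔ (Hπ S hES A x : MulAut E) ∈ Inn E := by
    intro x
    show QuotientGroup.mk' _ (Hπ S hES A x) = 1 ↔ _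
    rw [QuotientGroup.mk'_apply, QuotientGroup.eq_one_iff, mem_subgroupOf]
  have hρk : ∀ x : Hs S A, s.ρ x = 1 ↔ (x : Equiv.Perm ↥S) ∈ cs (Rg S E) (Fr p (Rg S E)) := fun x =>
    (s.mem_cs_iff hHE nF x).symm
  have hk1 : ∀ x : Hs S A, π' x = 1 → s.ρ x = 1 := by
    intro x hx
    rw [hρk]
    obtain ⟨e, he⟩ := (hπ'k x).1 hx
    refine ⟨nF x.2, fun r hr' => ?_⟩
    obtain ⟨g, hg, rfl⟩ := (mem_Rg hES).1 hr'
    have h1 := Hπ_spec hES x ⟨g, hg⟩
    rw [← he] at h1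
    have h2 : (x : Equiv.Perm ↥S) * La S g * (x : Equiv.Perm ↥S)⁻¹ = La S (e * g * (e : Ω)⁻¹) := h1
    rw [h2, La_mul (mul_mem (hES e.2) (hES hg)) (inv_mem (hES e.2)), La_mul (hES e.2) (hES hg), La_inv (hES e.2)]
    exact comm_mem_Fr ((mem_Rg hES).2 ⟨e, e.2, rfl⟩) hr'
  let K : Subgroup (MulAut E) := ((s.ρ.ker).map (Hπ S hES A)).map A.subtype
  have hKI : K ≤ Inn E := by
    have hKA : K ≤ F.autGroup E := by
      rintro _ ⟨x, -, rfl⟩
      exact x.2
    refine Ess.le_inn hS hE K hKA ?_ ?_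
    · rintro a ha _ ⟨_, ⟨x, hx, rfl⟩, rfl⟩
      obtain ⟨y, hy⟩ := Hπ_surj hES A ⟨a, ha⟩
      refine ⟨Hπ S hES A (y * x * y⁻¹), ⟨y * x * y⁻¹, ?_, rfl⟩, ?_⟩
      · rw [SetLike.mem_coe, MonoidHom.mem_ker] at hx ⊢
        rw [map_mul, map_mul, hx, mul_one, ← map_mul, mul_inv_cancel, map_one]
      · have h1 : Hπ S hES A (y * x * y⁻¹) = ⟨a, ha⟩ * Hπ S hES A x * ⟨a, ha⟩⁻¹ := by
          rw [map_mul, map_mul, map_inv, hy]
        rw [h1]
        rfl
    · rintro ⟨_, ⟨_, ⟨x, hx, rfl⟩, rfl⟩⟩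
      have hxρ : s.ρ x = 1 := hx
      rw [hρk] at hxρ
      have hpt : PT p (zpowers (x : Equiv.Perm ↥S)) (Rg S E) (Fr p (Rg S E)) := by
        intro j hj
        refine ⟨0, ?_⟩
        rw [pow_zero, pow_one]
        exact (zpowers_le.2 hxρ : zpowers (x : Equiv.Perm ↥S) ≤ _) hj
      obtain ⟨k, hk⟩ := (hpt.frattini hEp (by rw [zpowers_le]; exact hHE x.2)) x (mem_zpowers _)
      refine ⟨k, ?_⟩
      apply Subtype.ext
      have h1 : Hπ S hES A (x ^ p ^ k) = 1 := by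
        rw [Hπ_ker]
        refine Subgroup.mem_inf.2 ⟨(x ^ p ^ k).2, mem_centralizer_iff.2 fun r hr => ?_⟩
        exact (mem_cs_bot.1 hk r hr).symm
      rw [map_pow] at h1
      exact congrArg (Subtype.val : A → MulAut E) h1
  have hk2 : ∀ x : Hs S A, s.ρ x = 1 → π' x = 1 := by
    intro x hx
    rw [hπ'k]
    exact hKI ⟨_, ⟨x, hx, rfl⟩, rfl⟩
  let ρ' : (A ⧸ (Inn E).subgroupOf A) →* (V ≃ₗ[ZMod p] V) :=
    π'.liftOfSurjective hπ's ⟨s.ρ, fun x hx => by
      rw [MonoidHom.mem_ker] at hx ⊢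
      exact hk1 x hx⟩
  have hρ' : ∀ x, ρ' (π' x) = s.ρ x := fun x =>
    MonoidHom.liftOfRightInverse_comp_apply π' _ (Function.rightInverse_surjInv hπ's) _ x
  have hρ'i : Function.Injective ρ' := by
    rw [injective_iff_map_eq_one]
    intro y hy
    obtain ⟨x, rfl⟩ := hπ's y
    rw [hρ'] at hy
    exact hk2 x hy
  have hfinA : Finite (A ⧸ (Inn E).subgroupOf A) := inferInstance
  have h2 := GL3.not_sq_dvd hρ'i hdim hM
  -- the image of `N_S(E)`
  have hfinN : Finite (normalizerIn S E) := finite_of_le (nIn_le S E)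
  have hLa : ∀ g : normalizerIn S E, La S g ∈ Hs S A := fun g =>
    RN_le_H hE ((mem_Rg (nIn_le S E)).2 ⟨g, g.2, rfl⟩)
  let f : normalizerIn S E →* A ⧸ (Inn E).subgroupOf A :=
    { toFun := fun g => π' ⟨La S g, hLa g⟩
      map_one' := by
        have : (⟨La S ((1 : normalizerIn S E) : Ω), hLa 1⟩ : Hs S A) = 1 := Subtype.ext La_one
        rw [this, map_one]
      map_mul' := fun a b => by
        have : (⟨La S ((a * b : normalizerIn S E) : Ω), hLa (a * b)⟩ : Hs S A) = ⟨La S a, hLa a⟩ * ⟨La S b, hLa b⟩ :=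
          Subtype.ext (La_mul (nIn_le S E a.2) (nIn_le S E b.2))
        rw [this, map_mul] }
  have hfk : f.ker = E.subgroupOf (normalizerIn S E) := by
    ext g
    rw [MonoidHom.mem_ker, mem_subgroupOf]
    constructor
    · intro hg
      have h3 := (hπ'k ⟨La S g, hLa g⟩).1 hg
      exact mem_of_pi_inn hS hE g.2 ⟨La S g, hLa g⟩ rfl h3
    · intro hg
      refine (hπ'k ⟨La S g, hLa g⟩).2 ⟨⟨g, hg⟩, ?_⟩
      refine (Hπ_eq hES ⟨La S g, hLa g⟩ (α := MulAut.conj ⟨g, hg⟩) fun e => ?_).symm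
      show La S g * La S e * (La S g)⁻¹ = La S ((g : Ω) * e * (g : Ω)⁻¹)
      rw [La_mul (mul_mem (hES hg) (hES e.2)) (inv_mem (hES hg)), La_mul (hES hg) (hES e.2), La_inv (hES hg)]
  have h3 : E.relIndex (normalizerIn S E) ∣ Nat.card (A ⧸ (Inn E).subgroupOf A) := by
    have h4 : E.relIndex (normalizerIn S E) = f.ker.index := by rw [hfk]; rfl
    rw [h4, Subgroup.index_ker]
    exact Subgroup.card_subgroup_dvd_card _
  have hNp : IsPGroup p (normalizerIn S E) := hS.to_le (nIn_le S E)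
  obtain ⟨n, hn⟩ := hNp.exists_card_eq
  obtain ⟨k, -, hk⟩ := (Nat.dvd_prime_pow hpp).1 (hn ▸ relIndex_dvd_card E (normalizerIn S E))
  have hk0 : k ≠ 0 := by
    rintro rfl
    rw [pow_zero, relIndex_eq_one] at hk
    exact nIn_ne hS hF hE hk
  have hk1' : k < 2 := by
    by_contra hge
    apply h2
    refine (pow_dvd_pow p (not_lt.1 hge)).trans ?_
    rw [← hk]
    exact h3
  have : k = 1 := by omega
  rw [hk, this, pow_one]

/-- Invariant subgroups are trivial if the core is. -/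
theorem eq_bot_of_core {F : FusionSystem S} (hS : IsPGroup p S) (hF : F.IsSaturated p) (hO : F.core = ⊥)
    {R : Subgroup (Equiv.Perm ↥S)} (hRS : R ≤ Rg S S)
    (h : ∀ P : Subgroup Ω, (P = S ∨ F.IsEssential p P) →
      R ≤ Rg S P ∧ Hs S (F.autGroup P) ≤ normalizer (R : Set (Equiv.Perm ↥S))) : R = ⊥ := by
  let Q : Subgroup Ω := (R.comap (lam S)).map S.subtype
  have hQS : Q ≤ S := map_subtype_le _
  have hQm : ∀ {g : Ω}, g ∈ S → (g ∈ Q ↔ La S g ∈ R) := by
    intro g hg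
    rw [La_eq hg]
    constructor
    · rintro ⟨y, hy, rfl⟩
      exact hy
    · intro h
      exact ⟨⟨g, hg⟩, h, rfl⟩
  have hn : F.IsNormal Q := by
    rw [Cfsg.Agent.H973.isNormal_iff_essential hS hF]
    intro P hP
    have hPS : P ≤ S := by
      rcases hP with rfl | h
      · exact le_rfl
      · exact h.1.1
    have hfinP : Finite P := finite_of_le hPS
    obtain ⟨h1, h2⟩ := h P hP
    have hQP : Q ≤ P := fun g hg => (La_mem_Rg hPS (hQS hg)).1 (h1 ((hQm (hQS hg)).1 hg))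
    refine ⟨hQP, fun α hα => ?_⟩
    have key : ∀ β ∈ F.autGroup P, ∀ x : P, (x : Ω) ∈ Q → ((β x : P) : Ω) ∈ Q := by
      intro β hβ x hx
      obtain ⟨y, hy, hyβ⟩ := exists_Hs (S := S) hPS hβ
      rw [hQm (hPS (β x).2), ← hyβ]
      exact conj_mem_of_norm (h2 hy) ((hQm (hPS x.2)).1 hx)
    apply le_antisymm
    · rintro _ ⟨x, hx, rfl⟩
      exact mem_subgroupOf.2 (key α hα x (mem_subgroupOf.1 hx))
    · intro x hx
      refine ⟨α⁻¹ x, mem_subgroupOf.2 (key α⁻¹ (inv_mem hα) x (mem_subgroupOf.1 hx)), ?_⟩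
      exact MulAut.apply_inv_self _ _ _
  have h1 : Q ≤ ⊥ := by
    rw [← hO]
    exact Cfsg.Agent.H759.IsNormal.le_core hn
  rw [eq_bot_iff]
  intro x hx
  obtain ⟨g, hg, rfl⟩ := (mem_Rg le_rfl).1 (hRS hx)
  have h2 := h1 ((hQm hg).2 hx)
  rw [mem_bot] at h2 ⊢
  rw [h2, La_one]

end Cfsg.Agent.H765
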