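import Cfsg.Agent.H765.CaseA1
import Cfsg.Agent.H765.Real3
import Cfsg.Agent.H802.FusKGood

/-!
# Essential subgroups not normal in `S` (helper765)
-/

set_option autoImplicit false
set_option linter.unusedSectionVars false
set_option linter.unusedSimpArgs false
set_option linter.unusedVariables false

namespace Cfsg.Agent.H765

open Module Subgroup Cfsg Cfsg.FusionSystem Cfsg.Agent.H802

universe u

theorem frattini_eq_Fr {X : Type*} [Group X] {p : ℕ} [Fact p.Prime] {E : Subgroup X} [Finite E] (hE : IsPGroup p E) :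
    frattini ↥E = (Fr p E).subgroupOf E := by
  apply le_antisymm
  · have hn : ((Fr p E).subgroupOf E).Normal := by
      refine ⟨fun x hx g => mem_subgroupOf.2 ?_⟩
      exact conj_mem_of_norm (norm_Fr (le_normalizer : E ≤ _) g.2) (mem_subgroupOf.1 hx)
    exact Cfsg.Agent.Lib.FrattiniPGroup.frattini_le (p := p) _
      (fun x y => mem_subgroupOf.2 (comm_mem_Fr x.2 y.2)) (fun x => mem_subgroupOf.2 (pow_mem_Fr x.2))
  · intro x hx
    obtain ⟨y, hy, hyx⟩ := Fr_le_frattini hE (mem_subgroupOf.1 hx)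
    rwa [← Subtype.ext hyx]

theorem frattini_index {X : Type*} [Group X] {p : ℕ} [Fact p.Prime] {E : Subgroup X} [Finite E] (hE : IsPGroup p E) :
    (frattini ↥E).index = (Fr p E).relIndex E := by
  rw [frattini_eq_Fr hE]
  rfl

variable {Ω : Type u} [Group Ω] {S : Subgroup Ω} {p : ℕ} [Fact p.Prime] [Finite S]

theorem Fr_Rg {E : Subgroup Ω} (hE : E ≤ S) : Fr p (Rg S E) = Rg S (Fr p E) := by
  have h1 : (Fr p (E.subgroupOf S)).map S.subtype = Fr p E := by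
    rw [← Fr_map, Subgroup.subgroupOf_map_subtype, inf_eq_left.2 hE]
  have h2 : Fr p (E.subgroupOf S) = (Fr p E).subgroupOf S := by
    rw [← h1]
    exact (Subgroup.comap_map_eq_self_of_injective S.subtype_injective _).symm
  rw [Rg, Fr_map, h2, Rg]

theorem Fr_relIndex {E : Subgroup Ω} (hS : IsPGroup p S) (hE : E ≤ S) :
    (Fr p (Rg S E)).relIndex (Rg S E) = (frattini ↥E).index := by
  have : Finite E := Finite.of_injective _ (inclusion_injective hE)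
  rw [Fr_Rg hE, Rg_relIndex hE, frattini_index (hS.to_le hE)]

/-- A subgroup `P` above `N = N_S(E)` not normalizing `E`. -/
theorem exists_P (hS : IsPGroup p S) {F : FusionSystem S} {E : Subgroup Ω} (hE : F.IsEssential p E)
    (hn : ¬ S ≤ normalizer (E : Set Ω)) :
    ∃ P : Subgroup Ω, normalizerIn S E ≤ P ∧ P ≤ S ∧ P ≤ normalizer (normalizerIn S E : Set Ω) ∧
      (normalizerIn S E).relIndex P = p ∧ ¬ P ≤ normalizer (E : Set Ω) := by
  have hpp : p.Prime := Fact.out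
  have hNS := nIn_le S E
  have hne : normalizerIn S E ≠ S := by
    intro hh
    apply hn
    rw [← hh]
    exact inf_le_right
  have h1 := card_lt_card_normalizerIn hS hNS hne
  obtain ⟨T, hT⟩ : ∃ T, T = normalizerIn S (normalizerIn S E) := ⟨_, rfl⟩
  rw [← hT] at h1
  have hTS : T ≤ S := hT ▸ nIn_le _ _
  have hfT : Finite T := finite_of_le hTS
  have hfN : Finite (normalizerIn S E) := finite_of_le hNS
  have hNT : normalizerIn S E ≤ T := hT ▸ le_normalizerIn hNS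
  have hTn : T ≤ normalizer (normalizerIn S E : Set Ω) := hT ▸ inf_le_right
  have hTp := hS.to_le hTS
  obtain ⟨x, hx, hxN, hxp, -⟩ := exists_mod_in hTp le_rfl hNT (fun hh => absurd (Subgroup.card_le_of_le hh) (not_le.2 h1))
    hTn (le_normalizer)
  have hPT : normalizerIn S E ⊔ zpowers x ≤ T := sup_le hNT (by rwa [zpowers_le])
  refine ⟨normalizerIn S E ⊔ zpowers x, le_sup_left, hPT.trans hTS, hPT.trans hTn, ?_, ?_⟩
  · have h2 := card_sup_zpowers_le (hTn hx) hxp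
    have h3 := grow hTp hNT hx hxN
    have h4 := card_mul_relIndex' (le_sup_left : normalizerIn S E ≤ normalizerIn S E ⊔ zpowers x)
    have h5 : Nat.card (normalizerIn S E) * (normalizerIn S E).relIndex (normalizerIn S E ⊔ zpowers x) =
        Nat.card (normalizerIn S E) * p := by rw [h4]; exact le_antisymm h2 h3
    exact Nat.eq_of_mul_eq_mul_left Nat.card_pos h5
  · intro hh
    exact hxN (Subgroup.mem_inf.2 ⟨hTS hx, hh (mem_sup_right (mem_zpowers x))⟩)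

theorem norm_of_Rg {E : Subgroup Ω} (hE : E ≤ S) {x : Ω} (hx : x ∈ S)
    (h : La S x ∈ normalizer (Rg S E : Set (Equiv.Perm ↥S))) : x ∈ normalizer (E : Set Ω) := by
  have hfE : Finite E := finite_of_le hE
  apply mem_norm_of_cj
  refine Subgroup.eq_of_le_of_card_ge ?_ cj_card.ge
  rintro _ ⟨e, he, rfl⟩
  show x * e * x⁻¹ ∈ E
  have h1 := conj_mem_of_norm h ((La_mem_Rg hE (hE he)).2 he)
  rw [← La_inv hx, ← La_mul hx (hE he), ← La_mul (mul_mem hx (hE he)) (inv_mem hx)] at h1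
  exact (La_mem_Rg hE (mul_mem (mul_mem hx (hE he)) (inv_mem hx))).1 h1

theorem Rg_le_Hs {F : FusionSystem S} {N P : Subgroup Ω} (hNS : N ≤ S) (hPS : P ≤ S)
    (hPN : P ≤ normalizer (N : Set Ω)) : Rg S P ≤ Hs S (F.autGroup N) := by
  intro x hx
  obtain ⟨g, hg, rfl⟩ := (mem_Rg hPS).1 hx
  exact La_mem_Hs hNS (autInducedBy_le_autGroup F hNS) (hPS hg) (hPN hg)

theorem not_Rg_norm {E P : Subgroup Ω} (hE : E ≤ S) (hPS : P ≤ S) (hP : ¬ P ≤ normalizer (E : Set Ω)) :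
    ¬ Rg S P ≤ normalizer (Rg S E : Set (Equiv.Perm ↥S)) := by
  intro hh
  apply hP
  intro x hx
  exact norm_of_Rg hE (hPS hx) (hh ((mem_Rg hPS).2 ⟨x, hx, rfl⟩))

/-- Restriction of elements normalizing `E`. -/
theorem restr_of_norm {F : FusionSystem S} {E N : Subgroup Ω} (hEN : E ≤ N) (hNS : N ≤ S) {x : Equiv.Perm ↥S}
    (hx : x ∈ Hs S (F.autGroup N)) (hn : x ∈ normalizer (Rg S E : Set (Equiv.Perm ↥S))) :
    x ∈ Hs S (F.autGroup E) := by
  have hES := hEN.trans hNS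
  have hfE : Finite E := finite_of_le hES
  obtain ⟨α, hα, hαe⟩ := hx
  have hα' := (mem_autGroup_iff F hNS α).1 hα
  -- the restriction
  have hmaps : ∀ e (he : e ∈ E), ((α ⟨e, hEN he⟩ : N) : Ω) ∈ E := by
    intro e he
    have h1 := conj_mem_of_norm hn ((La_mem_Rg hES (hES he)).2 he)
    rw [hαe ⟨e, hEN he⟩] at h1
    exact (La_mem_Rg hES (hNS (α ⟨e, hEN he⟩).2)).1 h1
  have h2 : (N.subtype.comp α.toMonoidHom).comp (inclusion hEN) ∈ F.Hom E := restrict_mem hα' hEN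
  obtain ⟨β, hβ, hβe⟩ := exists_aut h2 (range_eq_of_mapsTo h2 fun y => hmaps y y.2)
  refine ⟨β, hβ, fun e => ?_⟩
  have h3 := hαe ⟨e, hEN e.2⟩
  have h4 := hβe e
  rw [h3, h4]
  rfl

/-- Essential subgroups satisfy the additional properties. -/
theorem ad_of_essential (hS : IsPGroup p S) {F : FusionSystem S} (hF : F.IsSaturated p) {E : Subgroup Ω}
    (hE : F.IsEssential p E) : Ad p (Rg S (normalizerIn S E)) (Rg S E) (Hs S (F.autGroup E))
      (Hs S (F.autGroup (normalizerIn S E))) := by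
  have hNS := nIn_le S E
  have hEN := le_nIn hE
  have hES := hE.1.1
  refine ⟨fun x hx => restr_of_norm hEN hNS hx.1 hx.2, fun c hc hcE => ?_⟩
  obtain ⟨α, hα, hαe⟩ := id hc
  have hα' := (mem_autGroup_iff F hNS α).1 hα
  obtain ⟨z, hz, hzC, hzα⟩ := exists_conj_of_id_on_centric_normal hS hF hE.1 hEN (inf_le_right) hα' (fun x hx => by
    have h1 := hαe ⟨x, hEN hx⟩
    have h2 := mem_centralizer_iff.1 hcE (La S x) ((La_mem_Rg hES (hES hx)).2 hx)
    have h3 : c * La S x * c⁻¹ = La S x := by rw [← h2, mul_inv_cancel_right]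
    have h4 : La S x = La S ((α ⟨x, hEN hx⟩ : normalizerIn S E) : Ω) := by rw [← h1]; exact h3.symm
    exact (La_inj (hES hx) (hNS (α ⟨x, hEN hx⟩).2) h4).symm)
  have hzS := hES hz
  have hz0 : La S z ∈ Hs S (F.autGroup (normalizerIn S E)) :=
    Rg_le_Hs hNS hNS le_normalizer ((mem_Rg hNS).2 ⟨z, hEN hz, rfl⟩)
  have h5 : (La S z)⁻¹ * c ∈ CE (Hs S (F.autGroup (normalizerIn S E))) (Rg S (normalizerIn S E)) := by
    refine Subgroup.mem_inf.2 ⟨mul_mem (inv_mem hz0) hc, mem_centralizer_iff.2 fun r hr => ?_⟩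
    obtain ⟨x, hx, rfl⟩ := (mem_Rg hNS).1 hr
    have h6 := hαe ⟨x, hx⟩
    have h7 := hzα ⟨x, hx⟩
    have h8 : ((α ⟨x, hx⟩ : normalizerIn S E) : Ω) = z * x * z⁻¹ := h7
    rw [h8, La_mul (mul_mem hzS (hNS hx)) (inv_mem hzS), La_mul hzS (hNS hx), La_inv hzS] at h6
    have h9 : c * La S x = La S z * La S x * (La S z)⁻¹ * c := by rw [← h6, inv_mul_cancel_right]
    calc La S x * ((La S z)⁻¹ * c) = (La S z)⁻¹ * (La S z * La S x * (La S z)⁻¹ * c) := by group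
      _ = (La S z)⁻¹ * c * La S x := by rw [← h9, mul_assoc]
  have h6 := mul_mem (mem_sup_left ((La_mem_Rg hES hzS).2 hz) :
    La S z ∈ Rg S E ⊔ CE (Hs S (F.autGroup (normalizerIn S E))) (Rg S (normalizerIn S E))) (mem_sup_right h5)
  rwa [mul_inv_cancel_left] at h6

/-- Extension of automorphisms of a fully normalized subgroup. -/
theorem ext_full (hS : IsPGroup p S) {F : FusionSystem S} (hF : F.IsSaturated p) {N P : Subgroup Ω}
    (hN : F.IsFullyNormalized N) (hNP : N ≤ P) (hPS : P ≤ S) (hPN : P ≤ normalizer (N : Set Ω))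
    (hc : ∀ x ∈ S, x ∈ centralizer (N : Set Ω) → x ∈ N) :
    ∀ x ∈ Hs S (F.autGroup N), (∀ u ∈ Rg S P, x * u * x⁻¹ ∈ Rg S P ⊔ CE (Hs S (F.autGroup N)) (Rg S N)) →
      ∃ c ∈ CE (Hs S (F.autGroup N)) (Rg S N), ∀ u ∈ Rg S P, (x * c) * u * (x * c)⁻¹ ∈ Rg S P := by
  intro x hx hxP
  have hNS := hNP.trans hPS
  have hfinN : Finite N := finite_of_le hNS
  have hfinP : Finite P := finite_of_le hPS
  have hrec : F.IsReceptive N := isReceptive_of_isFullyNormalized hS hF hN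
  obtain ⟨α, hα, hαe⟩ := id hx
  have hα' := (mem_autGroup_iff F hNS α).1 hα
  have hr : (N.subtype.comp α.toMonoidHom).range = N := range_eq_of_mapsTo hα' (fun x => (α x).2)
  have hnn : Rg S P ≤ normalizer (CE (Hs S (F.autGroup N)) (Rg S N) : Set (Equiv.Perm ↥S)) :=
    (Rg_le_Hs hNS hPS hPN).trans (norm_inf (norm_self _) (norm_centralizer (Hs_norm hNS _)))
  -- the elements of `P` are carried to elements of `P`
  have key : ∀ g ∈ P, ∃ k ∈ P, ∀ n (hn : n ∈ N) (hgn : g * n * g⁻¹ ∈ N),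
      ((α ⟨g * n * g⁻¹, hgn⟩ : N) : Ω) = k * ((α ⟨n, hn⟩ : N) : Ω) * k⁻¹ := by
    intro g hg
    have h1 := hxP _ ((mem_Rg hPS).2 ⟨g, hg, rfl⟩)
    obtain ⟨a, ha, c, hc', hac⟩ := (mem_sup_iff hnn).1 h1
    obtain ⟨k, hk, rfl⟩ := (mem_Rg hPS).1 ha
    refine ⟨k, hk, fun n hn hgn => ?_⟩
    have hgS := hPS hg
    have hkS := hPS hk
    have e1 := hαe ⟨g * n * g⁻¹, hgn⟩
    have e2 := hαe ⟨n, hn⟩
    have hαn := hNS (α ⟨n, hn⟩).2
    have e3 := mem_centralizer_iff.1 hc'.2 (La S (α ⟨n, hn⟩ : N)) ((La_mem_Rg hNS hαn).2 (α ⟨n, hn⟩).2)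
    apply La_inj (S := S) (hNS (α ⟨g * n * g⁻¹, hgn⟩).2) (mul_mem (mul_mem hkS hαn) (inv_mem hkS))
    rw [← e1, La_mul (mul_mem hkS hαn) (inv_mem hkS), La_mul hkS hαn, La_inv hkS]
    show x * La S (g * n * g⁻¹) * x⁻¹ = _
    rw [La_mul (mul_mem hgS (hNS hn)) (inv_mem hgS), La_mul hgS (hNS hn), La_inv hgS]
    have e2' : x * La S n * x⁻¹ = La S ((α ⟨n, hn⟩ : N) : Ω) := e2
    calc x * (La S g * La S n * (La S g)⁻¹) * x⁻¹ =
        (x * La S g * x⁻¹) * (x * La S n * x⁻¹) * (x * La S g * x⁻¹)⁻¹ := by group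
      _ = (La S k * c) * La S ((α ⟨n, hn⟩ : N) : Ω) * (La S k * c)⁻¹ := by rw [← hac, e2']
      _ = La S k * (c * La S ((α ⟨n, hn⟩ : N) : Ω)) * c⁻¹ * (La S k)⁻¹ := by group
      _ = _ := by rw [← e3]; group
  obtain ⟨ψ₀, hψ₀, hψ₀e⟩ := hrec.2 N _ hα' hr
  have hPE : P ≤ extender S N (N.subtype.comp α.toMonoidHom) := by
    intro g hg
    rw [mem_extender_iff]
    obtain ⟨k, hk, hke⟩ := key g hg
    exact ⟨hPS hg, hPN hg, k, hPS hk, fun n hn => hke n n.2 hn⟩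
  have hψ := restrict_mem hψ₀ hPE
  obtain ⟨ψ, hψd⟩ : ∃ ψ, ψ = ψ₀.comp (inclusion hPE) := ⟨_, rfl⟩
  rw [← hψd] at hψ
  have hψN : ∀ n (hn : n ∈ N), ψ ⟨n, hNP hn⟩ = ((α ⟨n, hn⟩ : N) : Ω) := by
    intro n hn
    rw [hψd]
    exact hψ₀e n hn (hPE (hNP hn))
  have hψS : ∀ g : P, ψ g ∈ S := hom_apply_mem hψ
  have hmaps : ∀ g : P, ψ g ∈ P := by
    intro g
    obtain ⟨k, hk, hke⟩ := key g g.2
    have h1 : k⁻¹ * ψ g ∈ N := by
      refine hc _ (mul_mem (inv_mem (hPS hk)) (hψS g)) (mem_centralizer_iff.2 fun m hm => ?_)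
      obtain ⟨n, hn⟩ := α.surjective ⟨m, hm⟩
      have hn' : ((α n : N) : Ω) = m := congrArg Subtype.val hn
      have hgn : (g : Ω) * n * (g : Ω)⁻¹ ∈ N := conj_mem_of_norm (hPN g.2) n.2
      have h2 := hke n n.2 hgn
      rw [← hψN _ hgn] at h2
      have h3 : (⟨(g : Ω) * n * (g : Ω)⁻¹, hNP hgn⟩ : P) = g * ⟨n, hNP n.2⟩ * g⁻¹ := rfl
      have h4 : ψ ⟨n, hNP n.2⟩ = m := by rw [hψN _ n.2]; exact hn'
      rw [h3, map_mul, map_mul, map_inv, h4] at h2
      have h5 : ((α ⟨n, n.2⟩ : N) : Ω) = m := hn'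
      rw [h5] at h2
      have h6 : ψ g * m = k * m * k⁻¹ * ψ g := by rw [← h2, inv_mul_cancel_right]
      calc m * (k⁻¹ * ψ g) = k⁻¹ * (k * m * k⁻¹ * ψ g) := by group
        _ = k⁻¹ * ψ g * m := by rw [← h6, mul_assoc]
    have h2 := mul_mem hk (hNP h1)
    rwa [mul_inv_cancel_left] at h2
  obtain ⟨β, hβ, hβe⟩ := exists_aut hψ (range_eq_of_mapsTo hψ hmaps)
  obtain ⟨y, hy, hyβ⟩ := exists_Hs (S := S) hPS hβ
  have hyN : ∀ n : N, y * La S n * y⁻¹ = La S ((α n : N) : Ω) := by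
    intro n
    have h1 := hyβ ⟨n, hNP n.2⟩
    rw [h1, hβe, hψN _ n.2]
  have hyP : ∀ u ∈ Rg S P, y * u * y⁻¹ ∈ Rg S P := by
    intro u hu
    obtain ⟨g, hg, rfl⟩ := (mem_Rg hPS).1 hu
    rw [hyβ ⟨g, hg⟩]
    exact (La_mem_Rg hPS (hPS (β ⟨g, hg⟩).2)).2 (β ⟨g, hg⟩).2
  refine ⟨x⁻¹ * y, Subgroup.mem_inf.2 ⟨mul_mem (inv_mem hx) ⟨α, hα, hyN⟩, mem_centralizer_iff.2 fun a ha => ?_⟩,
    by rw [mul_inv_cancel_left]; exact hyP⟩
  obtain ⟨e, he, rfl⟩ := (mem_Rg hNS).1 ha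
  have h1 := hyN ⟨e, he⟩
  have h2 := hαe ⟨e, he⟩
  have h3 : x * La S e * x⁻¹ = y * La S e * y⁻¹ := by rw [h1]; exact h2
  have h4 : La S e = x⁻¹ * (y * La S e * y⁻¹) * x := by rw [← h3]; group
  calc La S e * (x⁻¹ * y) = x⁻¹ * (y * La S e * y⁻¹) * x * (x⁻¹ * y) := by rw [← h4]
    _ = x⁻¹ * y * La S e := by group

/-- A conjugate of an essential subgroup whose normalizer is fully normalized. -/
theorem exists_full (hS : IsPGroup p S) {F : FusionSystem S} (hF : F.IsSaturated p) {E : Subgroup Ω}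
    (hE : F.IsEssential p E) : ∃ E' : Subgroup Ω, F.IsEssential p E' ∧ F.IsFullyNormalized (normalizerIn S E') ∧
      Nonempty (↥E ≃* ↥E') ∧ Nat.card (normalizerIn S E') = Nat.card (normalizerIn S E) := by
  have hNS := nIn_le S E
  have hEN := le_nIn hE
  have hES := hE.1.1
  have hfN : Finite (normalizerIn S E) := finite_of_le hNS
  have hfE : Finite E := finite_of_le hES
  obtain ⟨Q, ⟨φ, hφ, hφQ⟩, hQ⟩ := exists_isFullyNormalized hS hF hNS
  have hφi := F.injective_of_mem hφ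
  have hφE : φ.comp (inclusion hEN) ∈ F.Hom E := restrict_mem hφ hEN
  obtain ⟨φE, hφEd⟩ : ∃ φE, φE = φ.comp (inclusion hEN) := ⟨_, rfl⟩
  rw [← hφEd] at hφE
  have hφEa : ∀ e : E, φE e = φ ⟨e, hEN e.2⟩ := fun e => by rw [hφEd]; rfl
  obtain ⟨E', hE'⟩ : ∃ E', E' = φE.range := ⟨_, rfl⟩
  have hconj : F.IsConj E E' := ⟨φE, hφE, hE'.symm⟩
  have hE'S : E' ≤ S := isConj_le_right hconj
  have hQS : Q ≤ S := isConj_le_right ⟨φ, hφ, hφQ⟩
  have hE'Q : E' ≤ Q := by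
    rw [hE', ← hφQ]
    rintro _ ⟨e, rfl⟩
    exact ⟨⟨e, hEN e.2⟩, (hφEa e).symm⟩
  have hfE' : Finite E' := finite_of_le hE'S
  have hfQ : Finite Q := finite_of_le hQS
  have hfN' : Finite (normalizerIn S E') := finite_of_le (nIn_le S E')
  have hcent : F.IsCentric E' := isCentric_of_isConj hE.1 hconj
  -- `Q = N_S(E')`
  have hQN : Q ≤ normalizerIn S E' := by
    rw [← hφQ]
    rintro _ ⟨y, rfl⟩
    exact apply_mem_normalizerIn (P := E) (Q := E') (φ := φE) hφ hEN inf_le_right hE'.symm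
      (fun e he => (hφEa ⟨e, he⟩).symm) y
  have hcNQ : Nat.card (normalizerIn S E) = Nat.card Q := isConj_card_eq ⟨φ, hφ, hφQ⟩
  have hcN' : Nat.card (normalizerIn S E') ≤ Nat.card (normalizerIn S E) := hE.2.1.2 E' hconj
  have hQN' : Q = normalizerIn S E' := Subgroup.eq_of_le_of_card_ge hQN (hcN'.trans hcNQ.le)
  have hcard : Nat.card (normalizerIn S E') = Nat.card (normalizerIn S E) := by rw [← hQN', hcNQ]
  have hfull : F.IsFullyNormalized E' := by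
    refine ⟨hE'S, fun R hR => ?_⟩
    rw [hcard]
    exact hE.2.1.2 R (isConj_trans hconj hR)
  -- the inverse
  obtain ⟨θ, hθ, hθr, hθφ, hφθ⟩ := exists_inv hφ hφQ
  obtain ⟨D, hDA, hDne, hDext⟩ := exists_proper_of_isEssential hS hF hE
  have hcEE' : Nat.card E = Nat.card E' := isConj_card_eq hconj
  have hneS : E' ≠ S := by
    intro hh
    apply ne_of_isEssential hS hF hE
    exact eq_of_le_card_eq hES (by rw [hcEE', hh])
  obtain ⟨tr', htr⟩ : ∃ tr' : MulAut E ≃* MulAut E', tr' = tr hφE hE'.symm := ⟨_, rfl⟩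
  have htra : ∀ (α : MulAut E) (e : E) (h : φE e ∈ E'), ((tr' α ⟨φE e, h⟩ : E') : Ω) = φE (α e) := by
    intro α e h
    rw [htr]
    exact tr_apply hφE hE'.symm α e h
  have htrA : ∀ α : MulAut E, tr' α ∈ F.autGroup E' ↔ α ∈ F.autGroup E := by
    intro α
    rw [htr]
    exact congr_mem_autGroup_iff hφE hE'.symm
  have hess : F.IsEssential p E' := by
    refine isEssential_of_not_le hS hF hfull hcent hneS (D.map tr'.toMonoidHom) ?_ ?_
    · intro α' hα' hext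
      obtain ⟨α, rfl⟩ := tr'.surjective α'
      have hα : α ∈ F.autGroup E := (htrA α).1 hα'
      refine ⟨α, hDext α hα ?_, rfl⟩
      obtain ⟨R', hER', hcR', ψ', hψ', hψe'⟩ := hext
      have hR'S : R' ≤ S := hom_le hψ'
      have hlt := lt_inf_normalizer hS hER' hR'S (fun hh => by rw [hh] at hcR'; exact hcR'.ne rfl)
      obtain ⟨R₁, hR₁⟩ : ∃ R₁, R₁ = R' ⊓ normalizer (E' : Set Ω) := ⟨_, rfl⟩
      rw [← hR₁] at hlt
      have hR₁R' : R₁ ≤ R' := hR₁ ▸ inf_le_left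
      have hR₁Q : R₁ ≤ Q := by
        rw [hQN', hR₁]
        exact inf_le_inf_right _ hR'S
      have hfR₁ : Finite R₁ := finite_of_le (hR₁Q.trans hQS)
      have hα'' := (mem_autGroup_iff F hE'S _).1 hα'
      -- `ψ'` maps `R₁` to `Q`
      have hψR₁ : ∀ y : R₁, ψ' ⟨y, hR₁R' y.2⟩ ∈ Q := by
        intro y
        rw [hQN']
        refine apply_mem_normalizerIn (P := E') (Q := E') (R := R₁) (φ := E'.subtype.comp (tr' α).toMonoidHom)
          (restrict_mem hψ' hR₁R') hlt.le (hR₁ ▸ inf_le_right)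
          (range_eq_of_mapsTo hα'' fun x => ((tr' α) x).2) (fun x hx => ?_) y
        exact hψe' ⟨x, hx⟩
      -- `R`
      obtain ⟨R, hR⟩ : ∃ R, R = (θ.comp (inclusion hR₁Q)).range := ⟨_, rfl⟩
      have hθR₁ : θ.comp (inclusion hR₁Q) ∈ F.Hom R₁ := restrict_mem hθ hR₁Q
      have hcR : Nat.card R₁ = Nat.card R := isConj_card_eq ⟨_, hθR₁, hR.symm⟩
      have hRN : R ≤ normalizerIn S E := by
        rw [hR, ← hθr]
        rintro _ ⟨y, rfl⟩
        exact ⟨⟨y, hR₁Q y.2⟩, rfl⟩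
      have hφR : ∀ r : R, φ ⟨r, hRN r.2⟩ ∈ R₁ := by
        rintro ⟨r, hr⟩
        obtain ⟨y, hy⟩ : ∃ y : R₁, θ ⟨y, hR₁Q y.2⟩ = r := by
          rw [hR] at hr
          obtain ⟨y, hy⟩ := hr
          exact ⟨y, hy⟩
        have h1 : (⟨r, hRN hr⟩ : normalizerIn S E) = ⟨θ ⟨y, hR₁Q y.2⟩, by rw [hy]; exact hRN hr⟩ := Subtype.ext hy.symm
        show φ ⟨r, hRN hr⟩ ∈ R₁
        rw [h1, hφθ]
        exact y.2
      have hER : E ≤ R := by
        intro e he
        have h1 : φE ⟨e, he⟩ ∈ E' := by rw [hE']; exact ⟨_, rfl⟩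
        rw [hR]
        refine ⟨⟨φE ⟨e, he⟩, hlt.le h1⟩, ?_⟩
        have h2 := hθφ ⟨e, hEN he⟩ (hE'Q (by rw [← hφEa ⟨e, he⟩]; exact h1))
        show θ ⟨φE ⟨e, he⟩, _⟩ = e
        have h3 : (⟨φE ⟨e, he⟩, hR₁Q (hlt.le h1)⟩ : Q) = ⟨φ ⟨e, hEN he⟩, hE'Q (by rw [← hφEa ⟨e, he⟩]; exact h1)⟩ :=
          Subtype.ext (hφEa ⟨e, he⟩)
        exact (congrArg θ h3).trans h2
      obtain ⟨χ₁, hχ₁, hχ₁e⟩ := exists_comp (restrict_mem hφ hRN) (restrict_mem hψ' hR₁R') (fun r => hφR r)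
      obtain ⟨χ, hχ, hχe⟩ := exists_comp hχ₁ hθ (fun r => by
        rw [hχ₁e]
        exact hψR₁ _)
      refine ⟨R, hER, ?_, χ, hχ, fun e => ?_⟩
      · rw [hcEE', ← hcR]
        exact lt_of_le_of_ne (Subgroup.card_le_of_le hlt.le)
          fun heq => hlt.ne (Subgroup.eq_of_le_of_card_ge hlt.le heq.ge)
      · rw [hχe]
        have h1 : φE e ∈ E' := by rw [hE']; exact ⟨_, rfl⟩
        have h2 : χ₁ ⟨e, hER e.2⟩ = φ ⟨α e, hEN (α e).2⟩ := by
          rw [hχ₁e, ← hφEa, ← htra α e h1]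
          have h3 := hψe' ⟨φE e, h1⟩
          rw [← h3]
          have h4 : (⟨φE e, hER' h1⟩ : R') = ⟨φ ⟨e, hEN e.2⟩, hR₁R' (hφR ⟨e, hER e.2⟩)⟩ := Subtype.ext (hφEa e)
          rw [h4]
          rfl
        have h5 := hθφ ⟨α e, hEN (α e).2⟩ (by rw [← hφQ]; exact ⟨_, rfl⟩)
        rw [← h5]
        congr 1
        exact Subtype.ext h2
    · intro hh
      apply hDne
      refine le_antisymm hDA fun α hα => ?_
      obtain ⟨β, hβ, hβα⟩ := hh ((htrA α).2 hα)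
      have : β = α := tr'.injective hβα
      rw [← this]
      exact hβ
  refine ⟨E', hess, by rw [← hQN']; exact hQ, ⟨isoOf φE (F.injective_of_mem hφE) hE'.symm⟩, hcard⟩

end Cfsg.Agent.H765
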