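import Cfsg.Agent.H765.PU

/-!
# Reduction modulo an invariant subgroup (helper765)
-/

set_option autoImplicit false
set_option linter.unusedSectionVars false
set_option linter.unusedSimpArgs false
set_option linter.unusedVariables false

namespace Cfsg.Agent.H765

open Module Subgroup

universe u

variable {X : Type u} [Group X]

/-- `N(K)/K` -/
abbrev Qt (K : Subgroup X) : Type u := ↥(normalizer (K : Set X)) ⧸ K.subgroupOf (normalizer (K : Set X))

/-- the projection -/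
def qf (K : Subgroup X) : ↥(normalizer (K : Set X)) →* Qt K := QuotientGroup.mk' _

theorem qf_surj (K : Subgroup X) : Function.Surjective (qf K) := QuotientGroup.mk'_surjective _

theorem qf_ker (K : Subgroup X) : (qf K).ker = K.subgroupOf (normalizer (K : Set X)) := QuotientGroup.ker_mk' _

/-- the image -/
def im (K A : Subgroup X) : Subgroup (Qt K) := (A.subgroupOf (normalizer (K : Set X))).map (qf K)

variable {K : Subgroup X}

theorem qf_mem_im {A : Subgroup X} (hK : K ≤ A) {x : normalizer (K : Set X)} : qf K x ∈ im K A ↔ (x : X) ∈ A := by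
  have h1 : (qf K).ker ≤ A.subgroupOf (normalizer (K : Set X)) := by
    rw [qf_ker]
    exact fun y hy => mem_subgroupOf.2 (hK (mem_subgroupOf.1 hy))
  rw [im, ← mem_comap, comap_map_eq, sup_eq_left.2 h1, mem_subgroupOf]

theorem ker_le {A : Subgroup X} (hK : K ≤ A) : (qf K).ker ≤ A.subgroupOf (normalizer (K : Set X)) := by
  rw [qf_ker]
  exact fun y hy => mem_subgroupOf.2 (hK (mem_subgroupOf.1 hy))

theorem im_mono {A B : Subgroup X} (h : A ≤ B) : im K A ≤ im K B :=
  map_mono fun x hx => mem_subgroupOf.2 (h (mem_subgroupOf.1 hx))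

theorem im_self : im K K = ⊥ := by
  rw [eq_bot_iff]
  rintro _ ⟨x, hx, rfl⟩
  rw [mem_bot, ← MonoidHom.mem_ker, qf_ker]
  exact hx

theorem Par.im {p : ℕ} [Fact p.Prime] [Finite X] {N E H H0 : Subgroup X} (h : Par p N E H H0) (hK : K ≤ E)
    (nK : H ≤ normalizer (K : Set X)) (nK0 : H0 ≤ normalizer (K : Set X)) :
    Par p (im K N) (im K E) (im K H) (im K H0) :=
  (h.sub nK nK0).map (qf K) (qf_surj K) (ker_le hK)

theorem SR.im {p : ℕ} {N : Subgroup X} (h : SR p N) (nK : N ≤ normalizer (K : Set X)) : SR p (im K N) :=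
  (h.sub nK).map (qf K)

theorem Top.im {p : ℕ} {N H0 : Subgroup X} (h : Top p N H0) (nK0 : H0 ≤ normalizer (K : Set X))
    (hN : N ≤ normalizer (K : Set X)) : Top p (im K N) (im K H0) := (h.sub nK0 hN).map (qf K)

theorem Lc_im {N H : Subgroup X} (hN : N ≤ normalizer (K : Set X)) (hH : H ≤ normalizer (K : Set X)) :
    Lc (im K N) (im K H) = im K (Lc N H) := by
  rw [H765.im, H765.im, Lc_map, Lc_sub hN hH, H765.im]

theorem PT_im {p : ℕ} {J R₁ R₂ : Subgroup X} (h1 : R₁ ≤ normalizer (K : Set X)) (h2 : R₂ ≤ normalizer (K : Set X))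
    (hJ : J ≤ normalizer (K : Set X)) (hK : K ≤ R₂) :
    PT p (im K J) (im K R₁) (im K R₂) ↔ PT p J R₁ R₂ := by
  rw [H765.im, H765.im, H765.im, PT_map (qf K) (qf_surj K) (ker_le hK), PT_sub h1 h2 hJ]

theorem mem_cs_im {R₁ R₂ : Subgroup X} (h1 : R₁ ≤ normalizer (K : Set X)) (h2 : R₂ ≤ normalizer (K : Set X))
    (hK : K ≤ R₂) {x : normalizer (K : Set X)} : qf K x ∈ cs (im K R₁) (im K R₂) ↔ (x : X) ∈ cs R₁ R₂ := by
  rw [H765.im, H765.im, mem_cs_map (qf K) (qf_surj K) (ker_le hK), mem_cs_sub h1 h2]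

theorem norm_im {A B : Subgroup X} (h : A ≤ normalizer (B : Set X)) :
    im K A ≤ normalizer ((im K B : Subgroup (Qt K)) : Set (Qt K)) := norm_map _ (norm_sub h)

theorem norm_of_im {A B : Subgroup X} (hK : K ≤ B) (hA : A ≤ normalizer (K : Set X)) (hB : B ≤ normalizer (K : Set X))
    (h : im K A ≤ normalizer ((im K B : Subgroup (Qt K)) : Set (Qt K))) : A ≤ normalizer (B : Set X) := by
  refine le_norm_of fun x hx b hb => ?_
  have h1 : qf K ⟨x, hA hx⟩ ∈ im K A := ⟨_, mem_subgroupOf.2 hx, rfl⟩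
  have h2 : qf K ⟨b, hB hb⟩ ∈ im K B := ⟨_, mem_subgroupOf.2 hb, rfl⟩
  have h3 := conj_mem_of_norm (h h1) h2
  rw [← map_inv, ← map_mul, ← map_mul, qf_mem_im hK] at h3
  exact h3

theorem relIndex_im {A B : Subgroup X} (hK : K ≤ A) (hB : B ≤ normalizer (K : Set X)) :
    (im K A).relIndex (im K B) = A.relIndex B := by
  rw [H765.im, H765.im, ← Subgroup.relIndex_comap, comap_map_eq, sup_eq_left.2 (ker_le hK), relIndex_subgroupOf hB]

theorem card_im {B : Subgroup X} (hB : B ≤ normalizer (K : Set X)) : Nat.card (im K B) = K.relIndex B := by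
  rw [← relIndex_im (K := K) le_rfl hB, im_self, relIndex_bot_left]

/-- the full preimage -/
def pre (K : Subgroup X) (R : Subgroup (Qt K)) : Subgroup X := (R.comap (qf K)).map (normalizer (K : Set X)).subtype

theorem mem_pre {R : Subgroup (Qt K)} {x : X} (hx : x ∈ normalizer (K : Set X)) : x ∈ pre K R ↔ qf K ⟨x, hx⟩ ∈ R := by
  constructor
  · rintro ⟨y, hy, rfl⟩
    exact hy
  · intro h
    exact ⟨⟨x, hx⟩, h, rfl⟩

theorem pre_le_norm (R : Subgroup (Qt K)) : pre K R ≤ normalizer (K : Set X) := by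
  rintro _ ⟨y, -, rfl⟩
  exact y.2

theorem le_pre (R : Subgroup (Qt K)) : K ≤ pre K R := by
  intro x hx
  have hx' : x ∈ normalizer (K : Set X) := le_normalizer hx
  rw [mem_pre hx']
  have : qf K ⟨x, hx'⟩ = 1 := by
    rw [← MonoidHom.mem_ker, qf_ker]
    exact mem_subgroupOf.2 hx
  rw [this]
  exact one_mem _

theorem im_pre (R : Subgroup (Qt K)) : im K (pre K R) = R := by
  ext y
  obtain ⟨x, rfl⟩ := qf_surj K y
  rw [qf_mem_im (le_pre R), mem_pre x.2]

theorem pre_im {A : Subgroup X} (hK : K ≤ A) (hA : A ≤ normalizer (K : Set X)) : pre K (im K A) = A := by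
  ext x
  constructor
  · intro hx
    have hx' := pre_le_norm _ hx
    rw [mem_pre hx', qf_mem_im hK] at hx
    exact hx
  · intro hx
    rw [mem_pre (hA hx), qf_mem_im hK]
    exact hx

theorem pre_mono {R R' : Subgroup (Qt K)} (h : R ≤ R') : pre K R ≤ pre K R' := map_mono (comap_mono h)

theorem pre_norm {A : Subgroup X} (hA : A ≤ normalizer (K : Set X)) {R : Subgroup (Qt K)}
    (h : im K A ≤ normalizer (R : Set (Qt K))) : A ≤ normalizer ((pre K R : Subgroup X) : Set X) := by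
  apply norm_of_im (le_pre R) hA (pre_le_norm R)
  rwa [im_pre]

section

variable {p : ℕ} [Fact p.Prime] [Finite X] {N E H H0 : Subgroup X}

/-- The configuration modulo the core. -/
theorem IsCo.im (c : IsCo E H H0 K) (h : Par p N E H H0) :
    ∀ R ≤ im K E, im K H ≤ normalizer (R : Set (Qt K)) → im K H0 ≤ normalizer (R : Set (Qt K)) → R = ⊥ := by
  intro R h1 h2 h3
  have h4 := c.max (pre K R) (by
    have := pre_mono h1
    rwa [pre_im c.le (h.EH.trans c.n)] at this) (pre_norm c.n h2) (pre_norm c.n0 h3)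
  have h5 := im_mono (K := K) h4
  rw [im_pre, im_self] at h5
  exact le_bot_iff.1 h5

/-- **Pushing up**: `E / K` is elementary abelian. -/
theorem Par.pu_core (hp2 : p ≠ 2) (h : Par p N E H H0) (np : ¬ PT p (Lc N H) E ⊥) (sr : SR p N)
    (nn : ¬ H0 ≤ normalizer (E : Set X)) (c : IsCo E H H0 K) :
    (∀ a ∈ E, ∀ b ∈ E, a * b * a⁻¹ * b⁻¹ ∈ K) ∧ (∀ a ∈ E, a ^ p ∈ K) ∧ (K.relIndex E = p ^ 2 ∨ K.relIndex E = p ^ 3) := by
  have hEn := h.EH.trans c.n
  have hNn := h.NH.trans c.n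
  have h' := h.im c.le c.n c.n0
  have npt := c.npt h sr np nn
  have np' : ¬ PT p (Lc (H765.im K N) (H765.im K H)) (H765.im K E) ⊥ := by
    rw [Lc_im hNn c.n, ← im_self (K := K), PT_im hEn le_normalizer (h.LH.trans c.n) le_rfl]
    exact npt
  have nn' : ¬ H765.im K H0 ≤ normalizer ((H765.im K E : Subgroup (Qt K)) : Set (Qt K)) := fun hh =>
    nn (norm_of_im c.le c.n0 hEn hh)
  have ea := h'.pu_EA hp2 np' (sr.im hNn) nn' (c.im h)
  have hc := ea.card_E h' np' (sr.im hNn)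
  rw [card_im hEn] at hc
  refine ⟨fun a ha b hb => ?_, fun a ha => ?_, hc⟩
  · have h1 := ea.comm (qf K ⟨a, hEn ha⟩) ⟨_, mem_subgroupOf.2 ha, rfl⟩ (qf K ⟨b, hEn hb⟩) ⟨_, mem_subgroupOf.2 hb, rfl⟩
    have h2 : qf K (⟨a, hEn ha⟩ * ⟨b, hEn hb⟩ * ⟨a, hEn ha⟩⁻¹ * ⟨b, hEn hb⟩⁻¹) = 1 := by
      rw [map_mul, map_mul, map_mul, map_inv, map_inv, h1]
      group
    rw [← MonoidHom.mem_ker, qf_ker] at h2
    exact mem_subgroupOf.1 h2
  · have h1 := ea.pow (qf K ⟨a, hEn ha⟩) ⟨_, mem_subgroupOf.2 ha, rfl⟩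
    rw [← map_pow, ← MonoidHom.mem_ker, qf_ker] at h1
    exact mem_subgroupOf.1 h1

/-- **Pushing up**, Sylow case. -/
theorem Par.pu_core_top (hp2 : p ≠ 2) (h : Par p N E H H0) (np : ¬ PT p (Lc N H) E ⊥) (sr : SR p N)
    (nn : ¬ H0 ≤ normalizer (E : Set X)) (top : Top p N H0) (c : IsCo E H H0 K) : K.relIndex E = p ^ 2 := by
  have hEn := h.EH.trans c.n
  have hNn := h.NH.trans c.n
  have h' := h.im c.le c.n c.n0
  have npt := c.npt h sr np nn
  have np' : ¬ PT p (Lc (H765.im K N) (H765.im K H)) (H765.im K E) ⊥ := by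
    rw [Lc_im hNn c.n, ← im_self (K := K), PT_im hEn le_normalizer (h.LH.trans c.n) le_rfl]
    exact npt
  have nn' : ¬ H765.im K H0 ≤ normalizer ((H765.im K E : Subgroup (Qt K)) : Set (Qt K)) := fun hh =>
    nn (norm_of_im c.le c.n0 hEn hh)
  have hc := (h'.pu_top hp2 np' (sr.im hNn) nn' (top.im c.n0 hNn) (c.im h)).2
  rwa [card_im hEn] at hc

end

end Cfsg.Agent.H765
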