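import Cfsg.Agent.H765.GL3b

/-!
# Elementary abelian sections as modules (helper765)
-/

set_option autoImplicit false
set_option linter.unusedSectionVars false
set_option linter.unusedSimpArgs false
set_option linter.unusedVariables false

namespace Cfsg.Agent.H765

open Module Subgroup

universe u

variable {X : Type u} [Group X]

/-- The elements acting trivially on `R₁ / R₂`. -/
def cs (R₁ R₂ : Subgroup X) : Subgroup X where
  carrier := {x | x ∈ normalizer (R₂ : Set X) ∧ ∀ r ∈ R₁, x * r * x⁻¹ * r⁻¹ ∈ R₂}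
  one_mem' := ⟨one_mem _, fun r _ => by simp⟩
  mul_mem' := by
    rintro a b ⟨ha, ha'⟩ ⟨hb, hb'⟩
    refine ⟨mul_mem ha hb, fun r hr => ?_⟩
    have e : a * b * r * (a * b)⁻¹ * r⁻¹ = a * (b * r * b⁻¹ * r⁻¹) * a⁻¹ * (a * r * a⁻¹ * r⁻¹) := by group
    rw [e]
    exact mul_mem ((mem_normalizer_iff.1 ha _).1 (hb' r hr)) (ha' r hr)
  inv_mem' := by
    rintro a ⟨ha, ha'⟩
    refine ⟨inv_mem ha, fun r hr => ?_⟩
    have e : a⁻¹ * r * a⁻¹⁻¹ * r⁻¹ = a⁻¹ * (a * r * a⁻¹ * r⁻¹)⁻¹ * a⁻¹⁻¹ := by group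
    rw [e]
    exact (mem_normalizer_iff.1 (inv_mem ha) _).1 (inv_mem (ha' r hr))

theorem mem_cs {R₁ R₂ : Subgroup X} {x : X} :
    x ∈ cs R₁ R₂ ↔ x ∈ normalizer (R₂ : Set X) ∧ ∀ r ∈ R₁, x * r * x⁻¹ * r⁻¹ ∈ R₂ := Iff.rfl

theorem conj_mem_of_norm {R : Subgroup X} {x a : X} (hx : x ∈ normalizer (R : Set X)) (ha : a ∈ R) :
    x * a * x⁻¹ ∈ R := (mem_normalizer_iff.1 hx _).1 ha

/-- An elementary abelian section `R₁ / R₂` with the action of `H`. -/
structure SecRep (p : ℕ) (H R₁ R₂ : Subgroup X) (V : Type u) [AddCommGroup V] [Module (ZMod p) V] where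
  /-- the projection -/
  π : X → V
  /-- the action -/
  ρ : H →* (V ≃ₗ[ZMod p] V)
  surj : ∀ v, ∃ a ∈ R₁, π a = v
  add : ∀ a ∈ R₁, ∀ b ∈ R₁, π (a * b) = π a + π b
  zero : ∀ a ∈ R₁, (π a = 0 ↔ a ∈ R₂)
  act : ∀ (h : H), ∀ a ∈ R₁, ρ h (π a) = π ((h : X) * a * (h : X)⁻¹)

/-- `R₁ / R₂` is an elementary abelian section, normalized by `H`. -/
structure Sct (p : ℕ) (H R₁ R₂ : Subgroup X) : Prop where
  le : R₂ ≤ R₁
  n1 : H ≤ normalizer (R₁ : Set X)
  n2 : H ≤ normalizer (R₂ : Set X)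
  n12 : R₁ ≤ normalizer (R₂ : Set X)
  comm : ∀ a ∈ R₁, ∀ b ∈ R₁, a * b * a⁻¹ * b⁻¹ ∈ R₂
  pow : ∀ a ∈ R₁, a ^ p ∈ R₂

theorem exists_rep_aux {p : ℕ} [Fact p.Prime] {A : Type u} [AddCommGroup A] (hp : ∀ q : A, p • q = 0)
    {G : Type*} [Group G] (φ : G → (A →+ A)) (h1 : ∀ q, φ 1 q = q)
    (hm : ∀ x y q, φ (x * y) q = φ x (φ y q)) :
    ∃ (_ : Module (ZMod p) A) (ρ : G →* (A ≃ₗ[ZMod p] A)), ∀ x q, ρ x q = φ x q := by
  letI i3 : Module (ZMod p) A := AddCommGroup.zmodModule (n := p) hp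
  let ψ : G →* Module.End (ZMod p) A :=
    { toFun := fun x => AddMonoidHom.toZModLinearMap p (φ x)
      map_one' := LinearMap.ext fun v => h1 v
      map_mul' := fun x y => LinearMap.ext fun v => hm x y v }
  exact ⟨i3, (LinearMap.GeneralLinearGroup.generalLinearEquiv (ZMod p) A).toMonoidHom.comp
    ψ.toHomUnits, fun x q => rfl⟩

theorem Sct.exists_rep {p : ℕ} [Fact p.Prime] {H R₁ R₂ : Subgroup X} (h : Sct p H R₁ R₂) :
    ∃ (V : Type u) (_ : AddCommGroup V) (_ : Module (ZMod p) V), Nonempty (SecRep p H R₁ R₂ V) := by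
  classical
  have hn : (R₂.subgroupOf R₁).Normal := normal_subgroupOf_of_le_normalizer h.n12
  have hcomm : ∀ a b : R₁ ⧸ R₂.subgroupOf R₁, a * b = b * a := by
    intro a b
    induction a using QuotientGroup.induction_on with
    | _ a =>
    induction b using QuotientGroup.induction_on with
    | _ b =>
    show ((a * b : R₁) : R₁ ⧸ R₂.subgroupOf R₁) = ((b * a : R₁) : R₁ ⧸ R₂.subgroupOf R₁)
    rw [QuotientGroup.eq, mem_subgroupOf]
    have := h.comm ((b : X)⁻¹) (inv_mem b.2) ((a : X)⁻¹) (inv_mem a.2)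
    have e : (((a * b)⁻¹ * (b * a) : R₁) : X) = (b : X)⁻¹ * (a : X)⁻¹ * (b : X)⁻¹⁻¹ * (a : X)⁻¹⁻¹ := by
      push_cast; group
    rwa [e]
  let i1 : CommGroup (R₁ ⧸ R₂.subgroupOf R₁) :=
    { (inferInstance : Group (R₁ ⧸ R₂.subgroupOf R₁)) with
      mul_comm := hcomm }
  let c : H → (R₁ →* R₁) := fun x =>
    { toFun := fun a => ⟨(x : X) * a * (x : X)⁻¹, conj_mem_of_norm (h.n1 x.2) a.2⟩
      map_one' := by ext; simp
      map_mul' := fun a b => by
        apply Subtype.ext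
        show (x : X) * (a * b) * (x : X)⁻¹ = (x : X) * a * (x : X)⁻¹ * ((x : X) * b * (x : X)⁻¹)
        group }
  have hc : ∀ x, R₂.subgroupOf R₁ ≤ (R₂.subgroupOf R₁).comap (c x) := by
    intro x a ha
    rw [mem_subgroupOf] at ha
    exact conj_mem_of_norm (h.n2 x.2) ha
  obtain ⟨i3, ρ, hρ⟩ := exists_rep_aux (p := p) (A := Additive (R₁ ⧸ R₂.subgroupOf R₁)) (G := H) (by
      intro q
      obtain ⟨q, rfl⟩ := Additive.ofMul.surjective q
      induction q using QuotientGroup.induction_on with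
      | _ a =>
      show ((a ^ p : R₁) : R₁ ⧸ R₂.subgroupOf R₁) = 1
      rw [QuotientGroup.eq_one_iff, mem_subgroupOf]
      exact h.pow a a.2)
    (fun x => MonoidHom.toAdditive (QuotientGroup.map _ _ (c x) (hc x)))
    (by
      intro q
      obtain ⟨q, rfl⟩ := Additive.ofMul.surjective q
      induction q using QuotientGroup.induction_on with
      | _ a =>
      show Additive.ofMul ((c 1 a : R₁) : R₁ ⧸ R₂.subgroupOf R₁) = _
      congr 2
      apply Subtype.ext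
      show (1 : X) * a * (1 : X)⁻¹ = a
      simp)
    (by
      intro x y q
      obtain ⟨q, rfl⟩ := Additive.ofMul.surjective q
      induction q using QuotientGroup.induction_on with
      | _ a =>
      show Additive.ofMul ((c (x * y) a : R₁) : R₁ ⧸ R₂.subgroupOf R₁) =
        Additive.ofMul ((c x (c y a) : R₁) : R₁ ⧸ R₂.subgroupOf R₁)
      congr 2
      apply Subtype.ext
      show ((x * y : H) : X) * a * ((x * y : H) : X)⁻¹ = (x : X) * ((y : X) * a * (y : X)⁻¹) * (x : X)⁻¹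
      push_cast
      group)
  refine ⟨Additive (R₁ ⧸ R₂.subgroupOf R₁), inferInstance, i3, ⟨{
    π := fun a => if ha : a ∈ R₁ then Additive.ofMul ((⟨a, ha⟩ : R₁) : R₁ ⧸ R₂.subgroupOf R₁) else 0
    ρ := ρ
    surj := ?_
    add := ?_
    zero := ?_
    act := ?_ }⟩⟩
  · intro v
    obtain ⟨q, rfl⟩ := Additive.ofMul.surjective v
    induction q using QuotientGroup.induction_on with
    | _ a =>
    refine ⟨a, a.2, ?_⟩
    simp only [a.2, dif_pos]
  · intro a ha b hb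
    simp only [ha, hb, mul_mem ha hb, dif_pos]
    rfl
  · intro a ha
    simp only [ha, dif_pos]
    have h1 : Additive.ofMul ((⟨a, ha⟩ : R₁) : R₁ ⧸ R₂.subgroupOf R₁) = 0 ↔
      ((⟨a, ha⟩ : R₁) : R₁ ⧸ R₂.subgroupOf R₁) = 1 := Iff.rfl
    rw [h1, QuotientGroup.eq_one_iff, mem_subgroupOf]
  · intro x a ha
    have h1 : (x : X) * a * (x : X)⁻¹ ∈ R₁ := conj_mem_of_norm (h.n1 x.2) ha
    simp only [ha, h1, dif_pos]
    rw [hρ]
    rfl

namespace SecRep

variable {p : ℕ} [Fact p.Prime] {H R₁ R₂ : Subgroup X} {V : Type u} [AddCommGroup V] [Module (ZMod p) V]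
variable (s : SecRep p H R₁ R₂ V)

include s in
theorem le' (hle : R₂ ≤ R₁) : R₂ ≤ R₁ := hle

theorem one : s.π 1 = 0 := (s.zero 1 (one_mem _)).2 (one_mem _)

theorem inv {a : X} (ha : a ∈ R₁) : s.π a⁻¹ = - s.π a := by
  have := s.add a ha a⁻¹ (inv_mem ha)
  rw [mul_inv_cancel, s.one] at this
  exact (neg_eq_of_add_eq_zero_right this.symm).symm

theorem npow {a : X} (ha : a ∈ R₁) (n : ℕ) : s.π (a ^ n) = (n : ZMod p) • s.π a := by
  induction n with
  | zero => simp [s.one]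
  | succ n ih =>
    rw [pow_succ, s.add _ (pow_mem ha n) _ ha, ih]
    push_cast
    rw [add_smul, one_smul]

theorem eq_iff {a b : X} (ha : a ∈ R₁) (hb : b ∈ R₁) : s.π a = s.π b ↔ a * b⁻¹ ∈ R₂ := by
  rw [← s.zero _ (mul_mem ha (inv_mem hb)), s.add _ ha _ (inv_mem hb), s.inv hb, ← sub_eq_add_neg, sub_eq_zero]

/-- `ρ h = 1` iff `h` acts trivially on the section. -/
theorem mem_cs_iff (n1 : H ≤ normalizer (R₁ : Set X)) (n2 : H ≤ normalizer (R₂ : Set X)) (h : H) :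
    (h : X) ∈ cs R₁ R₂ ↔ s.ρ h = 1 := by
  rw [mem_cs]
  constructor
  · rintro ⟨-, h1⟩
    ext v
    obtain ⟨a, ha, rfl⟩ := s.surj v
    rw [s.act h a ha]
    exact (s.eq_iff (conj_mem_of_norm (n1 h.2) ha) ha).2 (h1 a ha)
  · intro h1
    refine ⟨n2 h.2, fun a ha => ?_⟩
    rw [← s.eq_iff (conj_mem_of_norm (n1 h.2) ha) ha, ← s.act h a ha, h1]
    rfl

/-- The projection as a homomorphism from `R₁`. -/
def hom : R₁ →* Multiplicative V where
  toFun a := Multiplicative.ofAdd (s.π a)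
  map_one' := by
    show Multiplicative.ofAdd (s.π 1) = 1
    rw [s.one]; rfl
  map_mul' a b := by
    show Multiplicative.ofAdd (s.π (a * b)) = _
    rw [s.add _ a.2 _ b.2]; rfl

theorem hom_surj : Function.Surjective s.hom := by
  intro v
  obtain ⟨a, ha, h⟩ := s.surj (Multiplicative.toAdd v)
  exact ⟨⟨a, ha⟩, congrArg Multiplicative.ofAdd h⟩

theorem hom_ker : s.hom.ker = R₂.subgroupOf R₁ := by
  ext a
  rw [MonoidHom.mem_ker, mem_subgroupOf]
  exact s.zero a a.2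

/-- The subgroup corresponding to a subspace. -/
def pull (W : Submodule (ZMod p) V) : Subgroup X where
  carrier := {a | a ∈ R₁ ∧ s.π a ∈ W}
  one_mem' := ⟨one_mem _, by rw [s.one]; exact zero_mem _⟩
  mul_mem' := by
    rintro a b ⟨ha, ha'⟩ ⟨hb, hb'⟩
    exact ⟨mul_mem ha hb, by rw [s.add a ha b hb]; exact add_mem ha' hb'⟩
  inv_mem' := by
    rintro a ⟨ha, ha'⟩
    exact ⟨inv_mem ha, by rw [s.inv ha]; exact neg_mem ha'⟩

theorem mem_pull {W : Submodule (ZMod p) V} {a : X} : a ∈ s.pull W ↔ a ∈ R₁ ∧ s.π a ∈ W := Iff.rfl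

theorem pull_le (W : Submodule (ZMod p) V) : s.pull W ≤ R₁ := fun _ h => h.1

theorem le_pull (hle : R₂ ≤ R₁) (W : Submodule (ZMod p) V) : R₂ ≤ s.pull W := fun a ha =>
  ⟨hle ha, by rw [(s.zero a (hle ha)).2 ha]; exact zero_mem _⟩

theorem pull_mono {W W' : Submodule (ZMod p) V} (h : W ≤ W') : s.pull W ≤ s.pull W' := fun _ ha =>
  ⟨ha.1, h ha.2⟩

theorem pull_top : s.pull ⊤ = R₁ := le_antisymm (s.pull_le _) fun _ ha => ⟨ha, trivial⟩

theorem pull_bot (hle : R₂ ≤ R₁) : s.pull ⊥ = R₂ := by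
  apply le_antisymm _ (s.le_pull hle _)
  rintro a ⟨ha, ha'⟩
  exact (s.zero a ha).1 ha'

theorem pull_le_pull_iff {W W' : Submodule (ZMod p) V} : s.pull W ≤ s.pull W' ↔ W ≤ W' := by
  constructor
  · intro h v hv
    obtain ⟨a, ha, rfl⟩ := s.surj v
    exact (h ⟨ha, hv⟩ : a ∈ s.pull W').2
  · exact s.pull_mono

theorem pull_norm (n1 : H ≤ normalizer (R₁ : Set X)) {W : Submodule (ZMod p) V}
    (hW : ∀ h : H, ∀ v ∈ W, s.ρ h v ∈ W) : H ≤ normalizer (s.pull W : Set X) := by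
  intro h hh
  have key : ∀ h ∈ H, ∀ a ∈ s.pull W, h * a * h⁻¹ ∈ s.pull W := by
    rintro h hh a ⟨ha, ha'⟩
    refine ⟨conj_mem_of_norm (n1 hh) ha, ?_⟩
    rw [← s.act ⟨h, hh⟩ a ha]
    exact hW _ _ ha'
  rw [mem_normalizer_iff]
  intro a
  refine ⟨key h hh a, fun ha => ?_⟩
  have := key h⁻¹ (inv_mem hh) _ ha
  have e : h⁻¹ * (h * a * h⁻¹) * h⁻¹⁻¹ = a := by group
  rwa [e] at this

/-- The subspace corresponding to a subgroup between `R₂` and `R₁`. -/
def push (A : Subgroup X) (hA : A ≤ R₁) : Submodule (ZMod p) V where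
  carrier := {v | ∃ a ∈ A, s.π a = v}
  zero_mem' := ⟨1, one_mem _, s.one⟩
  add_mem' := by
    rintro _ _ ⟨a, ha, rfl⟩ ⟨b, hb, rfl⟩
    exact ⟨a * b, mul_mem ha hb, s.add a (hA ha) b (hA hb)⟩
  smul_mem' := by
    rintro c _ ⟨a, ha, rfl⟩
    refine ⟨a ^ c.val, pow_mem ha _, ?_⟩
    rw [s.npow (hA ha), ZMod.natCast_zmod_val]

theorem mem_push {A : Subgroup X} {hA : A ≤ R₁} {v : V} : v ∈ s.push A hA ↔ ∃ a ∈ A, s.π a = v := Iff.rfl

theorem pull_push {A : Subgroup X} (hA : A ≤ R₁) (h2 : R₂ ≤ A) : s.pull (s.push A hA) = A := by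
  ext a
  constructor
  · rintro ⟨ha, b, hb, hab⟩
    have := (s.eq_iff ha (hA hb)).1 hab.symm
    have h3 := mul_mem (h2 this) hb
    rwa [inv_mul_cancel_right] at h3
  · intro ha
    exact ⟨hA ha, a, ha, rfl⟩

theorem push_inv {A : Subgroup X} (hA : A ≤ R₁) (hn : H ≤ normalizer (A : Set X)) (h : H) {v : V}
    (hv : v ∈ s.push A hA) : s.ρ h v ∈ s.push A hA := by
  obtain ⟨a, ha, rfl⟩ := hv
  exact ⟨_, conj_mem_of_norm (hn h.2) ha, (s.act h a (hA ha)).symm⟩

/-- Index and dimension. -/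
theorem relIndex_pull [Module.Finite (ZMod p) V] (hle : R₂ ≤ R₁) (W : Submodule (ZMod p) V) :
    R₂.relIndex (s.pull W) = p ^ finrank (ZMod p) W := by
  let g : s.pull W →* Multiplicative W :=
    { toFun := fun a => Multiplicative.ofAdd ⟨s.π a, a.2.2⟩
      map_one' := by
        have : (⟨s.π ((1 : s.pull W) : X), (1 : s.pull W).2.2⟩ : W) = 0 := Subtype.ext s.one
        rw [this]; rfl
      map_mul' := fun a b => by
        have : (⟨s.π ((a * b : s.pull W) : X), (a * b : s.pull W).2.2⟩ : W) =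
            ⟨s.π a, a.2.2⟩ + ⟨s.π b, b.2.2⟩ := Subtype.ext (s.add a a.2.1 b b.2.1)
        rw [this]; rfl }
  have hg : Function.Surjective g := by
    intro w
    obtain ⟨a, ha, h⟩ := s.surj (Multiplicative.toAdd w).1
    have h' : s.π a ∈ W := by rw [h]; exact (Multiplicative.toAdd w).2
    refine ⟨⟨a, ha, h'⟩, ?_⟩
    apply congrArg Multiplicative.ofAdd
    exact Subtype.ext h
  have hk : g.ker = R₂.subgroupOf (s.pull W) := by
    ext a
    rw [MonoidHom.mem_ker, mem_subgroupOf, ← s.zero a a.2.1]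
    constructor
    · intro h
      have : (⟨s.π a, a.2.2⟩ : W) = 0 := h
      exact congrArg Subtype.val this
    · intro h
      have : (⟨s.π a, a.2.2⟩ : W) = 0 := Subtype.ext h
      show Multiplicative.ofAdd (⟨s.π a, a.2.2⟩ : W) = 1
      rw [this]; rfl
  rw [relIndex, ← hk, index_ker, MonoidHom.range_eq_top.2 hg, Subgroup.card_top]
  have h1 : Nat.card (Multiplicative W) = Nat.card W := rfl
  rw [h1, Module.natCard_eq_pow_finrank (K := ZMod p) (V := W), Nat.card_zmod]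

include s in
theorem relIndex_eq [Module.Finite (ZMod p) V] (hle : R₂ ≤ R₁) :
    R₂.relIndex R₁ = p ^ finrank (ZMod p) V := by
  have := s.relIndex_pull hle ⊤
  rwa [s.pull_top, finrank_top] at this

include s in
theorem finite [Finite X] : Module.Finite (ZMod p) V := by
  have : Finite V := by
    have h1 : Finite (Multiplicative V) := Finite.of_surjective s.hom s.hom_surj
    exact h1
  exact Module.Finite.of_finite

include s in
theorem finrank_le [Module.Finite (ZMod p) V] (hle : R₂ ≤ R₁) {n : ℕ} (h : R₂.relIndex R₁ ≤ p ^ n) :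
    finrank (ZMod p) V ≤ n := by
  rw [s.relIndex_eq hle] at h
  exact (Nat.pow_le_pow_iff_right (Fact.out : p.Prime).one_lt).1 h

include s in
theorem finrank_eq [Module.Finite (ZMod p) V] (hle : R₂ ≤ R₁) {n : ℕ} (h : R₂.relIndex R₁ = p ^ n) :
    finrank (ZMod p) V = n := by
  rw [s.relIndex_eq hle] at h
  exact Nat.pow_right_injective (Fact.out : p.Prime).two_le h

end SecRep

end Cfsg.Agent.H765
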