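import Cfsg.Agent.H765.Par2

/-!
# The central involution of `SL₂(p)` acting on a section (helper765)
-/

set_option autoImplicit false
set_option linter.unusedSectionVars false
set_option linter.unusedSimpArgs false
set_option linter.unusedVariables false

namespace Cfsg.Agent.H765

open Module Subgroup

universe u

variable {X : Type u} [Group X]

/-- `V₂ / R₂` of order `p²`, `V₁ / R₂` centralized by `L`, `τ` inverts the first and centralizes the second. -/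
structure Tau (p : ℕ) (N E H H0 R₁ R₂ V₁ V₂ : Subgroup X) (τ : X) : Prop where
  le1 : R₂ ≤ V₁
  le1' : V₁ ≤ R₁
  le2 : R₂ ≤ V₂
  le2' : V₂ ≤ R₁
  sup : ∀ r ∈ R₁, ∃ a ∈ V₁, ∃ b ∈ V₂, a * b = r
  inf : ∀ r, r ∈ V₁ → r ∈ V₂ → r ∈ R₂
  n1 : H ≤ normalizer (V₁ : Set X)
  n2 : H ≤ normalizer (V₂ : Set X)
  card2 : R₂.relIndex V₂ = p ^ 2
  L1 : Lc N H ≤ cs V₁ R₂
  L2 : Lc N H ≤ cs R₁ V₂
  npt : ¬ PT p (Lc N H) V₂ R₂
  t0 : τ ∈ H0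
  tL : τ ∈ Lc N H ⊔ CE H E
  tp : (orderOf τ).Coprime p
  t1 : τ ∈ cs V₁ R₂
  t2 : ∀ v ∈ V₂, τ * v * τ⁻¹ * v ∈ R₂
  tN : τ ∈ cs N E

theorem exists_pow_mem_sup {p : ℕ} [Fact p.Prime] [Finite X] {A D : Subgroup X} (hA : IsPGroup p A)
    (hD : A ≤ normalizer (D : Set X)) {x : X} (hx : x ∈ A ⊔ D) : ∃ k : ℕ, x ^ p ^ k ∈ D := by
  obtain ⟨e, he, d, hd, rfl⟩ := (mem_sup_iff hD).1 hx
  obtain ⟨m, hm⟩ := exists_pow_mem hA
  refine ⟨m, ?_⟩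
  have key : ∀ n : ℕ, ∃ d' ∈ D, (e * d) ^ n = e ^ n * d' := by
    intro n
    induction n with
    | zero => exact ⟨1, one_mem _, by simp⟩
    | succ n ih =>
      obtain ⟨d', hd', ih⟩ := ih
      refine ⟨e⁻¹ * d' * e * d, mul_mem ?_ hd, ?_⟩
      · have := conj_mem_of_norm (hD (inv_mem he)) hd'
        rwa [inv_inv] at this
      · rw [pow_succ, ih, pow_succ]
        group
  obtain ⟨d', hd', e1⟩ := key (p ^ m)
  rw [e1, hm e he, one_mul]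
  exact hd'

theorem exists_coprime_pow [Finite X] {p : ℕ} [hp : Fact p.Prime] (g : X) :
    ∃ k : ℕ, (orderOf (g ^ p ^ k)).Coprime p := by
  obtain ⟨a, m, hm, hn⟩ := Nat.exists_eq_pow_mul_and_not_dvd (orderOf_pos g).ne' p hp.out.ne_one
  refine ⟨a, ?_⟩
  have h1 : orderOf (g ^ p ^ a) = m := by
    rw [orderOf_pow, hn, Nat.gcd_eq_right (Dvd.intro _ rfl), Nat.mul_div_cancel_left _ (pow_pos hp.out.pos a)]
  rw [h1]
  exact ((Nat.Prime.coprime_iff_not_dvd hp.out).2 hm).symm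

theorem Lc_le_cs' {N H R₁ R₂ : Subgroup X} (h1 : H ≤ normalizer (R₁ : Set X))
    (h2 : H ≤ normalizer (R₂ : Set X)) (h : N ≤ cs R₁ R₂) : Lc N H ≤ cs R₁ R₂ :=
  Lc_le.2 fun _ hx _ hn => cs_conj h1 h2 hx (h hn)

namespace Par

variable {p : ℕ} [Fact p.Prime] [Finite X] {N E H H0 : Subgroup X} (h : Par p N E H H0)

include h

theorem exists_y : ∃ y ∈ N, y ∉ E := by
  by_contra hno
  push Not at hno
  have h1 := h.ix
  rw [relIndex_eq_one.2 hno] at h1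
  exact (Fact.out : p.Prime).one_lt.ne h1

/-- A `p'`-element of `L C` acts trivially on the `PT` sections. -/
theorem tau_mem_cs {τ : X} (tL : τ ∈ Lc N H ⊔ CE H E) (tp : (orderOf τ).Coprime p) {R₃ R₄ : Subgroup X}
    (h3 : R₃ ≤ E) (h4 : R₄ ≤ R₃) (n3 : H ≤ normalizer (R₃ : Set X)) (n4 : H ≤ normalizer (R₄ : Set X))
    (hpt : PT p (Lc N H) R₃ R₄) : τ ∈ cs R₃ R₄ := by
  have h1 : Lc N H ⊔ CE H E ≤ N ⊔ (H ⊓ cs R₃ R₄) := sup_le (h.L_le_of_pt h3 h4 n3 n4 hpt)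
    (le_sup_of_le_right (le_inf h.CH (h.le_cs h3 h4)))
  obtain ⟨k, hk⟩ := exists_pow_mem_sup h.pN (h.NH.trans (norm_inf (norm_self H) (norm_cs n3 n4))) (h1 tL)
  exact mem_cs_of_coprime tp hk.2

/-- A central subgroup of order `p` of a section of order `p²`. -/
theorem exists_Z {R₁ R₂ : Subgroup X} (hs : Sct p H R₁ R₂) (hRE : R₁ ≤ E) (hcard : R₂.relIndex R₁ = p ^ 2) :
    ∃ Z, R₂ ≤ Z ∧ Z ≤ R₁ ∧ R₂.relIndex Z = p ∧ N ≤ cs R₁ Z := by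
  have hpp : p.Prime := Fact.out
  have hne : ¬ R₁ ≤ R₂ := by
    intro hle
    rw [relIndex_eq_one.2 hle] at hcard
    exact (Nat.one_lt_pow (by norm_num) hpp.one_lt).ne hcard
  obtain ⟨z, hz, hz2, hzp, hzN⟩ := exists_mod_in h.pN (hRE.trans h.EN) hs.le hne (h.NH.trans hs.n2)
    (h.NH.trans hs.n1)
  obtain ⟨V, i1, i2, ⟨s⟩⟩ := hs.exists_rep
  have hfin : Module.Finite (ZMod p) V := s.finite
  have hrk : finrank (ZMod p) V = 2 := s.finrank_eq hs.le hcard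
  have hz0 : s.π z ≠ 0 := fun h0 => hz2 ((s.zero z hz).1 h0)
  obtain ⟨W, hW⟩ : ∃ W, W = Submodule.span (ZMod p) {s.π z} := ⟨_, rfl⟩
  have hWr : finrank (ZMod p) W = 1 := by rw [hW]; exact finrank_span_singleton hz0
  have hNW : N ≤ normalizer (s.pull W : Set X) := by
    refine s.pull_norm' h.NH hs.n1 ?_
    intro x hx v hv
    rw [hW] at hv ⊢
    obtain ⟨c, rfl⟩ := Submodule.mem_span_singleton.1 hv
    rw [map_smul, s.act _ z hz]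
    have : s.π (x * z * x⁻¹) = s.π z := (s.eq_iff (conj_mem_of_norm (hs.n1 (h.NH hx)) hz) hz).2 (hzN x hx)
    rw [this]
    exact Submodule.smul_mem _ _ (Submodule.mem_span_singleton_self _)
  refine ⟨s.pull W, s.le_pull hs.le W, s.pull_le W, ?_, ?_⟩
  · rw [s.relIndex_pull hs.le, hWr, pow_one]
  · intro n hn
    obtain ⟨k, hk⟩ := h.pN ⟨n, hn⟩
    have hk' : n ^ p ^ k = 1 := congrArg Subtype.val hk
    refine mem_cs_of_card (s.pull_le W) ?_ (hs.n1 (h.NH hn)) (hNW hn) (h.pE.to_le hRE) ?_ (k := k) ?_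
    · refine le_norm_of fun x hx a ha => ?_
      have h3 := hs.comm x hx a (s.pull_le _ ha)
      have e : x * a * x⁻¹ = x * a * x⁻¹ * a⁻¹ * a := by group
      rw [e]
      exact mul_mem (s.le_pull hs.le _ h3) ha
    · have := s.relIndex_pull_pull hs.le (le_top : W ≤ ⊤)
      rw [s.pull_top, finrank_top, hrk, hWr] at this
      rw [this]; simp
    · rw [hk']; exact one_mem _

/-- **The torus element** `-1`. -/
theorem exists_tau (hp2 : p ≠ 2) {R₁ R₂ Z : Subgroup X} (hs : Sct p H R₁ R₂) (hRE : R₁ ≤ E) (hE : E ≤ cs R₁ R₂)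
    (hcard : R₂.relIndex R₁ ≤ p ^ 3) (hnpt : ¬ PT p (Lc N H) R₁ R₂) (hZ2 : R₂ ≤ Z) (hZ1 : Z ≤ R₁)
    (hZc : R₂.relIndex Z = p) (hZN : N ≤ cs R₁ Z) :
    ∃ (V₁ V₂ : Subgroup X) (τ : X), Tau p N E H H0 R₁ R₂ V₁ V₂ τ := by
  have hpp : p.Prime := Fact.out
  obtain ⟨y, hy, hyE⟩ := h.exists_y
  have hyH : y ∈ H := h.NH hy
  obtain ⟨V, i1, i2, ⟨s⟩⟩ := hs.exists_rep
  have hfin : Module.Finite (ZMod p) V := s.finite
  have hrk : finrank (ZMod p) V ≤ 3 := s.finrank_le hs.le hcard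
  have hρ1 : ∀ x : H, (x : X) ∈ cs R₁ R₂ ↔ s.ρ x = 1 := fun x => s.mem_cs_iff hs.n1 hs.n2 x
  -- `Z` is normalized by `y`, trivially
  have hyZn : y ∈ normalizer (Z : Set X) := (hZN hy).1
  have hycZ : y ∈ cs Z R₂ := by
    obtain ⟨k, hk⟩ := h.pN ⟨y, hy⟩
    have hk' : y ^ p ^ k = 1 := congrArg Subtype.val hk
    refine mem_cs_of_card hZ2 (hZ1.trans hs.n12) hyZn (hs.n2 hyH) (h.pE.to_le (hZ1.trans hRE)) hZc.le (k := k) ?_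
    rw [hk']; exact one_mem _
  -- the line
  have hWr : finrank (ZMod p) (s.push Z hZ1) = 1 := by
    have h1 := s.relIndex_pull hs.le (s.push Z hZ1)
    rw [s.pull_push hZ1 hZ2, hZc] at h1
    exact (Nat.pow_right_injective hpp.two_le (by show p ^ 1 = _; rw [pow_one]; exact h1)).symm
  obtain ⟨z', hz', hzgen⟩ := finrank_eq_one_iff'.1 hWr
  obtain ⟨z, hzW⟩ := z'
  have hz0 : z ≠ 0 := fun h0 => hz' (Subtype.ext h0)
  have hdiff : ∀ v : V, s.ρ ⟨y, hyH⟩ v - v ∈ s.push Z hZ1 := by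
    intro v
    obtain ⟨r, hr, rfl⟩ := s.surj v
    refine ⟨y * r * y⁻¹ * r⁻¹, (hZN hy).2 r hr, ?_⟩
    rw [s.act _ r hr, s.add _ (conj_mem_of_norm (hs.n1 hyH) hr) _ (inv_mem hr), s.inv hr, sub_eq_add_neg]
  -- a functional with value `1` at `z`
  obtain ⟨g₀, hg₀⟩ : ∃ g₀ : V →ₗ[ZMod p] ZMod p, g₀ z ≠ 0 := by
    by_contra hno
    push Not at hno
    exact hz0 ((Module.forall_dual_apply_eq_zero_iff (ZMod p) z).1 hno)
  obtain ⟨g₁, hg₁⟩ : ∃ g₁ : V →ₗ[ZMod p] ZMod p, g₁ z = 1 :=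
    ⟨(g₀ z)⁻¹ • g₀, by rw [LinearMap.smul_apply, smul_eq_mul, inv_mul_cancel₀ hg₀]⟩
  obtain ⟨f, hf⟩ : ∃ f : V →ₗ[ZMod p] ZMod p, ∀ v, s.ρ ⟨y, hyH⟩ v = v + f v • z := by
    refine ⟨g₁ ∘ₗ ((s.ρ ⟨y, hyH⟩ : V ≃ₗ[ZMod p] V).toLinearMap - LinearMap.id), fun v => ?_⟩
    obtain ⟨c, hc⟩ := hzgen ⟨_, hdiff v⟩
    have hc' : c • z = s.ρ ⟨y, hyH⟩ v - v := congrArg Subtype.val hc
    have h1 : (g₁ ∘ₗ ((s.ρ ⟨y, hyH⟩ : V ≃ₗ[ZMod p] V).toLinearMap - LinearMap.id)) v =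
      g₁ (s.ρ ⟨y, hyH⟩ v - v) := rfl
    rw [h1, ← hc', map_smul, hg₁, smul_eq_mul, mul_one, hc']
    abel
  have hyρ : s.ρ ⟨y, hyH⟩ ≠ 1 := by
    intro h1
    exact hyE (h.not_mem_of_not_pt hs.n1 hs.n2 hnpt hy ((hρ1 ⟨y, hyH⟩).2 h1))
  have hf0 : f ≠ 0 := by
    rintro rfl
    apply hyρ
    ext v
    rw [hf]
    simp
  have hfz : f z = 0 := by
    obtain ⟨a, ha, rfl⟩ := hzW
    have h1 := hf (s.π a)
    rw [s.act _ a (hZ1 ha), (s.eq_iff (conj_mem_of_norm (hs.n1 hyH) (hZ1 ha)) (hZ1 ha)).2 (hycZ.2 a ha)] at h1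
    have h2 : f (s.π a) • s.π a = 0 := left_eq_add.mp h1
    exact (smul_eq_zero.1 h2).resolve_right hz0
  -- the group `X̄ = ρ(H)`
  obtain ⟨ρ', hρ'⟩ : ∃ ρ' : s.ρ.range →* (V ≃ₗ[ZMod p] V), ∀ x, ρ' x = x.1 := ⟨s.ρ.range.subtype, fun _ => rfl⟩
  have hinj : Function.Injective ρ' := by
    intro a b hab
    rw [hρ', hρ'] at hab
    exact Subtype.ext hab
  have hfinR : Finite s.ρ.range := Finite.of_surjective _ s.ρ.rangeRestrict_surjective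
  have hfinV : Finite (V ≃ₗ[ZMod p] V) := by
    have : Finite V := Module.finite_of_finite (ZMod p)
    exact Finite.of_injective (fun f : V ≃ₗ[ZMod p] V => (f : V → V)) DFunLike.coe_injective
  have h2 : ¬ p ^ 2 ∣ Nat.card s.ρ.range := by
    let ψ : N →* (V ≃ₗ[ZMod p] V) := s.ρ.comp (inclusion h.NH)
    have hψ : Nat.card ψ.range ∣ p := by
      have h1 : Nat.card ψ.range = ψ.ker.index := (index_ker ψ).symm
      rw [h1]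
      have h2 : E.subgroupOf N ≤ ψ.ker := by
        intro e he
        rw [mem_subgroupOf] at he
        rw [MonoidHom.mem_ker]
        exact (hρ1 ⟨e, _⟩).1 (hE he)
      have h3 := index_dvd_of_le h2
      have h4 : (E.subgroupOf N).index = p := h.ix
      rwa [h4] at h3
    have hle : ψ.range ≤ s.ρ.range := by
      rintro _ ⟨x, rfl⟩
      exact ⟨inclusion h.NH x, rfl⟩
    have h3 : ¬ p ∣ ψ.range.relIndex s.ρ.range := by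
      intro hdvd
      have h4 : s.ρ.range = (⊤ : Subgroup H).map s.ρ := by rw [← MonoidHom.range_eq_map]
      rw [h4, ← Subgroup.relIndex_comap, relIndex_top_right] at hdvd
      apply h.syl
      refine hdvd.trans ?_
      have h5 : (N ⊔ CE H E).subgroupOf H ≤ ψ.range.comap s.ρ := by
        rw [Subgroup.subgroupOf_sup h.NH h.CH]
        refine sup_le ?_ ?_
        · intro x hx
          rw [mem_subgroupOf] at hx
          exact ⟨⟨x, hx⟩, rfl⟩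
        · intro x hx
          rw [mem_subgroupOf] at hx
          rw [mem_comap, (hρ1 x).1 (h.le_cs hRE hs.le hx)]
          exact one_mem _
      exact index_dvd_of_le h5
    have h4 : Nat.card s.ρ.range = Nat.card ψ.range * ψ.range.relIndex s.ρ.range := by
      have := Subgroup.card_mul_index (ψ.range.subgroupOf s.ρ.range)
      rw [← this]
      congr 1
      exact Nat.card_congr (Subgroup.subgroupOfEquivOfLe hle).toEquiv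
    intro hdvd
    rw [h4] at hdvd
    have h5 : (p ^ 2).Coprime (ψ.range.relIndex s.ρ.range) :=
      Nat.Coprime.pow_left 2 ((Nat.Prime.coprime_iff_not_dvd hpp).2 h3)
    have h6 := (Nat.Coprime.dvd_of_dvd_mul_right h5 hdvd).trans hψ
    have h7 := Nat.le_of_dvd hpp.pos h6
    nlinarith [hpp.two_le]
  -- the conjugates of `y`
  have hNK : ∀ (K : Subgroup (V ≃ₗ[ZMod p] V)), s.ρ ⟨y, hyH⟩ ∈ K → ∀ n (hn : n ∈ N), s.ρ ⟨n, h.NH hn⟩ ∈ K := by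
    intro K hK n hn
    have h1 := h.le_of_not_mem (K := (K.comap s.ρ).map H.subtype) hy hyE (by
      intro e he
      refine ⟨⟨e, h.EH he⟩, ?_, rfl⟩
      show s.ρ ⟨e, h.EH he⟩ ∈ K
      rw [(hρ1 ⟨e, h.EH he⟩).1 (hE he)]
      exact one_mem _) ⟨⟨y, hyH⟩, hK, rfl⟩ hn
    obtain ⟨x, hx, hx'⟩ := h1
    have : x = ⟨n, h.NH hn⟩ := Subtype.ext hx'
    rw [← this]
    exact hx
  have hyp : s.ρ ⟨y, hyH⟩ ^ p = 1 := by
    have h1 := GL3.tr_pow (ρ := MonoidHom.id (V ≃ₗ[ZMod p] V)) Function.injective_id hfz hf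
    exact h1
  obtain ⟨t, ht⟩ : ∃ t : s.ρ.range, t = ⟨s.ρ ⟨y, hyH⟩, ⟨_, rfl⟩⟩ := ⟨_, rfl⟩
  have htρ : ∀ v, ρ' t v = v + f v • z := fun v => by rw [hρ', ht]; exact hf v
  obtain ⟨g, hg⟩ : ∃ g : s.ρ.range, g * t * g⁻¹ ∉ zpowers t := by
    by_contra hno
    push Not at hno
    apply hnpt
    have hLK : Lc N H ≤ ((zpowers (s.ρ ⟨y, hyH⟩)).comap s.ρ).map H.subtype := by
      rw [Lc_le]
      intro x hx n hn
      obtain ⟨k, hk⟩ := hNK (zpowers (s.ρ ⟨y, hyH⟩)) (mem_zpowers _) n hn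
      refine ⟨⟨x, hx⟩ * ⟨n, h.NH hn⟩ * (⟨x, hx⟩ : H)⁻¹, ?_, rfl⟩
      show s.ρ (⟨x, hx⟩ * ⟨n, h.NH hn⟩ * (⟨x, hx⟩ : H)⁻¹) ∈ zpowers (s.ρ ⟨y, hyH⟩)
      obtain ⟨m, hm⟩ := hno ⟨s.ρ ⟨x, hx⟩, ⟨_, rfl⟩⟩
      have hm' : s.ρ ⟨y, hyH⟩ ^ m = s.ρ ⟨x, hx⟩ * s.ρ ⟨y, hyH⟩ * (s.ρ ⟨x, hx⟩)⁻¹ := by
        have := congrArg Subtype.val hm
        rw [ht] at this
        exact this
      have hk' : s.ρ ⟨y, hyH⟩ ^ k = s.ρ ⟨n, h.NH hn⟩ := hk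
      rw [map_mul, map_mul, map_inv, ← hk', ← conj_zpow, ← hm']
      exact zpow_mem (zpow_mem (mem_zpowers _) _) _
    intro l hl
    obtain ⟨x, ⟨k, hk⟩, rfl⟩ := hLK hl
    refine ⟨1, ?_⟩
    have h3 : ((x ^ p ^ 1 : H) : X) ∈ cs R₁ R₂ := by
      rw [hρ1, map_pow]
      have hk' : s.ρ ⟨y, hyH⟩ ^ k = s.ρ x := hk
      rw [← hk', pow_one, ← zpow_natCast, ← zpow_mul, mul_comm, zpow_mul, zpow_natCast, hyp, one_zpow]
    exact h3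
  obtain ⟨g', w', hpl⟩ := GL3.exists_plane hinj hrk h2 hf0 hz0 hfz htρ hg
  -- the opposite transvection is realized in `L`
  obtain ⟨l, hl, hlρ⟩ : ∃ l, ∃ hl : l ∈ Lc N H, ∀ v, s.ρ ⟨l, h.LH hl⟩ v = v + g' v • w' := by
    obtain ⟨⟨_, x, rfl⟩, -, hx⟩ := hpl.tr'
    have hx' : ∀ v, s.ρ x v = v + g' v • w' := fun v => by have := hx v; rwa [hρ'] at this
    have hxp : s.ρ x ^ p = 1 :=
      GL3.tr_pow (ρ := MonoidHom.id (V ≃ₗ[ZMod p] V)) Function.injective_id hpl.fz' hx'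
    have hD : H ≤ normalizer ((H ⊓ cs R₁ R₂ : Subgroup X) : Set X) := norm_inf (norm_self H) (norm_cs hs.n1 hs.n2)
    have hCD : CE H E ≤ H ⊓ cs R₁ R₂ := le_inf h.CH (h.le_cs hRE hs.le)
    obtain ⟨b, hb, hbQ⟩ := exists_conj (Q := zpowers (x : X)) h.pN h.NH inf_le_left hD
      (h.syl_of hCD (sup_le h.NH inf_le_left) le_rfl) (by rw [zpowers_le]; exact x.2) (by
      rintro _ ⟨n, rfl⟩
      refine ⟨1, ?_⟩
      have h3 : (((x ^ n) ^ p ^ 1 : H) : X) ∈ cs R₁ R₂ := by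
        rw [hρ1, map_pow, map_zpow, pow_one, ← zpow_natCast, ← zpow_mul, mul_comm, zpow_mul, zpow_natCast,
          hxp, one_zpow]
      have h4 : ((x : X) ^ n) ^ p ^ 1 = (((x ^ n) ^ p ^ 1 : H) : X) := by push_cast; rfl
      show ((x : X) ^ n) ^ p ^ 1 ∈ _
      rw [h4]
      exact ⟨((x ^ n) ^ p ^ 1 : H).2, h3⟩)
    have h3 := hbQ x (mem_zpowers _)
    have h4 : N ⊔ (H ⊓ cs R₁ R₂) ≤ Lc N H ⊔ (H ⊓ cs R₁ R₂) := sup_le_sup_right (le_Lc N H) _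
    have h5 := conj_mem_of_norm (norm_sup (norm_Lc N H) hD (inv_mem hb)) (h4 h3)
    have e : b⁻¹ * (b * (x : X) * b⁻¹) * b⁻¹⁻¹ = x := by group
    rw [e] at h5
    obtain ⟨l, hl, d, hd, hld⟩ := (mem_sup_iff (h.LH.trans hD)).1 h5
    refine ⟨l, hl, fun v => ?_⟩
    have h6 : x = ⟨l, h.LH hl⟩ * ⟨d, hd.1⟩ := Subtype.ext hld.symm
    rw [← hx', h6, map_mul, (hρ1 ⟨d, hd.1⟩).1 hd.2, mul_one]
  -- `ρ(y)`, `ρ(l)⁻¹`
  have hlinv : ∀ v, s.ρ (⟨l, h.LH hl⟩ : H)⁻¹ v = v - g' v • w' := by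
    intro v
    have h3 : s.ρ ⟨l, h.LH hl⟩ (v - g' v • w') = v := by
      rw [hlρ, map_sub, map_smul, hpl.fz', smul_zero, sub_zero, sub_add_cancel]
    rw [map_inv]
    conv_lhs => rw [← h3]
    exact (s.ρ ⟨l, h.LH hl⟩).symm_apply_apply _
  obtain ⟨τ₀, hτ₀L, hτ₀⟩ : ∃ τ₀, ∃ hτ : τ₀ ∈ Lc N H, ∀ v, s.ρ ⟨τ₀, h.LH hτ⟩ v =
      v - (2 * g' v) • z - (2 * f v) • w' := by
    have hyL : y ∈ Lc N H := le_Lc N H hy
    obtain ⟨w, hwL, hw⟩ : ∃ w, ∃ hw : w ∈ Lc N H, ∀ v, s.ρ ⟨w, h.LH hw⟩ v =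
        v + (f v - g' v) • z - (f v + g' v) • w' := by
      refine ⟨y * l⁻¹ * y, mul_mem (mul_mem hyL (inv_mem hl)) hyL, fun v => ?_⟩
      have e : (⟨y * l⁻¹ * y, h.LH (mul_mem (mul_mem hyL (inv_mem hl)) hyL)⟩ : H) =
        ⟨y, hyH⟩ * (⟨l, h.LH hl⟩ : H)⁻¹ * ⟨y, hyH⟩ := rfl
      rw [e, map_mul, map_mul]
      show s.ρ ⟨y, hyH⟩ (s.ρ (⟨l, h.LH hl⟩ : H)⁻¹ (s.ρ ⟨y, hyH⟩ v)) = _
      rw [hf v, hlinv, hf]
      simp only [map_add, map_sub, map_smul, hfz, hpl.one, hpl.one', smul_eq_mul, mul_one, mul_zero, add_zero]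
      module
    refine ⟨w * w, mul_mem hwL hwL, fun v => ?_⟩
    have e : (⟨w * w, h.LH (mul_mem hwL hwL)⟩ : H) = ⟨w, h.LH hwL⟩ * ⟨w, h.LH hwL⟩ := rfl
    rw [e, map_mul]
    show s.ρ ⟨w, h.LH hwL⟩ (s.ρ ⟨w, h.LH hwL⟩ v) = _
    rw [hw v, hw]
    simp only [map_add, map_sub, map_smul, hfz, hpl.fz', hpl.one, hpl.one', smul_eq_mul, mul_one, mul_zero,
      add_zero, sub_zero]
    module
  have hτ₀y : s.ρ ⟨τ₀, h.LH hτ₀L⟩ * s.ρ ⟨y, hyH⟩ = s.ρ ⟨y, hyH⟩ * s.ρ ⟨τ₀, h.LH hτ₀L⟩ := by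
    ext v
    show s.ρ ⟨τ₀, h.LH hτ₀L⟩ (s.ρ ⟨y, hyH⟩ v) = s.ρ ⟨y, hyH⟩ (s.ρ ⟨τ₀, h.LH hτ₀L⟩ v)
    rw [hf v, hτ₀, hτ₀ v, hf]
    simp only [map_add, map_sub, map_smul, hfz, hpl.fz', hpl.one, hpl.one', smul_eq_mul, mul_one, mul_zero,
      add_zero, sub_zero]
    module
  have hτ₀sq : s.ρ ⟨τ₀, h.LH hτ₀L⟩ * s.ρ ⟨τ₀, h.LH hτ₀L⟩ = 1 := by
    ext v
    show s.ρ ⟨τ₀, h.LH hτ₀L⟩ (s.ρ ⟨τ₀, h.LH hτ₀L⟩ v) = v
    rw [hτ₀ v, hτ₀]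
    simp only [map_add, map_sub, map_smul, hfz, hpl.fz', hpl.one, hpl.one', smul_eq_mul, mul_one, mul_zero,
      add_zero, sub_zero]
    module
  have hτ₀N : ∀ n ∈ N, τ₀ * n * τ₀⁻¹ * n⁻¹ ∈ Lc N H ⊓ cs R₁ R₂ := by
    intro n hn
    refine Subgroup.mem_inf.2 ⟨mul_mem (mul_mem (mul_mem hτ₀L (le_Lc N H hn)) (inv_mem hτ₀L))
      (inv_mem (le_Lc N H hn)), ?_⟩
    have h3 : s.ρ ⟨n, h.NH hn⟩ ∈ centralizer ({s.ρ ⟨τ₀, h.LH hτ₀L⟩} : Set (V ≃ₗ[ZMod p] V)) := by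
      refine hNK _ ?_ n hn
      rw [mem_centralizer_singleton_iff]
      exact hτ₀y.symm
    rw [mem_centralizer_singleton_iff] at h3
    have h4 : s.ρ (⟨τ₀, h.LH hτ₀L⟩ * ⟨n, h.NH hn⟩ * (⟨τ₀, h.LH hτ₀L⟩ : H)⁻¹ * (⟨n, h.NH hn⟩ : H)⁻¹) = 1 := by
      rw [map_mul, map_mul, map_mul, map_inv, map_inv, ← h3]
      group
    exact (hρ1 _).2 h4
  obtain ⟨d, hd, hd0⟩ := h.ext' (D := (Lc N H ⊓ cs R₁ R₂) ⊔ CE H E) le_sup_right
    (sup_le (inf_le_left.trans h.LH) h.CH)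
    (norm_sup (norm_inf (norm_Lc N H) (norm_cs hs.n1 hs.n2)) h.normC) (h.LH hτ₀L) (fun n hn => by
      have h3 := mul_mem (mem_sup_right (mem_sup_left (hτ₀N n hn)) : _ ∈ N ⊔ ((Lc N H ⊓ cs R₁ R₂) ⊔ CE H E))
        (mem_sup_left hn)
      rwa [inv_mul_cancel_right] at h3)
  have hdH : d ∈ H := (sup_le (inf_le_left.trans h.LH) h.CH) hd
  have hdc : d ∈ cs R₁ R₂ := (sup_le inf_le_right (h.le_cs hRE hs.le)) hd
  obtain ⟨k, hk⟩ := exists_coprime_pow (p := p) (τ₀ * d)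
  obtain ⟨τ, hτdef⟩ : ∃ τ, τ = (τ₀ * d) ^ p ^ k := ⟨_, rfl⟩
  rw [← hτdef] at hk
  have hτH : τ ∈ H := hτdef ▸ pow_mem (mul_mem (h.LH hτ₀L) hdH) _
  have hodd : Odd (p ^ k) := (hpp.odd_of_ne_two hp2).pow
  have hτρ : ∀ v, s.ρ ⟨τ, hτH⟩ v = v - (2 * g' v) • z - (2 * f v) • w' := by
    intro v
    have e : (⟨τ, hτH⟩ : H) = (⟨τ₀, h.LH hτ₀L⟩ * ⟨d, hdH⟩) ^ p ^ k := Subtype.ext hτdef
    rw [e, map_pow, map_mul, (hρ1 ⟨d, hdH⟩).1 hdc, mul_one]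
    obtain ⟨m, hm⟩ := hodd
    rw [hm, pow_succ, pow_mul, pow_two, hτ₀sq, one_pow, one_mul, hτ₀]
  have hτN : ∀ n ∈ N, τ * n * τ⁻¹ * n⁻¹ ∈ cs R₁ R₂ := by
    intro n hn
    have h3 : s.ρ ⟨n, h.NH hn⟩ ∈ centralizer ({s.ρ ⟨τ, hτH⟩} : Set (V ≃ₗ[ZMod p] V)) := by
      refine hNK _ ?_ n hn
      rw [mem_centralizer_singleton_iff]
      have e : s.ρ ⟨τ, hτH⟩ = s.ρ ⟨τ₀, h.LH hτ₀L⟩ := by
        ext v; rw [hτρ, hτ₀]
      rw [e]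
      exact hτ₀y.symm
    rw [mem_centralizer_singleton_iff] at h3
    have h4 : s.ρ (⟨τ, hτH⟩ * ⟨n, h.NH hn⟩ * (⟨τ, hτH⟩ : H)⁻¹ * (⟨n, h.NH hn⟩ : H)⁻¹) = 1 := by
      rw [map_mul, map_mul, map_mul, map_inv, map_inv, ← h3]
      group
    exact (hρ1 _).2 h4
  have hτ0 : τ ∈ H0 := hτdef ▸ pow_mem hd0 _
  have hn2 : H ≤ normalizer (s.pull (GL3.Plane.U (p := p) z w') : Set X) := by
    refine s.pull_norm hs.n1 fun x v hv => ?_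
    have := hpl.invU ⟨s.ρ x, ⟨x, rfl⟩⟩ hv
    rwa [hρ'] at this
  have hn1 : H ≤ normalizer (s.pull (GL3.Plane.L f g') : Set X) := by
    refine s.pull_norm hs.n1 fun x v hv => ?_
    have := hpl.invL ⟨s.ρ x, ⟨x, rfl⟩⟩ hv
    rwa [hρ'] at this
  have hL2 : Lc N H ≤ cs R₁ (s.pull (GL3.Plane.U (p := p) z w')) := by
    refine Lc_le_cs' hs.n1 hn2 (h.le_of_not_mem hy hyE (fun e he =>
      cs_mono le_rfl (s.le_pull hs.le _) (hE he) (hn2 (h.EH he))) ⟨hn2 hyH, fun r hr => ?_⟩)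
    refine ⟨mul_mem (conj_mem_of_norm (hs.n1 hyH) hr) (inv_mem hr), ?_⟩
    have h3 := s.act ⟨y, hyH⟩ r hr
    rw [s.add _ (conj_mem_of_norm (hs.n1 hyH) hr) _ (inv_mem hr), s.inv hr, ← h3, hf]
    rw [GL3.Plane.mem_U]
    exact ⟨f (s.π r), 0, by simp⟩
  refine ⟨s.pull (GL3.Plane.L f g'), s.pull (GL3.Plane.U (p := p) z w'), τ, s.le_pull hs.le _, s.pull_le _,
    s.le_pull hs.le _, s.pull_le _, ?_, ?_, hn1, hn2, ?_, ?_, hL2, ?_, hτ0, ?_, hk, ?_, ?_, ?_⟩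
  · intro r hr
    have h3 : s.π r ∈ GL3.Plane.U (p := p) z w' ⊔ GL3.Plane.L f g' := by rw [hpl.sup_eq]; trivial
    obtain ⟨a, ha, b, hb, hab⟩ := Submodule.mem_sup.1 h3
    obtain ⟨c, hc, rfl⟩ := s.surj a
    refine ⟨r * c⁻¹, ⟨mul_mem hr (inv_mem hc), ?_⟩, c, ⟨hc, ha⟩, by group⟩
    rw [s.add _ hr _ (inv_mem hc), s.inv hc, ← hab]
    have e : s.π c + b + -s.π c = b := by abel
    rw [e]; exact hb
  · rintro r ⟨hr, h3⟩ ⟨-, h4⟩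
    rw [← s.zero r hr]
    have : s.π r ∈ GL3.Plane.U (p := p) z w' ⊓ GL3.Plane.L f g' := Submodule.mem_inf.2 ⟨h4, h3⟩
    rw [hpl.inf_eq] at this
    exact (Submodule.mem_bot _).1 this
  · rw [s.relIndex_pull hs.le, hpl.finrank_U]
  · refine Lc_le_cs' hn1 hs.n2 (h.le_of_not_mem hy hyE (fun e he =>
      cs_mono (s.pull_le _) le_rfl (hE he) (hs.n2 (h.EH he))) ⟨hs.n2 hyH, fun r hr => ?_⟩)
    have h3 := s.act ⟨y, hyH⟩ r hr.1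
    rw [← s.zero _ (mul_mem (conj_mem_of_norm (hs.n1 hyH) hr.1) (inv_mem hr.1)),
      s.add _ (conj_mem_of_norm (hs.n1 hyH) hr.1) _ (inv_mem hr.1), s.inv hr.1, ← h3, hf,
      (GL3.Plane.mem_L.1 hr.2).1]
    simp
  · intro hpt
    exact hnpt (PT.trans (h.pE.to_le ((s.pull_le _).trans hRE)) (PT.of_cs hL2) hpt)
  · rw [hτdef]
    exact pow_mem (mul_mem (mem_sup_left hτ₀L)
      ((sup_le_sup_right (inf_le_left : Lc N H ⊓ cs R₁ R₂ ≤ Lc N H) (CE H E)) hd)) _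
  · refine ⟨hs.n2 hτH, fun r hr => ?_⟩
    have h3 := s.act ⟨τ, hτH⟩ r hr.1
    rw [← s.zero _ (mul_mem (conj_mem_of_norm (hs.n1 hτH) hr.1) (inv_mem hr.1)),
      s.add _ (conj_mem_of_norm (hs.n1 hτH) hr.1) _ (inv_mem hr.1), s.inv hr.1, ← h3, hτρ,
      (GL3.Plane.mem_L.1 hr.2).1, (GL3.Plane.mem_L.1 hr.2).2]
    simp
  · intro r hr
    have h3 := s.act ⟨τ, hτH⟩ r hr.1
    rw [← s.zero _ (mul_mem (conj_mem_of_norm (hs.n1 hτH) hr.1) hr.1),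
      s.add _ (conj_mem_of_norm (hs.n1 hτH) hr.1) _ hr.1, ← h3, hτρ]
    obtain ⟨a, b, hab⟩ := GL3.Plane.mem_U.1 hr.2
    rw [← hab]
    simp only [map_add, map_smul, hfz, hpl.fz', hpl.one, hpl.one', smul_eq_mul, mul_one, mul_zero, add_zero,
      zero_add]
    module
  · refine ⟨h.HE hτH, fun n hn => ?_⟩
    exact h.not_mem_of_not_pt hs.n1 hs.n2 hnpt
      (mul_mem (conj_mem_of_norm (h.H0N hτ0) hn) (inv_mem hn)) (hτN n hn)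

end Par

end Cfsg.Agent.H765
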